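import Mathlib.RingTheory.Flat.FaithfullyFlat.Basic
import Mathlib.RingTheory.Flat.FaithfullyFlat.Algebra
import Mathlib.RingTheory.RingHom.FaithfullyFlat
import Mathlib.RingTheory.RingHom.Flat
import Mathlib.AlgebraicGeometry.Morphisms.Flat

/-!
# Flatness is local on the source for flat surjective families
-/

set_option autoImplicit false
universe u
open CategoryTheory CategoryTheory.Limits AlgebraicGeometry TensorProduct

namespace Groth.Agent.Helper16.AS

/-- If `C` is faithfully flat over `B` and flat over `A`, then `B` is flat over `A`. -/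
theorem flat_of_flat_of_faithfullyFlat_tower (A B C : Type*) [CommRing A] [CommRing B]
    [CommRing C] [Algebra A B] [Algebra B C] [Algebra A C] [IsScalarTower A B C]
    [Module.FaithfullyFlat B C] [Module.Flat A C] : Module.Flat A B := by
  rw [Module.Flat.iff_lTensor_preserves_injective_linearMap]
  intro N P _ _ _ _ f hf
  let F : B ⊗[A] N →ₗ[B] B ⊗[A] P :=
    TensorProduct.AlgebraTensorModule.map (LinearMap.id : B →ₗ[B] B) f
  have hF : ⇑F = ⇑(LinearMap.lTensor B f) := by
    ext x
    rfl
  rw [← hF, ← Module.FaithfullyFlat.lTensor_injective_iff_injective B C]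
  have key : ∀ x : C ⊗[B] (B ⊗[A] N),
      TensorProduct.AlgebraTensorModule.cancelBaseChange A B C C P (LinearMap.lTensor C F x) =
      LinearMap.lTensor C f (TensorProduct.AlgebraTensorModule.cancelBaseChange A B C C N x) := by
    intro x
    induction x using TensorProduct.induction_on with
    | zero => simp
    | add x y hx hy => simp only [map_add, hx, hy]
    | tmul c y =>
      induction y using TensorProduct.induction_on with
      | zero => simp
      | add x y hx hy => simp only [TensorProduct.tmul_add, map_add, hx, hy]
      | tmul b n => simp [F]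
  have h1 : Function.Injective (LinearMap.lTensor C f) :=
    Module.Flat.lTensor_preserves_injective_linearMap f hf
  have h2 : Function.Injective ((TensorProduct.AlgebraTensorModule.cancelBaseChange A B C C P) ∘
      (LinearMap.lTensor C F)) := by
    have : (TensorProduct.AlgebraTensorModule.cancelBaseChange A B C C P) ∘
      (LinearMap.lTensor C F) = (LinearMap.lTensor C f) ∘
        (TensorProduct.AlgebraTensorModule.cancelBaseChange A B C C N) := funext key
    rw [this]
    exact h1.comp (TensorProduct.AlgebraTensorModule.cancelBaseChange A B C C N).injective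
  exact Function.Injective.of_comp h2

theorem RingHom.Flat.of_comp_faithfullyFlat {A B C : Type*} [CommRing A] [CommRing B]
    [CommRing C] (φ : A →+* B) (ψ : B →+* C) (hψ : ψ.FaithfullyFlat) (h : (ψ.comp φ).Flat) :
    φ.Flat := by
  algebraize [φ, ψ, ψ.comp φ]
  exact flat_of_flat_of_faithfullyFlat_tower A B C

end Groth.Agent.Helper16.AS

namespace Groth.Agent.Helper16.AS

/-- Flatness is local on the source for jointly surjective families of flat morphisms. -/
theorem flat_of_flat_comp_of_jointly_surjective {ι : Type*} {U V : Scheme.{u}} (h : U ⟶ V)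
    {W : ι → Scheme.{u}} (e : ∀ i, W i ⟶ U) (hflat : ∀ i, Flat (e i))
    (hsurj : ∀ x : U, ∃ i, x ∈ Set.range (e i)) (hc : ∀ i, Flat (e i ≫ h)) : Flat h := by
  rw [Flat.iff_flat_stalkMap]
  intro x
  obtain ⟨i, w, rfl⟩ := hsurj x
  have h1 := (Flat.iff_flat_stalkMap (f := e i ≫ h)).1 (hc i) w
  rw [Scheme.Hom.stalkMap_comp] at h1
  have h1' : (((e i).stalkMap w).hom.comp (h.stalkMap ((e i) w)).hom).Flat := h1
  have h2 := (Flat.iff_flat_stalkMap (f := e i)).1 (hflat i) w
  refine RingHom.Flat.of_comp_faithfullyFlat _ ((e i).stalkMap w).hom ?_ h1'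
  algebraize [((e i).stalkMap w).hom]
  haveI : IsLocalHom (algebraMap ((U.presheaf.stalk ((e i) w))) ((W i).presheaf.stalk w)) :=
    (inferInstance : IsLocalHom ((e i).stalkMap w).hom)
  exact Module.FaithfullyFlat.of_flat_of_isLocalHom

end Groth.Agent.Helper16.AS
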