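import Groth.Agent.Lib.Helper16.AlgSp.FibNoeth
import Groth.Agent.Lib.Helper15.AlgSpNoeth
import Groth.Agent.Lib.Helper15.AlgSpField

set_option autoImplicit false
set_option linter.style.haveILetI false
universe u
open CategoryTheory CategoryTheory.Limits AlgebraicGeometry MorphismProperty
open AlgSp Groth.Agent.Helper15

namespace Groth.Agent.Helper16.AS

/-- Locally Noetherian descends along affine flat surjective morphisms. -/
theorem isLocallyNoetherian_of_affine_flat_surjective {V' V : Scheme.{u}} (π : V' ⟶ V)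
    [Flat π] [IsAffineHom π] [Surjective π] [IsLocallyNoetherian V'] :
    IsLocallyNoetherian V := by
  rw [isLocallyNoetherian_iff_of_affine_openCover V.affineCover]
  intro i
  haveI : IsLocallyNoetherian (pullback π (V.affineCover.f i)) :=
    isLocallyNoetherian_of_isOpenImmersion (pullback.fst π (V.affineCover.f i))
  haveI : IsAffine (pullback π (V.affineCover.f i)) :=
    isAffine_of_isAffineHom (pullback.snd π (V.affineCover.f i))
  have hff : (pullback.snd π (V.affineCover.f i)).appTop.hom.FaithfullyFlat :=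
    (Flat.flat_and_surjective_iff_faithfullyFlat_of_isAffine _).1 ⟨inferInstance, inferInstance⟩
  haveI : IsNoetherianRing Γ(pullback π (V.affineCover.f i), ⊤) :=
    IsLocallyNoetherian.component_noetherian ⟨⊤, isAffineOpen_top _⟩
  algebraize [(pullback.snd π (V.affineCover.f i)).appTop.hom]
  exact isNoetherianRing_of_faithfullyFlat (A := Γ(V.affineCover.X i, ⊤))
    (B := Γ(pullback π (V.affineCover.f i), ⊤))

variable {S : Scheme.{u}}

/-- Base change of a chart along a morphism of schemes on the base. -/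
theorem exists_chart_bc {P₀ P₁ : Sp S} {T₀ T₁ : Over S} (α : T₁ ⟶ T₀)
    (snd₀ : P₀ ⟶ (yon S).obj T₀) (fst : P₁ ⟶ P₀) (snd₁ : P₁ ⟶ (yon S).obj T₁)
    (sq : IsPullback fst snd₁ snd₀ ((yon S).map α)) {U₀ : Over S} (a₀ : (yon S).obj U₀ ⟶ P₀) :
    ∃ (U₁ : Over S) (a₁ : (yon S).obj U₁ ⟶ P₁) (ψ : U₁ ⟶ U₀) (φ₁ : U₁ ⟶ T₁) (φ₀ : U₀ ⟶ T₀),
      IsPullback a₁ ((yon S).map ψ) fst a₀ ∧ IsPullback ψ.left φ₁.left φ₀.left α.left := by
  obtain ⟨φ₀, hφ₀⟩ := (yon S).map_surjective (a₀ ≫ snd₀)
  have sqU := IsPullback.of_hasPullback φ₀ α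
  have sqY := sqU.map (yon S)
  have hw : ((yon S).map (pullback.fst φ₀ α) ≫ a₀) ≫ snd₀ =
      (yon S).map (pullback.snd φ₀ α) ≫ (yon S).map α := by
    rw [Category.assoc, ← hφ₀, sqY.w]
  refine ⟨pullback φ₀ α, sq.lift _ _ hw, pullback.fst φ₀ α, pullback.snd φ₀ α, φ₀, ?_,
    sqU.map (Over.forget S)⟩
  refine IsPullback.of_right ?_ (sq.lift_fst _ _ hw) sq.flip
  rw [sq.lift_snd, ← hφ₀]
  exact sqY.flip

/-- Descent of local Noetherianity of algebraic spaces along an affine flat surjective base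
change of the base scheme. -/
theorem isLocNoethSp_of_affine_flat_surjective_bc {P₀ P₁ : Sp S} (hP₀ : IsAlgSpace P₀)
    {T₀ T₁ : Over S} (α : T₁ ⟶ T₀) [Flat α.left] [IsAffineHom α.left] [Surjective α.left]
    (snd₀ : P₀ ⟶ (yon S).obj T₀) (fst : P₁ ⟶ P₀) (snd₁ : P₁ ⟶ (yon S).obj T₁)
    (sq : IsPullback fst snd₁ snd₀ ((yon S).map α)) (h : IsLocNoethSp P₁) : IsLocNoethSp P₀ := by
  obtain ⟨U₀, a₀, ha₀e, ha₀s⟩ := hP₀.atlas
  obtain ⟨U₁, a₁, ψ, φ₁, φ₀, sq₁, sq₂⟩ := exists_chart_bc α snd₀ fst snd₁ sq a₀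
  have ha₁e : RepWith @Etale a₁ := (RepWith @Etale).of_isPullback sq₁.flip ha₀e
  haveI : IsLocallyNoetherian U₁.left := isLocallyNoetherian_of_etale_of_isLocNoethSp h a₁ ha₁e
  haveI : Flat ψ.left := MorphismProperty.of_isPullback sq₂.flip (inferInstance : Flat α.left)
  haveI : IsAffineHom ψ.left :=
    MorphismProperty.of_isPullback sq₂.flip (inferInstance : IsAffineHom α.left)
  haveI : Surjective ψ.left :=
    MorphismProperty.of_isPullback sq₂.flip (inferInstance : Surjective α.left)
  exact ⟨U₀, a₀, ha₀e, ha₀s, isLocallyNoetherian_of_affine_flat_surjective ψ.left⟩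

/-- Local Noetherianity of algebraic spaces ascends along a base change of the base scheme which
is locally of finite type. -/
theorem isLocNoethSp_of_lft_bc {P₀ P₁ : Sp S}
    {T₀ T₁ : Over S} (α : T₁ ⟶ T₀) [LocallyOfFiniteType α.left]
    (snd₀ : P₀ ⟶ (yon S).obj T₀) (fst : P₁ ⟶ P₀) (snd₁ : P₁ ⟶ (yon S).obj T₁)
    (sq : IsPullback fst snd₁ snd₀ ((yon S).map α)) (h : IsLocNoethSp P₀) : IsLocNoethSp P₁ := by
  obtain ⟨U₀, a₀, ha₀e, ha₀s, hU₀⟩ := h
  obtain ⟨U₁, a₁, ψ, φ₁, φ₀, sq₁, sq₂⟩ := exists_chart_bc α snd₀ fst snd₁ sq a₀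
  have ha₁e : RepWith @Etale a₁ := (RepWith @Etale).of_isPullback sq₁.flip ha₀e
  have ha₁s : RepWith @Surjective a₁ := (RepWith @Surjective).of_isPullback sq₁.flip ha₀s
  haveI := hU₀
  haveI : LocallyOfFiniteType ψ.left :=
    MorphismProperty.of_isPullback sq₂.flip (inferInstance : LocallyOfFiniteType α.left)
  exact ⟨U₁, a₁, ha₁e, ha₁s, LocallyOfFiniteType.isLocallyNoetherian ψ.left⟩

/-- `Points.mk p` is the point defined by `p.toHom`. -/
theorem mk_eq_ofField_toHom {F : Sp S} (p : FieldPt F) : Points.mk p = ofField p.toHom := by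
  simp only [ofField]
  congr 1
  obtain ⟨K, str, val⟩ := p
  simp [FieldPt.toHom, yonEquiv]

/-- A field point equivalent to a monomorphic field point factors through it. -/
theorem exists_factor_of_mono_fieldPt {Y : Sp S} (hY : IsAlgSpace Y) (p p₀ : FieldPt Y)
    (hpp : Points.mk p = Points.mk p₀) (hmono : Mono p₀.toHom) :
    ∃ α : p.pt ⟶ p₀.pt, (yon S).map α ≫ p₀.toHom = p.toHom := by
  rw [mk_eq_ofField_toHom, mk_eq_ofField_toHom, ofField_eq_iff] at hpp
  obtain ⟨Ω, _, w, a, b, hab⟩ := hpp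
  have hZ : IsAlgSpace (pullback p.toHom p₀.toHom) :=
    isAlgSpace_of_isPullback hY.diag (IsAlgSpace.yon_obj _) (IsAlgSpace.yon_obj _)
      (IsPullback.of_hasPullback _ _)
  haveI : Mono (pullback.fst p.toHom p₀.toHom) := inferInstance
  haveI : IsIso (pullback.fst p.toHom p₀.toHom) :=
    isIso_of_mono_to_field_sp hZ p.str (pullback.fst p.toHom p₀.toHom)
      (ofField (pullback.lift _ _ hab))
  obtain ⟨α, hα⟩ := (yon S).map_surjective
    (inv (pullback.fst p.toHom p₀.toHom) ≫ pullback.snd p.toHom p₀.toHom)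
  refine ⟨α, ?_⟩
  rw [hα, Category.assoc, ← pullback.condition, IsIso.inv_hom_id_assoc]

/-- A morphism between spectra of fields is flat. -/
theorem flat_of_field {K K₀ : Type u} [Field K] [Field K₀]
    (g : Spec (CommRingCat.of K) ⟶ Spec (CommRingCat.of K₀)) : Flat g := by
  obtain ⟨φ, rfl⟩ := Spec.map_surjective g
  rw [HasRingHomProperty.Spec_iff (P := @Flat)]
  algebraize [φ.hom]
  exact (inferInstance : Module.Flat K₀ K)

/-- A morphism between spectra of fields is surjective. -/
theorem surjective_of_field {K K₀ : Type u} [Field K] [Field K₀]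
    (g : Spec (CommRingCat.of K) ⟶ Spec (CommRingCat.of K₀)) : Surjective g :=
  ⟨fun y => ⟨(⊥ : PrimeSpectrum K), Subsingleton.elim (α := PrimeSpectrum K₀) _ _⟩⟩

/-- For a field point `p` of `Y` and an etale chart point `(V, v)` over the same point of `|Y|`,
there is a field `K'` mapping to both `Spec k` (by a morphism locally of finite type) and
`Spec κ(v)`, compatibly with the maps to `Y`. -/
theorem exists_lft_field_over_chart_point {Y : Sp S} (p : FieldPt Y) {V : Over S}
    (b : (yon S).obj V ⟶ Y) (hb : RepWith @Etale b) (v : V.left)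
    (hv : Points.ofPt b v = Points.mk p) :
    ∃ (K' : Type u) (_ : Field K') (str' : Spec (CommRingCat.of K') ⟶ S)
      (α₁ : Over.mk str' ⟶ p.pt) (α₂ : Over.mk str' ⟶ (FieldPt.ofPt b v).pt),
      LocallyOfFiniteType α₁.left ∧
        (yon S).map α₁ ≫ p.toHom = (yon S).map α₂ ≫ (FieldPt.ofPt b v).toHom := by
  have hrep := hb.rep
  have sq := hrep.isPullback p.toHom
  obtain ⟨β, hβ⟩ := (yon S).map_surjective (hrep.fst p.toHom)
  -- a point of `E` over `v`
  have hpt : Points.map b (Points.schemeHomeo V v) =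
      Points.map p.toHom (ofField (𝟙 ((yon S).obj p.pt))) := by
    rw [map_ofField, Category.id_comp, ← mk_eq_ofField_toHom, ← hv]
    rfl
  obtain ⟨pt, hpt1, -⟩ := exists_point_of_isPullback sq _ _ hpt
  obtain ⟨e, rfl⟩ := (Points.schemeHomeo (hrep.pullback p.toHom)).surjective pt
  rw [← hβ, Points.map_yon_map_apply] at hpt1
  have hev : β.left e = v := (Points.schemeHomeo V).injective hpt1
  subst hev
  -- `E` is etale over the field, hence discrete
  haveI : Etale (hrep.snd p.toHom).left := hb.property_snd p.toHom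
  haveI : LocallyQuasiFinite (hrep.snd p.toHom).left :=
    etale_le_lqf _ _ _ (inferInstance : Etale (hrep.snd p.toHom).left)
  have hdisc : DiscreteTopology (hrep.pullback p.toHom).left := by
    rw [← isDiscrete_univ_iff]
    have h1 := Scheme.Hom.isDiscrete_preimage_singleton (hrep.snd p.toHom).left
      ((hrep.snd p.toHom).left e)
    have h2 : (hrep.snd p.toHom).left ⁻¹' {(hrep.snd p.toHom).left e} = Set.univ := by
      rw [Set.eq_univ_iff_forall]
      intro x
      exact Subsingleton.elim (α := PrimeSpectrum p.K) _ _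
    rwa [h2] at h1
  haveI : IsClosedImmersion ((hrep.pullback p.toHom).left.fromSpecResidueField e) :=
    isClosed_singleton_iff_isClosedImmersion.mp (isClosed_discrete _)
  let ιe : Over.mk ((hrep.pullback p.toHom).left.fromSpecResidueField e ≫
      (hrep.pullback p.toHom).hom) ⟶ hrep.pullback p.toHom :=
    Over.homMk ((hrep.pullback p.toHom).left.fromSpecResidueField e) rfl
  let α₂ : Over.mk ((hrep.pullback p.toHom).left.fromSpecResidueField e ≫
      (hrep.pullback p.toHom).hom) ⟶ (FieldPt.ofPt b (β.left e)).pt :=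
    Over.homMk (Spec.map (β.left.residueFieldMap e)) (by
      change Spec.map (β.left.residueFieldMap e) ≫ V.left.fromSpecResidueField (β.left e) ≫ V.hom
        = (hrep.pullback p.toHom).left.fromSpecResidueField e ≫ (hrep.pullback p.toHom).hom
      rw [Scheme.Hom.SpecMap_residueFieldMap_fromSpecResidueField_assoc, Over.w β])
  refine ⟨(hrep.pullback p.toHom).left.residueField e, inferInstance, _,
    ιe ≫ hrep.snd p.toHom, α₂, ?_, ?_⟩
  · change LocallyOfFiniteType ((hrep.pullback p.toHom).left.fromSpecResidueField e ≫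
      (hrep.snd p.toHom).left)
    infer_instance
  · rw [FieldPt.toHom_ofPt, ← Category.assoc, ← Functor.map_comp, Functor.map_comp,
      Category.assoc, ← sq.w, ← hβ, ← Category.assoc, ← Functor.map_comp]
    congr 2
    apply Over.OverMorphism.ext
    change (hrep.pullback p.toHom).left.fromSpecResidueField e ≫ β.left =
      Spec.map (β.left.residueFieldMap e) ≫ V.left.fromSpecResidueField (β.left e)
    rw [Scheme.Hom.SpecMap_residueFieldMap_fromSpecResidueField]

/-- S10804: the fibre over a monomorphic field point is locally Noetherian as soon as the fibre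
over some equivalent field point is. -/
theorem isLocNoethSp_fibre_of_mono_fieldPt {X Y : Sp S} (hX : IsAlgSpace X) (hY : IsAlgSpace Y)
    (f : X ⟶ Y) (p p₀ : FieldPt Y) (hpp : Points.mk p = Points.mk p₀) (hmono : Mono p₀.toHom)
    (hNoeth : ∀ ⦃P : Sp S⦄ (fst : P ⟶ X) (snd : P ⟶ (yon S).obj p.pt),
      IsPullback fst snd f p.toHom → IsLocNoethSp P)
    {Q : Sp S} (qfst : Q ⟶ X) (qsnd : Q ⟶ (yon S).obj p₀.pt)
    (hQ : IsPullback qfst qsnd f p₀.toHom) : IsLocNoethSp Q := by
  obtain ⟨α, hα⟩ := exists_factor_of_mono_fieldPt hY p p₀ hpp hmono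
  haveI : Flat α.left := flat_of_field α.left
  haveI : Surjective α.left := surjective_of_field α.left
  haveI : IsAffineHom α.left :=
    @isAffineHom_of_isAffine _ _ α.left (inferInstanceAs (IsAffine (Spec (CommRingCat.of p.K))))
      (inferInstanceAs (IsAffine (Spec (CommRingCat.of p₀.K))))
  have hQa : IsAlgSpace Q := isAlgSpace_of_isPullback hY.diag hX (IsAlgSpace.yon_obj _) hQ
  have sqP := IsPullback.of_hasPullback qsnd ((yon S).map α)
  have hP : IsLocNoethSp (pullback qsnd ((yon S).map α)) := by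
    refine hNoeth (pullback.fst _ _ ≫ qfst) (pullback.snd _ _) ?_
    rw [← hα]
    exact sqP.paste_horiz hQ
  exact isLocNoethSp_of_affine_flat_surjective_bc hQa α qsnd _ _ sqP hP

/-- If the fibre over `p` is locally Noetherian, so is every fibre over a field point obtained from
`p` by a base change locally of finite type. -/
theorem isLocNoethSp_fibre_of_lft_ext {X Y : Sp S} (f : X ⟶ Y) (p : FieldPt Y)
    (hNoeth : ∀ ⦃P : Sp S⦄ (fst : P ⟶ X) (snd : P ⟶ (yon S).obj p.pt),
      IsPullback fst snd f p.toHom → IsLocNoethSp P)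
    {T' : Over S} (α₁ : T' ⟶ p.pt) [LocallyOfFiniteType α₁.left]
    {P' : Sp S} (fst' : P' ⟶ X) (snd' : P' ⟶ (yon S).obj T')
    (sq' : IsPullback fst' snd' f ((yon S).map α₁ ≫ p.toHom)) : IsLocNoethSp P' := by
  have sqXP := IsPullback.of_hasPullback f p.toHom
  have hXP : IsLocNoethSp (pullback f p.toHom) := hNoeth _ _ sqXP
  have hw : fst' ≫ f = (snd' ≫ (yon S).map α₁) ≫ p.toHom := by rw [sq'.w, Category.assoc]
  have sqL : IsPullback (sqXP.lift fst' (snd' ≫ (yon S).map α₁) hw) snd'
      (pullback.snd f p.toHom) ((yon S).map α₁) := by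
    refine IsPullback.of_right ?_ (sqXP.lift_snd _ _ hw) sqXP
    rw [sqXP.lift_fst]
    exact sq'
  exact isLocNoethSp_of_lft_bc α₁ (pullback.snd f p.toHom) _ snd' sqL hXP

/-- S10803: if the fibre over some field point representing `y` is locally Noetherian, then so is
the fibre over the residue field of any etale chart point over `y`. -/
theorem isLocNoethSp_fibre_etale_chart {X Y : Sp S} (hX : IsAlgSpace X) (hY : IsAlgSpace Y)
    (f : X ⟶ Y) (p : FieldPt Y)
    (hNoeth : ∀ ⦃P : Sp S⦄ (fst : P ⟶ X) (snd : P ⟶ (yon S).obj p.pt),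
      IsPullback fst snd f p.toHom → IsLocNoethSp P)
    (V : Over S) (b : (yon S).obj V ⟶ Y) (hb : RepWith @Etale b) (v : V.left)
    (hv : Points.ofPt b v = Points.mk p)
    {Q : Sp S} (qfst : Q ⟶ X) (qsnd : Q ⟶ (yon S).obj (FieldPt.ofPt b v).pt)
    (hQ : IsPullback qfst qsnd f (FieldPt.ofPt b v).toHom) : IsLocNoethSp Q := by
  obtain ⟨K', _, str', α₁, α₂, hα₁, hcomm⟩ := exists_lft_field_over_chart_point p b hb v hv
  haveI : Flat α₂.left := flat_of_field (K₀ := (FieldPt.ofPt b v).K) α₂.left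
  haveI : Surjective α₂.left := surjective_of_field (K₀ := (FieldPt.ofPt b v).K) α₂.left
  haveI : IsAffineHom α₂.left :=
    @isAffineHom_of_isAffine _ _ α₂.left (inferInstanceAs (IsAffine (Spec (CommRingCat.of K'))))
      (inferInstanceAs (IsAffine (Spec (CommRingCat.of (FieldPt.ofPt b v).K))))
  have hQa : IsAlgSpace Q := isAlgSpace_of_isPullback hY.diag hX (IsAlgSpace.yon_obj _) hQ
  have sqP := IsPullback.of_hasPullback qsnd ((yon S).map α₂)
  have hP : IsLocNoethSp (pullback qsnd ((yon S).map α₂)) := by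
    refine isLocNoethSp_fibre_of_lft_ext f p hNoeth α₁ (pullback.fst _ _ ≫ qfst)
      (pullback.snd _ _) ?_
    rw [hcomm]
    exact sqP.paste_horiz hQ
  exact isLocNoethSp_of_affine_flat_surjective_bc hQa α₂ qsnd _ _ sqP hP

end Groth.Agent.Helper16.AS
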