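import Mathlib.AlgebraicGeometry.Morphisms.FlatDescent
import Mathlib.RingTheory.Finiteness.Descent

set_option autoImplicit false
universe u
open CategoryTheory CategoryTheory.Limits AlgebraicGeometry TensorProduct MorphismProperty

namespace Groth.Agent.Helper16.AS

theorem RingHom.Flat.codescendsAlong_faithfullyFlat :
    RingHom.CodescendsAlong (fun f => RingHom.Flat f) RingHom.FaithfullyFlat := by
  refine .mk _ RingHom.Flat.respectsIso fun R S T _ _ _ _ _ h h' ↦ ?_
  rw [RingHom.flat_algebraMap_iff] at h' ⊢
  rw [RingHom.faithfullyFlat_algebraMap_iff] at h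
  exact Module.Flat.of_flat_tensorProduct R T S

instance flat_descendsAlong_fpqc :
    DescendsAlong (@Flat : MorphismProperty Scheme.{u}) (@Surjective ⊓ @Flat ⊓ @QuasiCompact) :=
  HasRingHomProperty.descendsAlong_flat RingHom.Flat.codescendsAlong_faithfullyFlat

end Groth.Agent.Helper16.AS
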