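import Groth.Agent.Lib.Helper16.AlgSp.LargestOpen
import Groth.Agent.Lib.Helper15.SchReduced
import Groth.Prelude.Def_AlgSpSub

set_option autoImplicit false
universe u
open CategoryTheory CategoryTheory.Limits AlgebraicGeometry MorphismProperty
open AlgSp Groth.Agent.Helper15

namespace Groth.Agent.Helper16.AS

/-- Reducedness descends along flat surjective morphisms of schemes. -/
theorem isReduced_of_flat_surjective {A B : Scheme.{u}} (φ : A ⟶ B) [Flat φ] [Surjective φ]
    [IsReduced A] : IsReduced B := by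
  have : ∀ y : B, _root_.IsReduced (B.presheaf.stalk y) := by
    intro y
    obtain ⟨x, rfl⟩ := φ.surjective y
    have hflat := Flat.stalkMap φ x
    algebraize [(φ.stalkMap x).hom]
    have : IsLocalHom (algebraMap (B.presheaf.stalk (φ x)) (A.presheaf.stalk x)) :=
      inferInstanceAs (IsLocalHom (φ.stalkMap x).hom)
    have : Module.FaithfullyFlat (B.presheaf.stalk (φ x)) (A.presheaf.stalk x) :=
      Module.FaithfullyFlat.of_flat_of_isLocalHom
    exact isReduced_of_injective (algebraMap (B.presheaf.stalk (φ x)) (A.presheaf.stalk x))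
      (FaithfulSMul.algebraMap_injective _ _)
  exact isReduced_of_isReduced_stalk B

/-- A scheme smooth over a reduced scheme is reduced. -/
theorem isReduced_of_smooth {X Y : Scheme.{u}} (f : X ⟶ Y) [Smooth f] [IsReduced Y] :
    IsReduced X := by
  refine @isReduced_of_isReduced_stalk X (fun x => ?_)
  obtain ⟨_, ⟨W, hW, rfl⟩, hxW, -⟩ :=
    Y.isBasis_affineOpens.exists_subset_of_mem_open (Set.mem_univ (f x)) isOpen_univ
  obtain ⟨_, ⟨V, hV, rfl⟩, hxV, hVW⟩ :=
    X.isBasis_affineOpens.exists_subset_of_mem_open (show x ∈ (f ⁻¹ᵁ W : Set X) from hxW)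
      (f ⁻¹ᵁ W).isOpen
  have he : RingHom.Smooth (f.appLE W V hVW).hom :=
    HasRingHomProperty.appLE (P := @Smooth) f inferInstance ⟨W, hW⟩ ⟨V, hV⟩ hVW
  algebraize [(f.appLE W V hVW).hom]
  haveI : _root_.IsReduced Γ(Y, W) := inferInstance
  haveI : _root_.IsReduced Γ(X, V) := Groth.Agent.Helper14.isReduced_of_smooth Γ(Y, W) Γ(X, V)
  letI := TopCat.Presheaf.algebra_section_stalk X.presheaf (⟨x, hxV⟩ : V)
  haveI := hV.isLocalization_stalk ⟨x, hxV⟩
  exact isReduced_localizationPreserves (hV.primeIdealOf ⟨x, hxV⟩).asIdeal.primeCompl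
    (X.presheaf.stalk x) inferInstance

variable {S : Scheme.{u}}

/-- On a reduced algebraic space, every etale scheme chart is reduced. -/
theorem isReduced_of_etale_of_isReducedSp {X : Sp S} (hX : IsReducedSp X) {W : Over S}
    (a : (yon S).obj W ⟶ X) (ha : RepWith @Etale a) : IsReduced W.left := by
  obtain ⟨U, p, hpe, hps, hU⟩ := hX
  have hrep := hpe.rep
  -- the pullback of `p` along `a`
  have sq := hrep.isPullback a
  have h1 : Etale (hrep.snd a).left := hpe.property_snd a
  have h2 : Surjective (hrep.snd a).left := hps.property_snd a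
  -- the other projection is etale, by base change of `a`
  obtain ⟨ψ, hψ⟩ := (yon S).map_surjective (hrep.fst a)
  have h3 : Etale ψ.left := ha.2 p ((yon S).map (hrep.snd a)) ψ (by rw [hψ]; exact sq.flip)
  haveI := hU
  haveI : IsReduced (hrep.pullback a).left := isReduced_of_etale ψ.left
  exact isReduced_of_flat_surjective (hrep.snd a).left

theorem surjective_of_isSurjectiveMor_yon_map {T T' : Over S} (φ : T ⟶ T')
    (h : IsSurjectiveMor ((yon S).map φ)) : Function.Surjective φ.left := by
  intro v
  obtain ⟨x, hx⟩ := h (Points.schemeHomeo T' v)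
  obtain ⟨t, rfl⟩ := (Points.schemeHomeo T).surjective x
  rw [Points.map_yon_map_apply] at hx
  exact ⟨t, (Points.schemeHomeo T').injective hx⟩

/-- Reducedness of algebraic spaces descends along flat surjective morphisms. -/
theorem isReducedSp_of_flat_surjective {X Y : Sp S} (hX : IsAlgSpace X) (hY : IsAlgSpace Y)
    (f : X ⟶ Y) (hfl : LocP @Flat f) (hs : IsSurjectiveMor f) (hXr : IsReducedSp X) :
    IsReducedSp Y := by
  obtain ⟨V, q, hqe, hqs⟩ := hY.atlas
  have hXV : IsAlgSpace (pullback f q) :=
    isAlgSpace_of_isPullback hY.diag hX (IsAlgSpace.yon_obj V) (IsPullback.of_hasPullback f q)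
  obtain ⟨W, r, hre, hrs⟩ := hXV.atlas
  obtain ⟨h₀, hh⟩ := (yon S).map_surjective (r ≫ pullback.snd f q)
  have hfst : RepWith @Etale (pullback.fst f q) :=
    (RepWith @Etale).of_isPullback (IsPullback.of_hasPullback f q).flip hqe
  have hflat : Flat h₀.left :=
    hfl (r ≫ pullback.fst f q) q h₀ ((RepWith @Etale).comp_mem _ _ hre hfst) hqe
      (by rw [Category.assoc, pullback.condition, ← Category.assoc, hh])
  have hW : IsReduced W.left :=
    isReduced_of_etale_of_isReducedSp hXr (r ≫ pullback.fst f q)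
      ((RepWith @Etale).comp_mem _ _ hre hfst)
  have hsurj : IsSurjectiveMor ((yon S).map h₀) := by
    rw [hh]
    intro v
    obtain ⟨z, hz⟩ := isSurjectiveMor_of_isPullback (IsPullback.of_hasPullback f q) hs v
    obtain ⟨w, hw⟩ := isSurjectiveMor_of_repWith_surjective r hrs z
    exact ⟨w, by rw [Points.map_comp]; show Points.map (pullback.snd f q) (Points.map r w) = v; rw [hw, hz]⟩
  haveI : Surjective h₀.left := ⟨surjective_of_isSurjectiveMor_yon_map h₀ hsurj⟩
  exact ⟨V, q, hqe, hqs, isReduced_of_flat_surjective h₀.left⟩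

/-- An algebraic space smooth over a reduced algebraic space is reduced. -/
theorem isReducedSp_of_smooth {X Y : Sp S} (hX : IsAlgSpace X) (hY : IsAlgSpace Y)
    (f : X ⟶ Y) (hf : LocP @Smooth f) (hYr : IsReducedSp Y) : IsReducedSp X := by
  obtain ⟨V, q, hqe, hqs, hV⟩ := hYr
  have hXV : IsAlgSpace (pullback f q) :=
    isAlgSpace_of_isPullback hY.diag hX (IsAlgSpace.yon_obj V) (IsPullback.of_hasPullback f q)
  obtain ⟨W, r, hre, hrs⟩ := hXV.atlas
  obtain ⟨h₀, hh⟩ := (yon S).map_surjective (r ≫ pullback.snd f q)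
  have hfst : RepWith @Etale (pullback.fst f q) :=
    (RepWith @Etale).of_isPullback (IsPullback.of_hasPullback f q).flip hqe
  have hfsts : RepWith @Surjective (pullback.fst f q) :=
    (RepWith @Surjective).of_isPullback (IsPullback.of_hasPullback f q).flip hqs
  have hsm : Smooth h₀.left :=
    hf (r ≫ pullback.fst f q) q h₀ ((RepWith @Etale).comp_mem _ _ hre hfst) hqe
      (by rw [Category.assoc, pullback.condition, ← Category.assoc, hh])
  haveI := hV
  exact ⟨W, r ≫ pullback.fst f q, (RepWith @Etale).comp_mem _ _ hre hfst,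
    (RepWith @Surjective).comp_mem _ _ hrs hfsts, isReduced_of_smooth h₀.left⟩

end Groth.Agent.Helper16.AS
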