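import Groth.Agent.Lib.Helper16.AlgSp.LocPEngine
import Groth.Agent.Lib.Helper16.AlgSp.FlatSrc
import Groth.Agent.Lib.Helper16.AlgSp.FlatDesc

/-!
# Flat morphisms of algebraic spaces and fpqc coverings
-/

set_option autoImplicit false
universe u
open CategoryTheory CategoryTheory.Limits AlgebraicGeometry MorphismProperty Opposite
open AlgSp Groth.Agent.Helper15

namespace Groth.Agent.Helper16.AS

variable {S : Scheme.{u}}

theorem srcEtLoc_flat : SrcEtLoc (@Flat : MorphismProperty Scheme.{u}) := by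
  intro A B C e h he hes hc
  haveI : Etale e := he
  refine flat_of_flat_comp_of_jointly_surjective h (ι := PUnit.{1}) (W := fun _ => A) (fun _ => e)
    (fun _ => inferInstance) (fun x => ?_) (fun _ => hc)
  obtain ⟨a, rfl⟩ := hes.surj x
  exact ⟨PUnit.unit, a, rfl⟩

theorem locP_flat_of_isPullback {X Y X' Y' : Sp S} (hX : IsAlgSpace X) (hY : IsAlgSpace Y)
    (hY' : IsAlgSpace Y') {f : X ⟶ Y} {g : Y' ⟶ Y} {f' : X' ⟶ Y'} {g' : X' ⟶ X}
    (sq' : IsPullback g' f' f g) (hf : LocP @Flat f) : LocP @Flat f' :=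
  locP_of_isPullback goodP_flat srcEtLoc_flat hX hY hY' sq' hf

theorem locP_flat_comp {X Y Z : Sp S} (hX : IsAlgSpace X) (hY : IsAlgSpace Y) (hZ : IsAlgSpace Z)
    (f : X ⟶ Y) (g : Y ⟶ Z) (hf : LocP @Flat f) (hg : LocP @Flat g) : LocP @Flat (f ≫ g) :=
  locP_comp goodP_flat srcEtLoc_flat hX hY hZ f g hf hg

/-- base change of a family refined by standard coverings -/
theorem isStdRefinable_of_isPullback {ι : Type u} {X X' : Sp S} (a : X' ⟶ X) {Xi Xi' : ι → Sp S}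
    {g : ∀ i, Xi i ⟶ X} {q : ∀ i, Xi' i ⟶ X'} {p : ∀ i, Xi' i ⟶ Xi i}
    (sq : ∀ i, IsPullback (q i) (p i) a (g i)) (h : IsStdRefinable Xi g) :
    IsStdRefinable Xi' q := by
  intro Z hZ t
  obtain ⟨m, W, c, hc, hl⟩ := h Z hZ (t ≫ a)
  refine ⟨m, W, c, hc, fun j => ?_⟩
  obtain ⟨i, l, hl⟩ := hl j
  have hw : ((yon S).map (c j) ≫ t) ≫ a = l ≫ g i := by
    rw [hl, Category.assoc]
  exact ⟨i, (sq i).lift _ _ hw, (sq i).lift_fst _ _ hw⟩

theorem isFpqcCover_iff {ι : Type u} {X : Sp S} {Xi : ι → Sp S} {g : ∀ i, Xi i ⟶ X} :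
    IsFpqcCover Xi g ↔ (∀ i, LocP @Flat (g i)) ∧ IsStdRefinable Xi g := by
  constructor
  · intro h
    exact ⟨h.1, isStdRefinable_of_isFpqcCover h⟩
  · rintro ⟨h1, h2⟩
    refine ⟨h1, fun Z hZ t => ?_⟩
    obtain ⟨m, W, c, hc, hl⟩ := h2 Z hZ t
    exact ⟨m, W, c, hc.affine, hc.flat, hc.surj, hl⟩

theorem isFpqcCover_of_isPullback {ι : Type u} {X X' : Sp S} (hX : IsAlgSpace X)
    (hX' : IsAlgSpace X') (a : X' ⟶ X) {Xi Xi' : ι → Sp S} (hXi : ∀ i, IsAlgSpace (Xi i))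
    {g : ∀ i, Xi i ⟶ X} {q : ∀ i, Xi' i ⟶ X'} {p : ∀ i, Xi' i ⟶ Xi i}
    (sq : ∀ i, IsPullback (q i) (p i) a (g i)) (h : IsFpqcCover Xi g) :
    IsFpqcCover Xi' q := by
  rw [isFpqcCover_iff] at h ⊢
  exact ⟨fun i => locP_flat_of_isPullback (hXi i) hX hX' (sq i).flip (h.1 i),
    isStdRefinable_of_isPullback a sq h.2⟩

end Groth.Agent.Helper16.AS
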