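import Groth.Agent.Lib.Helper16.AlgSp.LargestOpen
import Mathlib.AlgebraicGeometry.Sites.Fpqc
import Mathlib.AlgebraicGeometry.Sites.Etale

/-!
# Properties local at the source for schemes induce properties local on the source for spaces
-/

set_option autoImplicit false
universe u
open CategoryTheory CategoryTheory.Limits AlgebraicGeometry MorphismProperty Opposite TopologicalSpace
open AlgSp Groth.Agent.Helper15

namespace Groth.Agent.Helper16.AS
variable {S : Scheme.{u}}

/-- precomposition: `LocP P f`, `LocP Q g` gives `LocP P (g ≫ f)` when `P` is local at the source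
for a precoverage containing étale surjections and pairs `{k, 𝟙}` with `Q k`. -/
theorem locP_precomp_of_isLocalAtSource {P Q : MorphismProperty Scheme.{u}}
    {K : Precoverage Scheme.{u}} [P.IsLocalAtSource K]
    (hsingle : ∀ {U V : Scheme.{u}} (e : U ⟶ V), Etale e → Surjective e →
      Presieve.singleton e ∈ K V)
    (hpair : ∀ {U V : Scheme.{u}} (k : U ⟶ V), Q k → ∃ R ∈ K V, R k)
    {X' X Y : Sp S} (hX : IsAlgSpace X) (hY : IsAlgSpace Y) (g : X' ⟶ X) (f : X ⟶ Y)
    (hg : LocP Q g) (hf : LocP P f) : LocP P (g ≫ f) := by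
  intro U V a b h ha hb hcomm
  have sqZ := IsPullback.of_hasPullback f b
  have hZ : IsAlgSpace (pullback f b) :=
    isAlgSpace_of_isPullback hY.diag hX (IsAlgSpace.yon_obj V) sqZ
  have hfstE : RepWith @Etale (pullback.fst f b) :=
    (RepWith @Etale).of_isPullback sqZ.flip hb
  let φ : (yon S).obj U ⟶ pullback f b := pullback.lift (a ≫ g) ((yon S).map h)
    (by rw [Category.assoc, hcomm])
  have hφ1 : φ ≫ pullback.fst f b = a ≫ g := pullback.lift_fst _ _ _
  have hφ2 : φ ≫ pullback.snd f b = (yon S).map h := pullback.lift_snd _ _ _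
  obtain ⟨U', p', hp'e, hp's⟩ := hZ.atlas
  have hrep := hp'e.rep
  have sq := hrep.isPullback' φ
  set k := hrep.fst' φ with hk
  set e := hrep.snd φ with he
  have heE : Etale e.left := hp'e.property_snd φ
  have heS : Surjective e.left := hp's.property_snd φ
  obtain ⟨h', hh'⟩ := (yon S).map_surjective (p' ≫ pullback.snd f b)
  -- `P h'`
  have hPh' : P h'.left := by
    refine hf (p' ≫ pullback.fst f b) b h' (repWith_etale_comp _ _ hp'e hfstE) hb ?_
    rw [Category.assoc, pullback.condition, ← Category.assoc, hh']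
  -- `Q k`
  have hQk : Q k.left := by
    refine hg ((yon S).map e ≫ a) (p' ≫ pullback.fst f b) k
      (repWith_etale_comp _ _ ((repWith_yon_map_iff _ _).2 heE) ha)
      (repWith_etale_comp _ _ hp'e hfstE) ?_
    rw [Category.assoc, ← hφ1, ← Category.assoc, ← sq.w, Category.assoc]
  -- `e ≫ h = k ≫ h'`
  have hek : e ≫ h = k ≫ h' := by
    apply (yon S).map_injective
    rw [Functor.map_comp, Functor.map_comp, hh', ← hφ2, ← Category.assoc, ← sq.w, Category.assoc]
  obtain ⟨R, hR, hRk⟩ := hpair k.left hQk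
  have h1 : P (k.left ≫ h'.left) := IsLocalAtSource.comp hR k.left hRk hPh'
  have h2 : P (e.left ≫ h.left) := by
    rw [← Over.comp_left, hek, Over.comp_left]; exact h1
  refine IsLocalAtSource.of_forall_comp (hsingle e.left heE heS) ?_
  rintro _ _ ⟨⟩
  exact h2

/-- the family of étale charts of the base changes of a covering to an étale chart of `X` -/
theorem exists_chart_family {ι : Type u} {X : Sp S} {Xi : ι → Sp S} (g : ∀ i, Xi i ⟶ X)
    (hX : IsAlgSpace X) (hXi : ∀ i, IsAlgSpace (Xi i)) {U : Over S} (a : (yon S).obj U ⟶ X) :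
    ∃ (W : ι → Over S) (e : ∀ i, W i ⟶ U) (s : ∀ i, (yon S).obj (W i) ⟶ pullback a (g i)),
      (∀ i, RepWith @Etale (s i)) ∧ (∀ i, RepWith @Surjective (s i)) ∧
      (∀ i, (yon S).map (e i) = s i ≫ pullback.fst a (g i)) := by
  have hUi : ∀ i, IsAlgSpace (pullback a (g i)) := fun i =>
    isAlgSpace_of_isPullback hX.diag (IsAlgSpace.yon_obj U) (hXi i)
      (IsPullback.of_hasPullback a (g i))
  choose W s hse hss using fun i => (hUi i).atlas
  have hex : ∀ i, ∃ e : W i ⟶ U, (yon S).map e = s i ≫ pullback.fst a (g i) := fun i =>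
    (yon S).map_surjective _
  choose e he using hex
  exact ⟨W, e, s, hse, hss, he⟩

theorem chart_family_surjective {ι : Type u} {X : Sp S} {Xi : ι → Sp S} (g : ∀ i, Xi i ⟶ X)
    (hsurj : ∀ x : Points X, ∃ i, x ∈ Set.range (Points.map (g i)))
    {U : Over S} (a : (yon S).obj U ⟶ X)
    (W : ι → Over S) (e : ∀ i, W i ⟶ U) (s : ∀ i, (yon S).obj (W i) ⟶ pullback a (g i))
    (hss : ∀ i, RepWith @Surjective (s i))
    (he : ∀ i, (yon S).map (e i) = s i ≫ pullback.fst a (g i)) :
    ∀ u : U.left, ∃ i, u ∈ Set.range (e i).left := by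
  intro u
  obtain ⟨i, xi, hxi⟩ := hsurj (Points.ofPt a u)
  rw [Points.ofPt_eq_map_ofScheme] at hxi
  obtain ⟨y, hy1, hy2⟩ := exists_point_of_isPullback (IsPullback.of_hasPullback a (g i))
    (Points.ofScheme U u) xi hxi.symm
  obtain ⟨w, rfl⟩ := surjective_ofPt (s i) (hss i) y
  refine ⟨i, w, ?_⟩
  apply (Points.schemeEquiv U).injective
  change Points.ofScheme U ((e i).left w) = Points.ofScheme U u
  rw [← hy1, Points.map_ofPt, ← he]
  exact (ofPt_comp_yon_map (e i) (𝟙 _) w).symm

theorem chart_family_prop {Q : MorphismProperty Scheme.{u}} {ι : Type u} {X : Sp S}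
    {Xi : ι → Sp S} (g : ∀ i, Xi i ⟶ X) (hQ : ∀ i, LocP Q (g i))
    {U : Over S} (a : (yon S).obj U ⟶ X) (ha : RepWith @Etale a)
    (W : ι → Over S) (e : ∀ i, W i ⟶ U) (s : ∀ i, (yon S).obj (W i) ⟶ pullback a (g i))
    (hse : ∀ i, RepWith @Etale (s i))
    (he : ∀ i, (yon S).map (e i) = s i ≫ pullback.fst a (g i)) (i : ι) : Q (e i).left := by
  have hsnd : RepWith @Etale (pullback.snd a (g i)) :=
    (RepWith @Etale).of_isPullback (IsPullback.of_hasPullback a (g i)) ha
  refine hQ i (s i ≫ pullback.snd a (g i)) a (e i) (repWith_etale_comp _ _ (hse i) hsnd) ha ?_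
  rw [Category.assoc, ← pullback.condition, ← Category.assoc, he]

/-- the converse direction: `LocP P (g i ≫ f)` for all `i` gives `LocP P f`, provided the
chart families are `K`-coverings. -/
theorem locP_of_forall_comp {P : MorphismProperty Scheme.{u}}
    {K : Precoverage Scheme.{u}} [P.IsLocalAtSource K] {ι : Type u} {X Y : Sp S}
    {Xi : ι → Sp S} (g : ∀ i, Xi i ⟶ X) (f : X ⟶ Y) (hX : IsAlgSpace X)
    (hXi : ∀ i, IsAlgSpace (Xi i))
    (hK : ∀ {U : Over S} (a : (yon S).obj U ⟶ X), RepWith @Etale a →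
      ∀ (W : ι → Over S) (e : ∀ i, W i ⟶ U) (s : ∀ i, (yon S).obj (W i) ⟶ pullback a (g i)),
      (∀ i, RepWith @Etale (s i)) → (∀ i, RepWith @Surjective (s i)) →
      (∀ i, (yon S).map (e i) = s i ≫ pullback.fst a (g i)) →
      Presieve.ofArrows (fun i => (W i).left) (fun i => (e i).left) ∈ K U.left)
    (h : ∀ i, LocP P (g i ≫ f)) : LocP P f := by
  intro U V a b h₀ ha hb hcomm
  obtain ⟨W, e, s, hse, hss, he⟩ := exists_chart_family g hX hXi a
  have hmem := hK a ha W e s hse hss he
  refine IsLocalAtSource.of_forall_comp hmem ?_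
  rintro _ _ ⟨i⟩
  have hsnd : RepWith @Etale (pullback.snd a (g i)) :=
    (RepWith @Etale).of_isPullback (IsPullback.of_hasPullback a (g i)) ha
  have := h i (s i ≫ pullback.snd a (g i)) b (e i ≫ h₀)
    (repWith_etale_comp _ _ (hse i) hsnd) hb ?_
  · rwa [Over.comp_left] at this
  · have e1 : pullback.snd a (g i) ≫ g i = pullback.fst a (g i) ≫ a :=
      pullback.condition.symm
    calc (s i ≫ pullback.snd a (g i)) ≫ g i ≫ f
        = s i ≫ (pullback.snd a (g i) ≫ g i) ≫ f := by simp only [Category.assoc]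
      _ = (s i ≫ pullback.fst a (g i)) ≫ a ≫ f := by rw [e1]; simp only [Category.assoc]
      _ = (yon S).map (e i ≫ h₀) ≫ b := by
        rw [← he, hcomm, ← Category.assoc, ← Functor.map_comp]


section Precov

variable {Q : MorphismProperty Scheme.{u}}

theorem single_mem_precoverage (hEt : (@Etale : MorphismProperty Scheme.{u}) ≤ Q)
    {U V : Scheme.{u}} (e : U ⟶ V) (he : Etale e) (hs : Surjective e) :
    Presieve.singleton e ∈ Scheme.precoverage Q V := by
  rw [Scheme.singleton_mem_precoverage_iff]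
  exact ⟨hs.surj, hEt _ _ _ he⟩

theorem pair_mem_precoverage [Q.ContainsIdentities] {U V : Scheme.{u}} (k : U ⟶ V) (hk : Q k) :
    ∃ R ∈ Scheme.precoverage Q V, R k := by
  let Xs : Unit ⊕ Unit → Scheme.{u} := Sum.elim (fun _ => V) (fun _ => U)
  let fs : ∀ i, Xs i ⟶ V := fun i => match i with
    | Sum.inl _ => 𝟙 V
    | Sum.inr _ => k
  refine ⟨Presieve.ofArrows Xs fs, ?_, Presieve.ofArrows.mk (Sum.inr ())⟩
  rw [Scheme.ofArrows_mem_precoverage_iff]
  refine ⟨fun x => ⟨Sum.inl (), x, rfl⟩, ?_⟩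
  rintro (_ | _)
  · exact Q.id_mem V
  · exact hk

end Precov

/-- The general statement for a precoverage of the form `Scheme.precoverage Q`. -/
theorem isLocalOnSource_locP_of_precoverage {P Q : MorphismProperty Scheme.{u}}
    [Q.ContainsIdentities] (hEt : (@Etale : MorphismProperty Scheme.{u}) ≤ Q)
    [P.IsLocalAtSource (Scheme.precoverage Q)] {C : MorphismProperty (Sp S)}
    (hC : ∀ {X Y : Sp S} (g : X ⟶ Y), IsAlgSpace Y → C g → LocP Q g) :
    IsLocalOnSource (fun _ _ Y g => IsCover C Y g) (LocP (S := S) P) := by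
  intro ι X Xi g hX hXi hcov Y f hY
  constructor
  · intro hf i
    exact locP_precomp_of_isLocalAtSource (K := Scheme.precoverage Q) (Q := Q)
      (fun e he hs => single_mem_precoverage hEt e he hs)
      (fun k hk => pair_mem_precoverage k hk) hX hY (g i) f (hC (g i) hX (hcov.1 i)) hf
  · intro h
    refine locP_of_forall_comp (K := Scheme.precoverage Q) g f hX hXi ?_ h
    intro U a ha W e s hse hss he
    rw [Scheme.ofArrows_mem_precoverage_iff]
    exact ⟨chart_family_surjective g hcov.2 a W e s hss he,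
      chart_family_prop g (fun i => hC (g i) hX (hcov.1 i)) a ha W e s hse he⟩


section Fpqc

theorem single_mem_fpqc {U V : Scheme.{u}} (e : U ⟶ V) (he : Etale e) (hs : Surjective e) :
    Presieve.singleton e ∈ Scheme.fpqcPrecoverage V :=
  Scheme.fppfPrecoverage_le_fpqcPrecoverage _ (Scheme.Hom.singleton_mem_fppfPrecoverage e)

theorem pair_mem_fpqc {U V : Scheme.{u}} (k : U ⟶ V) (hk : Flat k) :
    ∃ R ∈ Scheme.fpqcPrecoverage V, R k := by
  let Xs : Unit ⊕ Unit → Scheme.{u} := Sum.elim (fun _ => V) (fun _ => U)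
  let fs : ∀ i, Xs i ⟶ V := fun i => match i with
    | Sum.inl _ => 𝟙 V
    | Sum.inr _ => k
  let E : PreZeroHypercover.{0} V := ⟨Unit ⊕ Unit, Xs, fs⟩
  refine ⟨E.presieve₀, ⟨?_, ?_⟩, Presieve.ofArrows.mk (Sum.inr ())⟩
  · rw [Scheme.presieve₀_mem_qcPrecoverage_iff]
    refine ⟨fun {O} hO => ?_⟩
    have := IsCompactOpenCovered.image (f := fun i => ⇑(E.f i)) (i := Sum.inl ()) O hO.isCompact
    have himg : ⇑(E.f (Sum.inl ())) '' (O : Set V) = (O : Set V) := by
      change ⇑(𝟙 V : V ⟶ V) '' (O : Set V) = O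
      ext x; simp
    convert this using 1
    exact himg.symm
  · change Presieve.ofArrows Xs fs ∈ Scheme.precoverage @Flat V
    rw [Scheme.ofArrows_mem_precoverage_iff]
    refine ⟨fun x => ⟨Sum.inl (), x, rfl⟩, ?_⟩
    rintro (_ | _)
    · exact (inferInstance : Flat (𝟙 V))
    · exact hk

/-- the chart family of a standard-refinable family is a quasi-compact cover -/
theorem quasiCompactCover_chart_family {ι : Type u} {X : Sp S} {Xi : ι → Sp S}
    {g : ∀ i, Xi i ⟶ X} (href : IsStdRefinable Xi g) {U : Over S} (a : (yon S).obj U ⟶ X)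
    (W : ι → Over S) (e : ∀ i, W i ⟶ U) (s : ∀ i, (yon S).obj (W i) ⟶ pullback a (g i))
    (hse : ∀ i, RepWith @Etale (s i)) (hss : ∀ i, RepWith @Surjective (s i))
    (he : ∀ i, (yon S).map (e i) = s i ≫ pullback.fst a (g i)) :
    QuasiCompactCover
      (⟨ι, fun i => (W i).left, fun i => (e i).left⟩ : PreZeroHypercover.{u} U.left) := by
  refine ⟨fun {O} hO => ?_⟩
  change IsCompactOpenCovered (fun i => ⇑(e i).left) (O : Set U.left)
  -- the affine open as a scheme over `S`
  let ZO : Over S := Over.mk (O.ι ≫ U.hom)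
  let ιO : ZO ⟶ U := Over.homMk O.ι rfl
  have hZO : IsAffine ZO.left := hO
  obtain ⟨m, Wf, c, hc, hl⟩ := href ZO hZO ((yon S).map ιO ≫ a)
  choose i l hl using hl
  have hψw : ∀ j, (yon S).map (c j ≫ ιO) ≫ a = l j ≫ g (i j) := fun j => by
    rw [hl j, Functor.map_comp, Category.assoc]
  let ψ : ∀ j, (yon S).obj (Wf j) ⟶ pullback a (g (i j)) := fun j =>
    pullback.lift ((yon S).map (c j ≫ ιO)) (l j) (hψw j)
  have hψ1 : ∀ j, ψ j ≫ pullback.fst a (g (i j)) = (yon S).map (c j ≫ ιO) := fun j =>
    pullback.lift_fst _ _ _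
  let hrep := fun j => (hse (i j)).rep
  let W' : Fin m → Over S := fun j => (hrep j).pullback (ψ j)
  let r : ∀ j, W' j ⟶ Wf j := fun j => (hrep j).snd (ψ j)
  let d : ∀ j, W' j ⟶ W (i j) := fun j => (hrep j).fst' (ψ j)
  have sq : ∀ j, IsPullback ((yon S).map (d j)) ((yon S).map (r j)) (s (i j)) (ψ j) := fun j =>
    (hrep j).isPullback' (ψ j)
  have hrE : ∀ j, Etale (r j).left := fun j => (hse (i j)).property_snd (ψ j)
  have hrS : ∀ j, Surjective (r j).left := fun j => (hss (i j)).property_snd (ψ j)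
  have hde : ∀ j, d j ≫ e (i j) = r j ≫ c j ≫ ιO := by
    intro j
    apply (yon S).map_injective
    rw [Functor.map_comp, he, ← Category.assoc, (sq j).w, Category.assoc, hψ1,
      ← Functor.map_comp]
  -- compact opens of `W' j` mapping onto `Wf j`
  have hV : ∀ j, ∃ V : Opens (W' j).left, IsCompact (V : Set (W' j).left) ∧
      (r j).left '' (V : Set (W' j).left) = Set.univ := by
    intro j
    haveI := hrE j
    haveI := hrS j
    haveI : IsAffine (Wf j).left := hc.affine j
    exact (r j).left.isOpenMap.exists_opens_image_eq_of_prespectralSpace (r j).left.continuous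
      (by rw [(r j).left.surjective.range_eq]) isOpen_univ isCompact_univ
  choose V hVc hVr using hV
  refine IsCompactOpenCovered.of_comp (σ := Fin m) (Y := fun j => (W' j).left)
    (fun j => ⇑(r j ≫ c j ≫ ιO).left) (a := i) (fun j => ⇑(d j).left)
    (fun j => (d j).left.continuous) ?_ (fun i => (e i).left.continuous) O.isOpen ?_
  · intro j
    rw [← hde j]
    ext x
    simp
  · refine IsCompactOpenCovered.of_finite (κ := Fin m) id V hVc ?_
    have h1 : ∀ j, ⇑(r j ≫ c j ≫ ιO).left '' (V j : Set (W' j).left) =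
        O.ι '' Set.range (c j).left := by
      intro j
      have : ⇑(r j ≫ c j ≫ ιO).left = (⇑O.ι ∘ ⇑(c j).left) ∘ ⇑(r j).left := by
        ext x
        simp [ιO]
        rfl
      rw [this, Set.image_comp, hVr j, Set.image_univ, Set.range_comp]
    simp only [id_eq, h1]
    rw [← Set.image_iUnion]
    have h2 : ⋃ j, Set.range (c j).left = Set.univ := by
      rw [Set.eq_univ_iff_forall]
      intro z
      obtain ⟨j, hj⟩ := hc.surj z
      exact Set.mem_iUnion.2 ⟨j, hj⟩
    rw [h2, Set.image_univ]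
    exact O.range_ι

theorem isLocalOnSource_locP_fpqc {P : MorphismProperty Scheme.{u}}
    [P.IsLocalAtSource Scheme.fpqcPrecoverage] :
    IsLocalOnSource (IsFpqcCover (S := S)) (LocP P) := by
  intro ι X Xi g hX hXi hcov Y f hY
  rw [isFpqcCover_iff] at hcov
  constructor
  · intro hf i
    exact locP_precomp_of_isLocalAtSource (K := Scheme.fpqcPrecoverage) (Q := @Flat)
      (fun e he hs => single_mem_fpqc e he hs) (fun k hk => pair_mem_fpqc k hk)
      hX hY (g i) f (hcov.1 i) hf
  · intro h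
    refine locP_of_forall_comp (K := Scheme.fpqcPrecoverage) g f hX hXi ?_ h
    intro U a ha W e s hse hss he
    refine ⟨?_, ?_⟩
    · have := quasiCompactCover_chart_family hcov.2 a W e s hse hss he
      exact (Scheme.presieve₀_mem_qcPrecoverage_iff
        (E := (⟨ι, fun i => (W i).left, fun i => (e i).left⟩ :
          PreZeroHypercover.{u} U.left))).2 this
    · rw [Scheme.ofArrows_mem_precoverage_iff]
      exact ⟨chart_family_surjective g hcov.2.exists_point a W e s hss he,
        chart_family_prop g hcov.1 a ha W e s hse he⟩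

theorem isLocalOnSource_locP_fppf {P : MorphismProperty Scheme.{u}}
    [hP : P.IsLocalAtSource Scheme.fppfPrecoverage] :
    IsLocalOnSource (IsFppfCover (S := S)) (LocP P) := by
  haveI : P.IsLocalAtSource (Scheme.precoverage (@Flat ⊓ @LocallyOfFinitePresentation)) := hP
  exact isLocalOnSource_locP_of_precoverage (Q := @Flat ⊓ @LocallyOfFinitePresentation)
    (fun _ _ f hf => ⟨etale_le_flat _ _ _ hf, etale_le_lfp _ _ _ hf⟩)
    (fun g _ hg U V a b h ha hb e => ⟨hg.1 a b h ha hb e, hg.2 a b h ha hb e⟩)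

theorem isLocalOnSource_locP_smooth {P : MorphismProperty Scheme.{u}}
    [P.IsLocalAtSource (Scheme.precoverage @Smooth)] :
    IsLocalOnSource (IsSmCover (S := S)) (LocP P) :=
  haveI : MorphismProperty.ContainsIdentities (@Smooth : MorphismProperty Scheme.{u}) :=
    ⟨fun X => (inferInstance : Smooth (𝟙 X))⟩
  isLocalOnSource_locP_of_precoverage (Q := @Smooth) etale_le_smooth (fun _ _ hg => hg)

theorem isLocalOnSource_locP_etale {P : MorphismProperty Scheme.{u}}
    [hP : P.IsLocalAtSource Scheme.etalePrecoverage] :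
    IsLocalOnSource (IsEtCover (S := S)) (LocP P) := by
  haveI : P.IsLocalAtSource (Scheme.precoverage @Etale) := hP
  exact isLocalOnSource_locP_of_precoverage (Q := @Etale) le_rfl
    (fun g hY hg => locP_etale_of_isEtaleMor hY g hg)

end Fpqc

end Groth.Agent.Helper16.AS
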