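import Groth.Agent.Lib.Helper16.AlgSp.LftSp
import Groth.Agent.Lib.Helper16.AlgSp.SrcLoc
import Mathlib.AlgebraicGeometry.Morphisms.QuasiFinite

/-!
# Properties étale local on the source: unramified, locally quasi-finite
-/

set_option autoImplicit false
universe u
open CategoryTheory CategoryTheory.Limits AlgebraicGeometry MorphismProperty Opposite
open AlgSp Groth.Agent.Helper15

namespace Groth.Agent.Helper16.AS

variable {S : Scheme.{u}}

theorem isDiscrete_of_preimage {A B : Type*} [TopologicalSpace A] [TopologicalSpace B]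
    {e : A → B} (he : IsOpenMap e) (hs : Function.Surjective e) {T : Set B}
    (hT : IsDiscrete (e ⁻¹' T)) : IsDiscrete T := by
  rw [isDiscrete_iff_forall_mem_exists_isOpen] at hT ⊢
  intro t ht
  obtain ⟨a, rfl⟩ := hs t
  obtain ⟨W, hW, hWT⟩ := hT a ht
  refine ⟨e '' W, he W hW, ?_⟩
  ext b
  constructor
  · rintro ⟨⟨w, hw, rfl⟩, hb⟩
    have : w ∈ W ∩ e ⁻¹' T := ⟨hw, hb⟩
    rw [hWT] at this
    rw [Set.mem_singleton_iff] at this ⊢
    rw [this]
  · intro hb
    rw [Set.mem_singleton_iff] at hb
    rw [hb]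
    have : a ∈ W ∩ e ⁻¹' T := by rw [hWT]; exact Set.mem_singleton a
    exact ⟨⟨a, this.1, rfl⟩, ht⟩

theorem srcEtLoc_lqf_lft :
    SrcEtLoc (@LocallyQuasiFinite ⊓ @LocallyOfFiniteType : MorphismProperty Scheme.{u}) := by
  intro A B C e h he hes hc
  haveI : Etale e := he
  haveI : Surjective e := hes
  haveI : LocallyOfFiniteType h := srcEtLoc_lft e h he hes hc.2
  haveI : LocallyOfFiniteType (e ≫ h) := hc.2
  refine ⟨?_, inferInstance⟩
  have h1 := (locallyQuasiFinite_iff_isDiscrete_preimage_singleton (f := e ≫ h)).1 hc.1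
  rw [locallyQuasiFinite_iff_isDiscrete_preimage_singleton]
  intro c
  refine isDiscrete_of_preimage e.isOpenMap e.surjective ?_
  have := h1 c
  rwa [show (⇑(e ≫ h) : A → C) = ⇑h ∘ ⇑e from by ext x; simp, Set.preimage_comp] at this

/-- a property which is étale local on the source in the sense of `SrcEtLoc` is local at the
source for the étale precoverage. -/
theorem isLocalAtSource_etale_of_srcEtLoc {P : MorphismProperty Scheme.{u}}
    [IsZariskiLocalAtSource P] [P.IsStableUnderComposition]
    (hle : (@Etale : MorphismProperty Scheme.{u}) ≤ P) (hsrc : SrcEtLoc P) :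
    P.IsLocalAtSource Scheme.etalePrecoverage where
  comp {X Y f R} hR U g hg hf := P.comp_mem _ _ (hle _ _ _ (hR.2 hg)) hf
  of_forall_comp {X Y f R} hR h := by
    have h1 := (Presieve.mem_comap_jointlySurjectivePrecoverage_iff Scheme.forget).1 hR.1
    choose U g hg hx using h1
    let φ : ∐ (fun x : X => U x) ⟶ X := Sigma.desc g
    haveI : ∀ x, Etale (g x) := fun x => hR.2 (hg x)
    haveI : Etale φ := IsZariskiLocalAtSource.sigmaDesc (fun x => inferInstance)
    haveI : Surjective φ := by
      apply Surjective.sigmaDesc_of_union_range_eq_univ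
      rw [Set.eq_univ_iff_forall]
      intro x
      exact Set.mem_iUnion.2 ⟨x, hx x⟩
    refine hsrc φ f inferInstance inferInstance ?_
    have : φ ≫ f = Sigma.desc (fun x => g x ≫ f) := by
      apply Sigma.hom_ext
      intro x
      rw [Sigma.ι_desc, ← Category.assoc, Sigma.ι_desc]
    rw [this]
    exact IsZariskiLocalAtSource.sigmaDesc (P := P) (fun x => h (hg x))

theorem isLocalOnSource_et_locP_of_srcEtLoc {P : MorphismProperty Scheme.{u}}
    [IsZariskiLocalAtSource P] [P.IsStableUnderComposition]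
    (hle : (@Etale : MorphismProperty Scheme.{u}) ≤ P) (hsrc : SrcEtLoc P) :
    IsLocalOnSource (IsEtCover (S := S)) (LocP P) :=
  haveI := isLocalAtSource_etale_of_srcEtLoc hle hsrc
  isLocalOnSource_locP_etale

theorem isLocalOnSource_et_locP_lft :
    IsLocalOnSource (IsEtCover (S := S)) (LocP @LocallyOfFiniteType) :=
  isLocalOnSource_et_locP_of_srcEtLoc goodP_lft.etale_le srcEtLoc_lft

theorem isLocalOnSource_et_locP_unramified :
    IsLocalOnSource (IsEtCover (S := S)) (LocP (@LocallyOfFiniteType ⊓ @FormallyUnramified)) :=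
  isLocalOnSource_et_locP_of_srcEtLoc goodP_lft_unramified.etale_le srcEtLoc_unramified

theorem isLocalOnSource_et_locP_lqf_lft :
    IsLocalOnSource (IsEtCover (S := S)) (LocP (@LocallyQuasiFinite ⊓ @LocallyOfFiniteType)) :=
  isLocalOnSource_et_locP_of_srcEtLoc goodP_lqf_lft.etale_le srcEtLoc_lqf_lft

end Groth.Agent.Helper16.AS
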