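import Groth.Agent.Lib.Helper16.Alg.EtFP
import Groth.Agent.Lib.Helper16.AlgSp.SrcEtLocal
import Groth.Agent.Lib.Helper16.AlgSp.FlatSp
import Mathlib.AlgebraicGeometry.Morphisms.FinitePresentation

/-!
# Finite presentation and étale morphisms of algebraic spaces and fpqc coverings
-/

set_option autoImplicit false
universe u
open CategoryTheory CategoryTheory.Limits AlgebraicGeometry MorphismProperty Opposite
open AlgSp Groth.Agent.Helper15

namespace Groth.Agent.Helper16.Alg

/-- finite presentation descends on the source along étale surjective morphisms. -/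
theorem locallyOfFinitePresentation_of_comp_etale_surjective {U' U V : Scheme.{u}} (e : U' ⟶ U)
    (h : U ⟶ V) [Etale e] [Surjective e] (hP : LocallyOfFinitePresentation (e ≫ h)) :
    LocallyOfFinitePresentation h := by
  refine of_comp_etale_surjective (P := @LocallyOfFinitePresentation)
    (Q := @RingHom.FinitePresentation) ?_ e h hP
  intro R A B _ _ _ f g hg hgf hc
  algebraize [f, g, g.comp f]
  exact finitePresentation_of_etale_faithfullyFlat (R := R) (A := A) (B := B)

end Groth.Agent.Helper16.Alg

namespace Groth.Agent.Helper16.AS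

variable {S : Scheme.{u}}

theorem srcEtLoc_lfp : SrcEtLoc (@LocallyOfFinitePresentation : MorphismProperty Scheme.{u}) := by
  intro A B C e h he hes hc
  haveI : Etale e := he
  haveI : Surjective e := hes
  exact Groth.Agent.Helper16.Alg.locallyOfFinitePresentation_of_comp_etale_surjective e h hc

theorem srcEtLoc_etale : SrcEtLoc (@Etale : MorphismProperty Scheme.{u}) := by
  intro A B C e h he hes hc
  haveI : Etale (e ≫ h) := hc
  rw [Etale.iff_flat_and_formallyUnramified]
  exact ⟨srcEtLoc_flat e h he hes inferInstance,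
    srcEtLoc_formallyUnramified e h he hes inferInstance,
    srcEtLoc_lfp e h he hes inferInstance⟩

theorem isLocalOnBase_fpqc_locP_lfp :
    IsLocalOnBase (IsFpqcCover (S := S)) (LocP @LocallyOfFinitePresentation) :=
  isLocalOnBase_fpqc_of_std (isLocalOnBase_std_locP goodP_lfp srcEtLoc_lfp)

theorem isLocalOnBase_fpqc_locP_etale :
    IsLocalOnBase (IsFpqcCover (S := S)) (LocP @Etale) :=
  isLocalOnBase_fpqc_of_std (isLocalOnBase_std_locP goodP_etale srcEtLoc_etale)

theorem isLocalOnBase_fpqc_isEtaleMor :
    IsLocalOnBase (IsFpqcCover (S := S)) IsEtaleMor := by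
  refine isLocalOnBase_congr ?_ isLocalOnBase_fpqc_locP_etale
  intro X Y f hX hY
  exact ⟨fun h => isEtaleMor_of_locP_etale hY f h, fun h => locP_etale_of_isEtaleMor hY f h⟩

theorem isLocalOnSource_et_locP_lfp :
    IsLocalOnSource (IsEtCover (S := S)) (LocP @LocallyOfFinitePresentation) :=
  isLocalOnSource_et_locP_of_srcEtLoc goodP_lfp.etale_le srcEtLoc_lfp

theorem isLocalOnSource_et_locP_etale :
    IsLocalOnSource (IsEtCover (S := S)) (LocP @Etale) :=
  isLocalOnSource_et_locP_of_srcEtLoc goodP_etale.etale_le srcEtLoc_etale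

end Groth.Agent.Helper16.AS
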