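import Groth.Agent.Lib.Helper16.Alg.EtSm
import Groth.Agent.Lib.Helper16.AlgSp.LfpSp
import Mathlib.AlgebraicGeometry.Morphisms.Smooth

/-!
# Smooth morphisms of algebraic spaces and fpqc coverings
-/

set_option autoImplicit false
universe u
open CategoryTheory CategoryTheory.Limits AlgebraicGeometry MorphismProperty Opposite
open AlgSp Groth.Agent.Helper15

namespace Groth.Agent.Helper16.Alg

/-- smoothness descends on the source along étale surjective morphisms. -/
theorem smooth_of_comp_etale_surjective {U' U V : Scheme.{u}} (e : U' ⟶ U)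
    (h : U ⟶ V) [Etale e] [Surjective e] (hP : Smooth (e ≫ h)) : Smooth h := by
  refine of_comp_etale_surjective (P := @Smooth) (Q := @RingHom.Smooth) ?_ e h hP
  intro R A B _ _ _ f g hg hgf hc
  algebraize [f, g, g.comp f]
  exact smooth_of_etale_faithfullyFlat (R := R) (A := A) (B := B)

end Groth.Agent.Helper16.Alg

namespace Groth.Agent.Helper16.AS

variable {S : Scheme.{u}}

theorem srcEtLoc_smooth : SrcEtLoc (@Smooth : MorphismProperty Scheme.{u}) := by
  intro A B C e h he hes hc
  haveI : Etale e := he
  haveI : Surjective e := hes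
  exact Groth.Agent.Helper16.Alg.smooth_of_comp_etale_surjective e h hc

theorem isLocalOnBase_fpqc_locP_smooth :
    IsLocalOnBase (IsFpqcCover (S := S)) (LocP @Smooth) :=
  isLocalOnBase_fpqc_of_std (isLocalOnBase_std_locP goodP_smooth srcEtLoc_smooth)

theorem isLocalOnSource_et_locP_smooth :
    IsLocalOnSource (IsEtCover (S := S)) (LocP @Smooth) :=
  isLocalOnSource_et_locP_of_srcEtLoc goodP_smooth.etale_le srcEtLoc_smooth

end Groth.Agent.Helper16.AS
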