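import Groth.Agent.Lib.Helper16.AlgSp.SrcOpen

/-!
# Base change and composition for `LocP P`, for `P` etale local on the source
-/

set_option autoImplicit false
universe u
open CategoryTheory CategoryTheory.Limits AlgebraicGeometry MorphismProperty Opposite
open AlgSp Groth.Agent.Helper15

namespace Groth.Agent.Helper16.AS

variable {S : Scheme.{u}}

/-- `P` is local on the source for etale surjective morphisms of schemes. -/
def SrcEtLoc (P : MorphismProperty Scheme.{u}) : Prop :=
  ∀ ⦃A B C : Scheme.{u}⦄ (e : A ⟶ B) (h : B ⟶ C), Etale e → Surjective e → P (e ≫ h) → P h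

theorem etale_le_diagonal {P : MorphismProperty Scheme.{u}} (hP : GoodP P) :
    (@Etale : MorphismProperty Scheme.{u}) ≤ P.diagonal := by
  intro X Y f hf
  haveI : Etale f := hf
  exact hP.etale_le _ _ _ (inferInstance : Etale (pullback.diagonal f))

theorem goodP_isMultiplicative {P : MorphismProperty Scheme.{u}} (hP : GoodP P) :
    P.IsMultiplicative :=
  { hP.comp with id_mem := fun X => hP.etale_le _ _ _ (inferInstance : Etale (𝟙 X)) }

/-- cancellation of an etale second factor -/
theorem goodP_of_postcomp_etale {P : MorphismProperty Scheme.{u}} (hP : GoodP P)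
    {A B C : Scheme.{u}} (f : A ⟶ B) (g : B ⟶ C) (hg : Etale g) (h : P (f ≫ g)) : P f := by
  haveI := hP.bc
  haveI := goodP_isMultiplicative hP
  haveI : P.HasOfPostcompProperty @Etale :=
    (hasOfPostcompProperty_iff_le_diagonal (P := P) (Q := @Etale)).2 (etale_le_diagonal hP)
  exact MorphismProperty.HasOfPostcompProperty.of_postcomp (W := P) (W' := @Etale) f g hg h

/-- one chart criterion over a scheme -/
theorem locP_of_chart_over_scheme {P : MorphismProperty Scheme.{u}} (hP : GoodP P)
    (hsrc : SrcEtLoc P) {T : Sp S} {V₀ U₀ : Over S} (t : T ⟶ (yon S).obj V₀)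
    (r : (yon S).obj U₀ ⟶ T) (hre : RepWith @Etale r) (hrs : RepWith @Surjective r)
    (h₀ : U₀ ⟶ V₀) (hh : r ≫ t = (yon S).map h₀) (hP₀ : P h₀.left) : LocP P t := by
  haveI := hP.comp
  intro U V a b φ ha hb comm
  obtain ⟨β, rfl⟩ := (yon S).map_surjective b
  have hβ : Etale β.left := (repWith_yon_map_iff _ β).1 hb
  have hrep := hre.rep
  have sq := hrep.isPullback a
  have he : Etale (hrep.snd a).left := hre.property_snd a
  have hes : Surjective (hrep.snd a).left := hrs.property_snd a
  obtain ⟨e₀, he₀⟩ := (yon S).map_surjective (hrep.fst a)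
  have he₀et : Etale e₀.left := by
    rw [← repWith_yon_map_iff (P := @Etale) e₀, he₀]
    exact (RepWith @Etale).of_isPullback sq.flip ha
  have key : hrep.snd a ≫ φ ≫ β = e₀ ≫ h₀ := by
    apply (yon S).map_injective
    rw [Functor.map_comp, Functor.map_comp, Functor.map_comp, ← comm, ← Category.assoc, ← sq.w,
      Category.assoc, hh, he₀]
  have h1 : P (e₀.left ≫ h₀.left) := P.comp_mem _ _ (hP.etale_le _ _ _ he₀et) hP₀
  have h2 : P (((hrep.snd a).left ≫ φ.left) ≫ β.left) := by
    have := congrArg (fun m => m.left) key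
    simp only [Over.comp_left] at this
    rw [Category.assoc, this]
    exact h1
  have h3 : P ((hrep.snd a).left ≫ φ.left) := goodP_of_postcomp_etale hP _ _ hβ h2
  exact hsrc _ _ he hes h3

/-- one chart criterion -/
theorem locP_of_charts {P : MorphismProperty Scheme.{u}} (hP : GoodP P) (hsrc : SrcEtLoc P)
    {X Y XV : Sp S} (f : X ⟶ Y) {V₀ U₀ : Over S} (q : (yon S).obj V₀ ⟶ Y)
    (hqe : RepWith @Etale q) (hqs : RepWith @Surjective q) (fstX : XV ⟶ X)
    (sndX : XV ⟶ (yon S).obj V₀) (sq : IsPullback fstX sndX f q) (r : (yon S).obj U₀ ⟶ XV)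
    (hre : RepWith @Etale r) (hrs : RepWith @Surjective r) (h₀ : U₀ ⟶ V₀)
    (hh : r ≫ sndX = (yon S).map h₀) (hP₀ : P h₀.left) : LocP P f := by
  haveI := hP.bc
  haveI := hP.loc
  exact locP_of_target_cover P f q hqe hqs fstX sndX sq
    (locP_of_chart_over_scheme hP hsrc sndX r hre hrs h₀ hh hP₀)

/-- existence of charts adapted to a morphism, with the property given by `LocP` -/
theorem exists_charts_of_locP {P : MorphismProperty Scheme.{u}} {X Y : Sp S} (hX : IsAlgSpace X)
    (hY : IsAlgSpace Y) (f : X ⟶ Y) (hf : LocP P f) :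
    ∃ (V₀ U₀ : Over S) (q : (yon S).obj V₀ ⟶ Y) (r : (yon S).obj U₀ ⟶ pullback f q)
      (h₀ : U₀ ⟶ V₀), RepWith @Etale q ∧ RepWith @Surjective q ∧ RepWith @Etale r ∧
        RepWith @Surjective r ∧ r ≫ pullback.snd f q = (yon S).map h₀ ∧ P h₀.left := by
  obtain ⟨V₀, q, hqe, hqs⟩ := hY.atlas
  have hXV : IsAlgSpace (pullback f q) :=
    isAlgSpace_of_isPullback hY.diag hX (IsAlgSpace.yon_obj V₀) (IsPullback.of_hasPullback f q)
  obtain ⟨U₀, r, hre, hrs⟩ := hXV.atlas
  obtain ⟨h₀, hh⟩ := (yon S).map_surjective (r ≫ pullback.snd f q)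
  refine ⟨V₀, U₀, q, r, h₀, hqe, hqs, hre, hrs, hh.symm, ?_⟩
  have hfst : RepWith @Etale (pullback.fst f q) :=
    (RepWith @Etale).of_isPullback (IsPullback.of_hasPullback f q).flip hqe
  refine hf (r ≫ pullback.fst f q) q h₀ ((RepWith @Etale).comp_mem _ _ hre hfst) hqe ?_
  rw [Category.assoc, pullback.condition, ← Category.assoc, hh]

end Groth.Agent.Helper16.AS

namespace Groth.Agent.Helper16.AS

variable {S : Scheme.{u}}

/-- `LocP P` is stable under base change, for `P` etale local on the source. -/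
theorem locP_of_isPullback {P : MorphismProperty Scheme.{u}} (hP : GoodP P) (hsrc : SrcEtLoc P)
    {X Y X' Y' : Sp S} (hX : IsAlgSpace X) (hY : IsAlgSpace Y) (hY' : IsAlgSpace Y')
    {f : X ⟶ Y} {g : Y' ⟶ Y} {f' : X' ⟶ Y'} {g' : X' ⟶ X} (sq' : IsPullback g' f' f g)
    (hf : LocP P f) : LocP P f' := by
  haveI := hP.bc
  obtain ⟨V₀, U₀, q, r, h₀, hqe, hqs, hre, hrs, hh, hP₀⟩ := exists_charts_of_locP hX hY f hf
  have hY'V : IsAlgSpace (pullback g q) :=
    isAlgSpace_of_isPullback hY.diag hY' (IsAlgSpace.yon_obj V₀) (IsPullback.of_hasPullback g q)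
  obtain ⟨V₀', q'', hq''e, hq''s⟩ := hY'V.atlas
  have hpr₁e : RepWith @Etale (pullback.fst g q) :=
    (RepWith @Etale).of_isPullback (IsPullback.of_hasPullback g q).flip hqe
  have hpr₁s : RepWith @Surjective (pullback.fst g q) :=
    (RepWith @Surjective).of_isPullback (IsPullback.of_hasPullback g q).flip hqs
  have hq'e : RepWith @Etale (q'' ≫ pullback.fst g q) := (RepWith @Etale).comp_mem _ _ hq''e hpr₁e
  have hq's : RepWith @Surjective (q'' ≫ pullback.fst g q) :=
    (RepWith @Surjective).comp_mem _ _ hq''s hpr₁s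
  obtain ⟨ν, hν⟩ := (yon S).map_surjective (q'' ≫ pullback.snd g q)
  set q' := q'' ≫ pullback.fst g q with hq'
  have eq1 : q' ≫ g = (yon S).map ν ≫ q := by
    rw [hq', Category.assoc, pullback.condition, ← Category.assoc, hν]
  have big : IsPullback (pullback.fst f' q' ≫ g') (pullback.snd f' q') f ((yon S).map ν ≫ q) := by
    rw [← eq1]
    exact (IsPullback.of_hasPullback f' q').paste_horiz sq'
  have sqXV := IsPullback.of_hasPullback f q
  have hbigw : (pullback.fst f' q' ≫ g') ≫ f = (pullback.snd f' q' ≫ (yon S).map ν) ≫ q := by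
    rw [Category.assoc _ _ q]; exact big.w
  have right : IsPullback (sqXV.lift _ _ hbigw) (pullback.snd f' q') (pullback.snd f q)
      ((yon S).map ν) := by
    refine IsPullback.of_right ?_ (sqXV.lift_snd _ _ hbigw) sqXV
    rw [sqXV.lift_fst]
    exact big
  set ρ := sqXV.lift _ _ hbigw
  have sqU : IsPullback ((yon S).map (pullback.fst h₀ ν)) ((yon S).map (pullback.snd h₀ ν))
      (r ≫ pullback.snd f q) ((yon S).map ν) := by
    rw [hh]
    exact (IsPullback.of_hasPullback h₀ ν).map (yon S)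
  have hw : ((yon S).map (pullback.fst h₀ ν) ≫ r) ≫ pullback.snd f q =
      (yon S).map (pullback.snd h₀ ν) ≫ (yon S).map ν := by
    rw [Category.assoc]; exact sqU.w
  have left : IsPullback (right.lift _ _ hw) ((yon S).map (pullback.fst h₀ ν)) ρ r := by
    refine IsPullback.of_right ?_ (right.lift_fst _ _ hw) right.flip
    rw [right.lift_snd]
    exact sqU.flip
  have hr'e : RepWith @Etale (right.lift _ _ hw) :=
    (RepWith @Etale).of_isPullback left.flip hre
  have hr's : RepWith @Surjective (right.lift _ _ hw) :=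
    (RepWith @Surjective).of_isPullback left.flip hrs
  have hPπ : P (pullback.snd h₀ ν).left :=
    P.of_isPullback ((IsPullback.of_hasPullback h₀ ν).map (Over.forget S)) hP₀
  exact locP_of_charts hP hsrc f' q' hq'e hq's (pullback.fst f' q') (pullback.snd f' q')
    (IsPullback.of_hasPullback f' q') (right.lift _ _ hw) hr'e hr's (pullback.snd h₀ ν)
    (right.lift_snd _ _ hw) hPπ

/-- `LocP P` is stable under composition, for `P` etale local on the source. -/
theorem locP_comp {P : MorphismProperty Scheme.{u}} (hP : GoodP P) (hsrc : SrcEtLoc P)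
    {X Y Z : Sp S} (hX : IsAlgSpace X) (hY : IsAlgSpace Y) (hZ : IsAlgSpace Z)
    (f : X ⟶ Y) (g : Y ⟶ Z) (hf : LocP P f) (hg : LocP P g) : LocP P (f ≫ g) := by
  haveI := hP.bc
  haveI := hP.comp
  obtain ⟨W₀, V₀, w, v, k₀, hwe, hws, hve, hvs, hk, hPk⟩ := exists_charts_of_locP hY hZ g hg
  have hfst_gw : RepWith @Etale (pullback.fst g w) :=
    (RepWith @Etale).of_isPullback (IsPullback.of_hasPullback g w).flip hwe
  have hbe : RepWith @Etale (v ≫ pullback.fst g w) := (RepWith @Etale).comp_mem _ _ hve hfst_gw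
  set b := v ≫ pullback.fst g w with hb
  have hXV : IsAlgSpace (pullback f b) :=
    isAlgSpace_of_isPullback hY.diag hX (IsAlgSpace.yon_obj V₀) (IsPullback.of_hasPullback f b)
  obtain ⟨U₀, r, hre, hrs⟩ := hXV.atlas
  obtain ⟨h₀, hh⟩ := (yon S).map_surjective (r ≫ pullback.snd f b)
  have hfst_fb : RepWith @Etale (pullback.fst f b) :=
    (RepWith @Etale).of_isPullback (IsPullback.of_hasPullback f b).flip hbe
  have hP₀ : P h₀.left := by
    refine hf (r ≫ pullback.fst f b) b h₀ ((RepWith @Etale).comp_mem _ _ hre hfst_fb) hbe ?_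
    rw [Category.assoc, pullback.condition, ← Category.assoc, hh]
  -- σ : XW → YW
  have sqYW := IsPullback.of_hasPullback g w
  have sqXW := IsPullback.of_hasPullback (f ≫ g) w
  have hσw : (pullback.fst (f ≫ g) w ≫ f) ≫ g = pullback.snd (f ≫ g) w ≫ w := by
    rw [Category.assoc]; exact sqXW.w
  have sqσ : IsPullback (sqYW.lift _ _ hσw) (pullback.fst (f ≫ g) w) (pullback.fst g w) f := by
    refine IsPullback.of_right ?_ (sqYW.lift_fst _ _ hσw) sqYW.flip
    rw [sqYW.lift_snd]
    exact sqXW.flip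
  set σ := sqYW.lift _ _ hσw
  have hτw : pullback.fst f b ≫ f = (pullback.snd f b ≫ v) ≫ pullback.fst g w := by
    rw [Category.assoc]; exact pullback.condition
  have sqτ : IsPullback (sqσ.flip.lift _ _ hτw) (pullback.snd f b) σ v := by
    refine IsPullback.of_right ?_ (sqσ.flip.lift_snd _ _ hτw) sqσ.flip
    rw [sqσ.flip.lift_fst]
    exact IsPullback.of_hasPullback f b
  set τ := sqσ.flip.lift _ _ hτw
  have hτe : RepWith @Etale τ := (RepWith @Etale).of_isPullback sqτ.flip hve
  have hτs : RepWith @Surjective τ := (RepWith @Surjective).of_isPullback sqτ.flip hvs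
  have hrτe : RepWith @Etale (r ≫ τ) := (RepWith @Etale).comp_mem _ _ hre hτe
  have hrτs : RepWith @Surjective (r ≫ τ) := (RepWith @Surjective).comp_mem _ _ hrs hτs
  have hcomm : (r ≫ τ) ≫ pullback.snd (f ≫ g) w = (yon S).map (h₀ ≫ k₀) := by
    have e1 : τ ≫ pullback.snd (f ≫ g) w = pullback.snd f b ≫ v ≫ pullback.snd g w := by
      have : pullback.snd (f ≫ g) w = σ ≫ pullback.snd g w := (sqYW.lift_snd _ _ hσw).symm
      rw [this, ← Category.assoc, sqτ.w, Category.assoc]
    rw [Category.assoc, e1, hk, ← Category.assoc, ← hh, Functor.map_comp]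
  exact locP_of_charts hP hsrc (f ≫ g) w hwe hws _ _ sqXW (r ≫ τ) hrτe hrτs (h₀ ≫ k₀) hcomm
    (P.comp_mem _ _ hP₀ hPk)

end Groth.Agent.Helper16.AS
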