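import Groth.Agent.Lib.Helper16.AlgSp.FinRef

/-!
# An fppf covering is an fpqc covering
-/

set_option autoImplicit false
universe u
open CategoryTheory CategoryTheory.Limits AlgebraicGeometry MorphismProperty Opposite
open AlgSp Groth.Agent.Helper15

namespace Groth.Agent.Helper16.AS

variable {S : Scheme.{u}}

theorem ofPt_yon_map {T T' : Over S} (φ : T ⟶ T') (v : T.left) :
    Points.ofPt ((yon S).map φ) v = Points.ofScheme T' (φ.left v) := by
  have := ofPt_comp_yon_map φ (𝟙 ((yon S).obj T')) v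
  rwa [Category.comp_id] at this

theorem isStdRefinable_of_isFppfCover {ι : Type u} {X : Sp S} (hX : IsAlgSpace X)
    {Xi : ι → Sp S} (hXi : ∀ i, IsAlgSpace (Xi i)) {g : ∀ i, Xi i ⟶ X}
    (h : IsFppfCover Xi g) : IsStdRefinable Xi g := by
  intro Z hZ t
  obtain ⟨V, p, hpe, hps⟩ := hX.atlas
  have hrep := hpe.rep
  have sqZ := hrep.isPullback t
  have hee : Etale (hrep.snd t).left := hpe.property_snd t
  have hes : Surjective (hrep.snd t).left := hps.property_snd t
  obtain ⟨τ', hτ'⟩ := (yon S).map_surjective (hrep.fst t)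
  choose Vi r hre hrs using fun i => (hXi i).atlas
  have sqA := fun i => hrep.isPullback (r i ≫ g i)
  have hαe : ∀ i, Etale (hrep.snd (r i ≫ g i)).left := fun i => hpe.property_snd _
  choose η hη using fun i => (yon S).map_surjective (hrep.fst (r i ≫ g i))
  have hηP : ∀ i, Flat (η i).left ∧ LocallyOfFinitePresentation (η i).left := by
    intro i
    refine (h.1 i).imp (fun hf => ?_) (fun hf => ?_) <;>
    · refine hf ((yon S).map (hrep.snd (r i ≫ g i)) ≫ r i) p (η i)
        ((RepWith @Etale).comp_mem _ _ ((repWith_yon_map_iff _ _).2 (hαe i)) (hre i)) hpe ?_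
      rw [Category.assoc, ← (sqA i).w, hη]
  -- the schemes `B i`
  let B : ι → Over S := fun i => pullback (η i) τ'
  let b : ∀ i, B i ⟶ Z := fun i => pullback.snd (η i) τ' ≫ hrep.snd t
  have hβ : ∀ i, Flat (pullback.snd (η i) τ').left ∧
      LocallyOfFinitePresentation (pullback.snd (η i) τ').left := fun i =>
    ⟨MorphismProperty.of_isPullback (P := @Flat)
      ((IsPullback.of_hasPullback (η i) τ').map (Over.forget S)) (hηP i).1,
     MorphismProperty.of_isPullback (P := @LocallyOfFinitePresentation)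
      ((IsPullback.of_hasPullback (η i) τ').map (Over.forget S)) (hηP i).2⟩
  have hbflat : ∀ i, Flat (b i).left := by
    intro i
    change Flat ((pullback.snd (η i) τ').left ≫ (hrep.snd t).left)
    haveI := (hβ i).1
    infer_instance
  have hbopen : ∀ i, IsOpenMap (b i).left := by
    intro i
    haveI : Flat (b i).left := hbflat i
    haveI : LocallyOfFinitePresentation (b i).left := by
      change LocallyOfFinitePresentation ((pullback.snd (η i) τ').left ≫ (hrep.snd t).left)
      haveI := (hβ i).2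
      infer_instance
    exact (b i).left.isOpenMap
  have hbsurj : ∀ z : ↥Z.left, ∃ i, z ∈ Set.range (b i).left := by
    intro z
    obtain ⟨z', rfl⟩ := hes.surj z
    obtain ⟨i, xi, hxi⟩ := h.2 (Points.ofPt p (τ'.left z'))
    obtain ⟨vi, rfl⟩ := surjective_ofPt (r i) (hrs i) xi
    rw [Points.map_ofPt] at hxi
    have sqA' : IsPullback ((yon S).map (η i)) ((yon S).map (hrep.snd (r i ≫ g i))) p
        (r i ≫ g i) := by
      rw [hη]; exact sqA i
    obtain ⟨y, hy1, hy2⟩ := exists_of_ofPt_eq sqA' (τ'.left z') vi hxi.symm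
    obtain ⟨w, hw1, hw2⟩ := exists_of_ofPt_eq ((IsPullback.of_hasPullback (η i) τ').map (yon S))
      y z' (by rw [ofPt_yon_map, ofPt_yon_map, hy1])
    refine ⟨i, w, ?_⟩
    change ((pullback.snd (η i) τ').left ≫ (hrep.snd t).left) w = _
    rw [Scheme.Hom.comp_apply, hw2]
  haveI : CompactSpace Z.left := by
    haveI := hZ
    infer_instance
  obtain ⟨m, W, c, hc, hd⟩ := exists_finite_affine_refinement B b hbflat hbopen hbsurj
  refine ⟨m, W, c, hc, fun j => ?_⟩
  obtain ⟨i, d, hd⟩ := hd j
  refine ⟨i, (yon S).map (d ≫ pullback.fst (η i) τ' ≫ hrep.snd (r i ≫ g i)) ≫ r i, ?_⟩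
  have e1 : (yon S).map (hrep.snd (r i ≫ g i)) ≫ r i ≫ g i = (yon S).map (η i) ≫ p := by
    rw [← (sqA i).w, hη]
  have e2 : (yon S).map τ' ≫ p = (yon S).map (hrep.snd t) ≫ t := by
    rw [hτ']; exact sqZ.w
  calc ((yon S).map (d ≫ pullback.fst (η i) τ' ≫ hrep.snd (r i ≫ g i)) ≫ r i) ≫ g i
      = (yon S).map d ≫ (yon S).map (pullback.fst (η i) τ') ≫
          ((yon S).map (hrep.snd (r i ≫ g i)) ≫ r i ≫ g i) := by
        simp only [Functor.map_comp, Category.assoc]
    _ = (yon S).map d ≫ (yon S).map (pullback.fst (η i) τ' ≫ η i) ≫ p := by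
        rw [e1, Functor.map_comp, Category.assoc]
    _ = (yon S).map d ≫ (yon S).map (pullback.snd (η i) τ') ≫ (yon S).map τ' ≫ p := by
        rw [pullback.condition, Functor.map_comp, Category.assoc]
    _ = (yon S).map (c j) ≫ t := by
        rw [e2, ← hd]
        simp only [Functor.map_comp, Category.assoc, b]

theorem isFpqcCover_of_isFppfCover {ι : Type u} {X : Sp S} (hX : IsAlgSpace X)
    {Xi : ι → Sp S} (hXi : ∀ i, IsAlgSpace (Xi i)) {g : ∀ i, Xi i ⟶ X}
    (h : IsFppfCover Xi g) : IsFpqcCover Xi g :=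
  isFpqcCover_iff.2 ⟨fun i => (h.1 i).1, isStdRefinable_of_isFppfCover hX hXi h⟩

end Groth.Agent.Helper16.AS
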