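import Groth.Agent.Lib.Helper16.AlgSp.FpqcBase

/-!
# Quasi-compactness is fpqc local on the base
-/

set_option autoImplicit false
universe u
open CategoryTheory CategoryTheory.Limits AlgebraicGeometry MorphismProperty Opposite
open AlgSp Groth.Agent.Helper15

namespace Groth.Agent.Helper16.AS

variable {S : Scheme.{u}}

/-- points of the target of a standard fpqc covering lift -/
theorem StdFpqc.exists_point {Z : Over S} {m : ℕ} {W : Fin m → Over S} {c : ∀ j, W j ⟶ Z}
    (hc : StdFpqc Z m W c) (y : Points ((yon S).obj Z)) :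
    ∃ (j : Fin m) (w : Points ((yon S).obj (W j))), Points.map ((yon S).map (c j)) w = y := by
  obtain ⟨j, w, hw⟩ := hc.surj ((Points.schemeHomeo Z).symm y)
  refine ⟨j, Points.schemeHomeo (W j) w, ?_⟩
  rw [Points.map_yon_map_apply, hw]
  exact (Points.schemeHomeo Z).apply_symm_apply _

/-- points of a sheaf over `h_Z` lift to the base change to some member of a standard fpqc
covering -/
theorem StdFpqc.exists_point_over {Z : Over S} {m : ℕ} {W : Fin m → Over S} {c : ∀ j, W j ⟶ Z}
    (hc : StdFpqc Z m W c) {T : Sp S} (t : T ⟶ (yon S).obj Z) (x : Points T) :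
    ∃ (j : Fin m) (x' : Points (pullback t ((yon S).map (c j)))),
      Points.map (pullback.fst t ((yon S).map (c j))) x' = x := by
  obtain ⟨j, w, hw⟩ := hc.exists_point (Points.map t x)
  obtain ⟨x', hx', -⟩ := exists_point_of_isPullback
    (IsPullback.of_hasPullback t ((yon S).map (c j))) x w hw.symm
  exact ⟨j, x', hx'⟩

theorem isQuasiCompactMor_of_isPullback {X Y X' Y' : Sp S} {f : X ⟶ Y} {g : Y' ⟶ Y} {f' : X' ⟶ Y'}
    {g' : X' ⟶ X} (sq : IsPullback g' f' f g) (hf : IsQuasiCompactMor f) :
    IsQuasiCompactMor f' := by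
  intro Z Z' hZ hZqc z fst snd sqZ
  exact hf hZ hZqc (z ≫ g) (fst ≫ g') snd (sqZ.paste_horiz sq)

theorem isQuasiCompactSp_yon_of_isAffine (Z : Over S) (hZ : IsAffine Z.left) :
    IsQuasiCompactSp ((yon S).obj Z) :=
  (isQuasiCompactSp_yon_iff Z).2 inferInstance

/-- quasi-compactness of the source descends along a standard fpqc covering of the target -/
theorem isQuasiCompactSp_of_stdFpqc {Z : Over S} {m : ℕ} {W : Fin m → Over S} {c : ∀ j, W j ⟶ Z}
    (hc : StdFpqc Z m W c) {T : Sp S} (hT : IsAlgSpace T) (t : T ⟶ (yon S).obj Z)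
    (h : ∀ j, IsQuasiCompactSp (pullback t ((yon S).map (c j)))) : IsQuasiCompactSp T := by
  haveI : CompactSpace (Points T) := by
    refine ⟨?_⟩
    have hcover : (Set.univ : Set (Points T)) =
        ⋃ j : Fin m, Set.range (Points.map (pullback.fst t ((yon S).map (c j)))) := by
      ext x
      simp only [Set.mem_univ, Set.mem_iUnion, Set.mem_range, true_iff]
      obtain ⟨j, x', hx'⟩ := hc.exists_point_over t x
      exact ⟨j, x', hx'⟩
    rw [hcover]
    refine isCompact_iUnion fun j => ?_
    haveI := compactSpace_points_of_isQuasiCompactSp (h j)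
    exact isCompact_range (Points.continuous_map _)
  exact isQuasiCompactSp_of_compactSpace_points hT

theorem isLocalOnBase_fpqc_isQuasiCompactMor :
    IsLocalOnBase (IsFpqcCover (S := S)) IsQuasiCompactMor := by
  refine isLocalOnBase_fpqc_of IsQuasiCompactMor (fun T _ _ => IsQuasiCompactSp T) ?_ ?_ ?_ ?_
  · intro X Y X' Y' f g f' g' _ _ _ _ sq hf
    exact isQuasiCompactMor_of_isPullback sq hf
  · intro X Y T f _ _ hf Z hZ h fst snd sq
    exact hf (IsAlgSpace.yon_obj Z) (isQuasiCompactSp_yon_of_isAffine Z hZ) h fst snd sq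
  · intro X Y f _ _ h
    exact isQuasiCompactMor_of_forall_affine f h
  · intro Z hZ T t hT m W c hc h
    exact isQuasiCompactSp_of_stdFpqc hc hT t h

end Groth.Agent.Helper16.AS
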