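import Groth.Agent.Lib.Helper16.AlgSp.FpqcTop

/-!
# Universally closed/open/injective/submersive/homeo are fpqc local on the base
-/

set_option autoImplicit false
universe u
open CategoryTheory CategoryTheory.Limits AlgebraicGeometry MorphismProperty Opposite
open AlgSp Groth.Agent.Helper15

namespace Groth.Agent.Helper16.AS

variable {S : Scheme.{u}}

/-- variant of `isLocalOnBase_fpqc_of` where the affine criterion quantifies over all pullback
squares -/
theorem isLocalOnBase_fpqc_of' (P Q : MorphismProperty (Sp S))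
    (hbc : ∀ ⦃X Y X' Y' : Sp S⦄ (f : X ⟶ Y) (g : Y' ⟶ Y) (f' : X' ⟶ Y') (g' : X' ⟶ X),
      IsAlgSpace X → IsAlgSpace Y → IsAlgSpace X' → IsAlgSpace Y' →
      IsPullback g' f' f g → P f → P f')
    (hPQ : ∀ ⦃X Y T : Sp S⦄ (f : X ⟶ Y), IsAlgSpace X → IsAlgSpace Y → P f →
      ∀ (Z : Over S), IsAffine Z.left → ∀ (h : (yon S).obj Z ⟶ Y) (fst : T ⟶ X)
        (snd : T ⟶ (yon S).obj Z), IsPullback fst snd f h → Q snd)
    (haff : ∀ ⦃X Y : Sp S⦄ (f : X ⟶ Y), IsAlgSpace X → IsAlgSpace Y →
      (∀ (Z : Over S), IsAffine Z.left → ∀ (h : (yon S).obj Z ⟶ Y) (T : Sp S) (fst : T ⟶ X)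
        (snd : T ⟶ (yon S).obj Z), IsPullback fst snd f h → Q snd) → P f)
    (hdesc : ∀ (Z : Over S), IsAffine Z.left → ∀ ⦃T : Sp S⦄ (t : T ⟶ (yon S).obj Z),
      IsAlgSpace T → ∀ (m : ℕ) (W : Fin m → Over S) (c : ∀ j, W j ⟶ Z), StdFpqc Z m W c →
      (∀ j, Q (pullback.snd t ((yon S).map (c j)))) → Q t) :
    IsLocalOnBase (IsFpqcCover (S := S)) P := by
  intro ι Y Yi g hY hYi hcov X f hX Xi p q hXi sq
  constructor
  · intro hf i
    exact hbc f (g i) (p i) (q i) hX hY (hXi i) (hYi i) (sq i) hf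
  · intro hp
    apply haff f hX hY
    intro Z hZ h T fst snd sqT
    have hT : IsAlgSpace T :=
      isAlgSpace_of_isPullback hY.diag hX (IsAlgSpace.yon_obj Z) sqT
    obtain ⟨m, W, c, hWaff, hcflat, hcsurj, hl⟩ := hcov.2 Z hZ h
    apply hdesc Z hZ snd hT m W c ⟨hWaff, hcflat, hcsurj⟩
    intro j
    obtain ⟨i, l, hl⟩ := hl j
    obtain ⟨u, hu⟩ := isPullback_lift_of_cover (sq i) sqT hl
      (IsPullback.of_hasPullback snd ((yon S).map (c j)))
    exact hPQ (p i) (hXi i) (hYi i) (hp i) (W j) (hWaff j) l u _ hu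

/-- The general principle for universal properties. -/
theorem isLocalOnBase_fpqc_univSp (Q₀ : MorphismProperty (Sp S))
    (hQaff : ∀ {Z' Z : Sp S} (snd : Z' ⟶ Z),
      (∀ (T : Over S), IsAffine T.left → ∀ (t : (yon S).obj T ⟶ Z), Q₀ (pullback.snd snd t)) →
        Q₀ snd)
    (hdesc : ∀ (Z : Over S), IsAffine Z.left → ∀ ⦃T : Sp S⦄ (t : T ⟶ (yon S).obj Z),
      IsAlgSpace T → ∀ (m : ℕ) (W : Fin m → Over S) (c : ∀ j, W j ⟶ Z), StdFpqc Z m W c →
      (∀ j, Q₀ (pullback.snd t ((yon S).map (c j)))) → Q₀ t) :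
    IsLocalOnBase (IsFpqcCover (S := S)) (UnivSp Q₀) := by
  refine isLocalOnBase_fpqc_of' (UnivSp Q₀) Q₀ ?_ ?_ ?_ hdesc
  · intro X Y X' Y' f g f' g' _ _ _ _ sq hf
    exact UnivSp.of_isPullback sq hf
  · intro X Y T f _ _ hf Z hZ h fst snd sq
    exact hf (IsAlgSpace.yon_obj Z) h fst snd sq
  · intro X Y f _ _ h
    exact univSp_of_forall_affine hQaff f h

/-! ### Points of an affine scheme and a standard covering -/

theorem StdFpqc.isOpen_iff {Z : Over S} [IsAffine Z.left] {m : ℕ} {W : Fin m → Over S}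
    {c : ∀ j, W j ⟶ Z} (hc : StdFpqc Z m W c) (B : Set (Points ((yon S).obj Z))) :
    IsOpen B ↔ ∀ j, IsOpen (Points.map ((yon S).map (c j)) ⁻¹' B) := by
  haveI := hc.affine
  rw [← (Points.schemeHomeo Z).isOpen_preimage,
    isOpen_iff_of_stdCover (fun j => (W j).left) (fun j => (c j).left) hc.flat hc.surj]
  refine forall_congr' fun j => ?_
  rw [← (Points.schemeHomeo (W j)).isOpen_preimage]
  have : (c j).left ⁻¹' ((Points.schemeHomeo Z) ⁻¹' B) =
      (Points.schemeHomeo (W j)) ⁻¹' (Points.map ((yon S).map (c j)) ⁻¹' B) := by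
    ext w
    simp only [Set.mem_preimage, Points.map_yon_map_apply]
  rw [this]

theorem StdFpqc.isClosed_iff {Z : Over S} [IsAffine Z.left] {m : ℕ} {W : Fin m → Over S}
    {c : ∀ j, W j ⟶ Z} (hc : StdFpqc Z m W c) (B : Set (Points ((yon S).obj Z))) :
    IsClosed B ↔ ∀ j, IsClosed (Points.map ((yon S).map (c j)) ⁻¹' B) := by
  rw [← isOpen_compl_iff, hc.isOpen_iff]
  refine forall_congr' fun j => ?_
  rw [Set.preimage_compl, isOpen_compl_iff]

/-! ### Closed -/

theorem isClosedMor_of_stdFpqc {Z : Over S} (hZ : IsAffine Z.left) {T : Sp S}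
    (t : T ⟶ (yon S).obj Z) {m : ℕ} {W : Fin m → Over S} {c : ∀ j, W j ⟶ Z}
    (hc : StdFpqc Z m W c) (h : ∀ j, IsClosedMor (pullback.snd t ((yon S).map (c j)))) :
    IsClosedMor t := by
  intro B hB
  rw [hc.isClosed_iff]
  intro j
  rw [preimage_image_eq_of_isPullback (IsPullback.of_hasPullback t ((yon S).map (c j))) B]
  exact h j _ (hB.preimage (Points.continuous_map _))

theorem isLocalOnBase_fpqc_isUnivClosedMor :
    IsLocalOnBase (IsFpqcCover (S := S)) IsUnivClosedMor :=
  isLocalOnBase_fpqc_univSp IsClosedMor (fun snd h => isClosedMor_of_forall_affine snd h)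
    (fun _ hZ _ t _ _ _ _ hc h => isClosedMor_of_stdFpqc hZ t hc h)

/-! ### Open -/

theorem isOpenMor_of_stdFpqc {Z : Over S} (hZ : IsAffine Z.left) {T : Sp S}
    (t : T ⟶ (yon S).obj Z) {m : ℕ} {W : Fin m → Over S} {c : ∀ j, W j ⟶ Z}
    (hc : StdFpqc Z m W c) (h : ∀ j, IsOpenMor (pullback.snd t ((yon S).map (c j)))) :
    IsOpenMor t := by
  intro B hB
  rw [hc.isOpen_iff]
  intro j
  rw [preimage_image_eq_of_isPullback (IsPullback.of_hasPullback t ((yon S).map (c j))) B]
  exact h j _ (hB.preimage (Points.continuous_map _))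

theorem isLocalOnBase_fpqc_isUnivOpenMor :
    IsLocalOnBase (IsFpqcCover (S := S)) IsUnivOpenMor :=
  isLocalOnBase_fpqc_univSp IsOpenMor (fun snd h => isOpenMor_of_forall_affine snd h)
    (fun _ hZ _ t _ _ _ _ hc h => isOpenMor_of_stdFpqc hZ t hc h)

/-! ### Points through affine schemes -/

theorem exists_affine_point {Z : Sp S} (z : Points Z) :
    ∃ (T : Over S) (_ : IsAffine T.left) (t : (yon S).obj T ⟶ Z) (pt : Points ((yon S).obj T)),
      Points.map t pt = z := by
  obtain ⟨K, _, str, ξ, rfl⟩ := exists_ofField z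
  refine ⟨Over.mk str, (inferInstance : IsAffine (Spec (CommRingCat.of K))), ξ,
    ofField (𝟙 _), ?_⟩
  rw [map_ofField, Category.id_comp]

/-! ### Injective -/

theorem injective_of_forall_affine {Z' Z : Sp S} (snd : Z' ⟶ Z)
    (h : ∀ (T : Over S), IsAffine T.left → ∀ (t : (yon S).obj T ⟶ Z),
      Function.Injective (Points.map (pullback.snd snd t))) :
    Function.Injective (Points.map snd) := by
  intro x y hxy
  obtain ⟨T, hT, t, pt, hpt⟩ := exists_affine_point (Points.map snd x)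
  obtain ⟨x', hx', hx''⟩ := exists_point_of_isPullback (IsPullback.of_hasPullback snd t) x pt
    hpt.symm
  obtain ⟨y', hy', hy''⟩ := exists_point_of_isPullback (IsPullback.of_hasPullback snd t) y pt
    (hxy ▸ hpt.symm)
  have := h T hT t (hx''.trans hy''.symm)
  rw [← hx', ← hy', this]

theorem injective_of_stdFpqc {Z : Over S} {T : Sp S}
    (t : T ⟶ (yon S).obj Z) {m : ℕ} {W : Fin m → Over S} {c : ∀ j, W j ⟶ Z}
    (hc : StdFpqc Z m W c)
    (h : ∀ j, Function.Injective (Points.map (pullback.snd t ((yon S).map (c j))))) :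
    Function.Injective (Points.map t) := by
  intro x y hxy
  obtain ⟨j, w, hw⟩ := hc.exists_point (Points.map t x)
  obtain ⟨x', hx', hx''⟩ := exists_point_of_isPullback
    (IsPullback.of_hasPullback t ((yon S).map (c j))) x w hw.symm
  obtain ⟨y', hy', hy''⟩ := exists_point_of_isPullback
    (IsPullback.of_hasPullback t ((yon S).map (c j))) y w (hxy ▸ hw.symm)
  have := h j (hx''.trans hy''.symm)
  rw [← hx', ← hy', this]

theorem isLocalOnBase_fpqc_isUnivInjectiveMor :
    IsLocalOnBase (IsFpqcCover (S := S)) IsUnivInjectiveMor :=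
  isLocalOnBase_fpqc_univSp (fun _ _ f => Function.Injective (Points.map f))
    (fun snd h => injective_of_forall_affine snd h)
    (fun _ _ _ t _ _ _ _ hc h => injective_of_stdFpqc t hc h)

/-! ### Surjective -/

theorem surjective_of_forall_affine {Z' Z : Sp S} (snd : Z' ⟶ Z)
    (h : ∀ (T : Over S), IsAffine T.left → ∀ (t : (yon S).obj T ⟶ Z),
      Function.Surjective (Points.map (pullback.snd snd t))) :
    Function.Surjective (Points.map snd) := by
  intro z
  obtain ⟨T, hT, t, pt, hpt⟩ := exists_affine_point z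
  obtain ⟨x', hx'⟩ := h T hT t pt
  refine ⟨Points.map (pullback.fst snd t) x', ?_⟩
  rw [← Points.map_comp, pullback.condition, Points.map_comp, hx', hpt]

theorem surjective_of_stdFpqc {Z : Over S} {T : Sp S}
    (t : T ⟶ (yon S).obj Z) {m : ℕ} {W : Fin m → Over S} {c : ∀ j, W j ⟶ Z}
    (hc : StdFpqc Z m W c)
    (h : ∀ j, Function.Surjective (Points.map (pullback.snd t ((yon S).map (c j))))) :
    Function.Surjective (Points.map t) := by
  intro z
  obtain ⟨j, w, hw⟩ := hc.exists_point z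
  obtain ⟨x', hx'⟩ := h j w
  refine ⟨Points.map (pullback.fst t ((yon S).map (c j))) x', ?_⟩
  rw [← Points.map_comp, pullback.condition, Points.map_comp, hx', hw]

/-! ### Submersive -/

theorem isSubmersiveMor_of_forall_affine {Z' Z : Sp S} (snd : Z' ⟶ Z)
    (h : ∀ (T : Over S), IsAffine T.left → ∀ (t : (yon S).obj T ⟶ Z),
      IsSubmersiveMor (pullback.snd snd t)) : IsSubmersiveMor snd := by
  refine (Topology.isQuotientMap_iff _).2 ⟨Topology.isCoinducing_iff.2 fun B =>
    ⟨fun hB => ?_, fun hB => hB.preimage (Points.continuous_map _)⟩,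
    surjective_of_forall_affine snd fun T hT t => (h T hT t).surjective⟩
  rw [isOpen_points_iff_affine]
  intro T hT g
  have h1 : Points.ofPt g ⁻¹' B = (Points.schemeHomeo T) ⁻¹' (Points.map g ⁻¹' B) := by
    ext t
    simp only [Set.mem_preimage]
    rw [Points.ofPt_eq_map_ofScheme]
    rfl
  rw [h1, (Points.schemeHomeo T).isOpen_preimage, ← (h T hT g).isOpen_preimage]
  have h2 : Points.map (pullback.snd snd g) ⁻¹' (Points.map g ⁻¹' B) =
      Points.map (pullback.fst snd g) ⁻¹' (Points.map snd ⁻¹' B) := by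
    ext x
    simp only [Set.mem_preimage]
    rw [← Points.map_comp, ← Points.map_comp, pullback.condition]
  rw [h2]
  exact hB.preimage (Points.continuous_map _)

theorem isSubmersiveMor_of_stdFpqc {Z : Over S} (hZ : IsAffine Z.left) {T : Sp S}
    (t : T ⟶ (yon S).obj Z) {m : ℕ} {W : Fin m → Over S} {c : ∀ j, W j ⟶ Z}
    (hc : StdFpqc Z m W c) (h : ∀ j, IsSubmersiveMor (pullback.snd t ((yon S).map (c j)))) :
    IsSubmersiveMor t := by
  refine (Topology.isQuotientMap_iff _).2 ⟨Topology.isCoinducing_iff.2 fun B =>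
    ⟨fun hB => ?_, fun hB => hB.preimage (Points.continuous_map _)⟩,
    surjective_of_stdFpqc t hc fun j => (h j).surjective⟩
  rw [hc.isOpen_iff]
  intro j
  rw [← (h j).isOpen_preimage]
  have h2 : Points.map (pullback.snd t ((yon S).map (c j))) ⁻¹'
      (Points.map ((yon S).map (c j)) ⁻¹' B) =
      Points.map (pullback.fst t ((yon S).map (c j))) ⁻¹' (Points.map t ⁻¹' B) := by
    ext x
    simp only [Set.mem_preimage]
    rw [← Points.map_comp, ← Points.map_comp, pullback.condition]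
  rw [h2]
  exact hB.preimage (Points.continuous_map _)

theorem isLocalOnBase_fpqc_isUnivSubmersiveMor :
    IsLocalOnBase (IsFpqcCover (S := S)) IsUnivSubmersiveMor :=
  isLocalOnBase_fpqc_univSp IsSubmersiveMor (fun snd h => isSubmersiveMor_of_forall_affine snd h)
    (fun _ hZ _ t _ _ _ _ hc h => isSubmersiveMor_of_stdFpqc hZ t hc h)

/-! ### Homeomorphisms -/

theorem isHomeomorph_iff_aux {X Y : Sp S} (f : X ⟶ Y) :
    IsHomeomorph (Points.map f) ↔
      IsOpenMor f ∧ Function.Injective (Points.map f) ∧ Function.Surjective (Points.map f) :=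
  ⟨fun h => ⟨h.isOpenMap, h.injective, h.surjective⟩,
    fun h => ⟨Points.continuous_map f, h.1, h.2.1, h.2.2⟩⟩

theorem isLocalOnBase_fpqc_isUnivHomeoMor :
    IsLocalOnBase (IsFpqcCover (S := S)) IsUnivHomeoMor := by
  refine isLocalOnBase_fpqc_univSp (fun _ _ f => IsHomeomorph (Points.map f)) ?_ ?_
  · intro Z' Z snd h
    rw [isHomeomorph_iff_aux]
    exact ⟨isOpenMor_of_forall_affine snd fun T hT t => ((isHomeomorph_iff_aux _).1 (h T hT t)).1,
      injective_of_forall_affine snd fun T hT t => ((isHomeomorph_iff_aux _).1 (h T hT t)).2.1,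
      surjective_of_forall_affine snd fun T hT t => ((isHomeomorph_iff_aux _).1 (h T hT t)).2.2⟩
  · intro Z hZ T t _ m W c hc h
    rw [isHomeomorph_iff_aux]
    exact ⟨isOpenMor_of_stdFpqc hZ t hc fun j => ((isHomeomorph_iff_aux _).1 (h j)).1,
      injective_of_stdFpqc t hc fun j => ((isHomeomorph_iff_aux _).1 (h j)).2.1,
      surjective_of_stdFpqc t hc fun j => ((isHomeomorph_iff_aux _).1 (h j)).2.2⟩

end Groth.Agent.Helper16.AS
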