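import Groth.Agent.Lib.Helper16.AlgSp.LftSp
import Groth.Agent.Lib.Helper16.AlgSp.FpqcQc
import Groth.Agent.Lib.Helper15.AlgSpProper2
import Groth.Agent.Lib.Helper15.AlgSpUnivClosed

/-!
# Proper morphisms of algebraic spaces: base change and composition
-/

set_option autoImplicit false
universe u
open CategoryTheory CategoryTheory.Limits AlgebraicGeometry MorphismProperty
open AlgSp Groth.Agent.Helper15

namespace Groth.Agent.Helper16.AS

variable {S : Scheme.{u}}

theorem isSeparatedMor_eq_diagonal :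
    (IsSeparatedMor : MorphismProperty (Sp S)) = (RepWith @IsClosedImmersion).diagonal := rfl

theorem isSeparatedMor_of_isPullback {X Y X' Y' : Sp S} {f : X ⟶ Y} {g : Y' ⟶ Y} {f' : X' ⟶ Y'}
    {g' : X' ⟶ X} (sq : IsPullback g' f' f g) (hf : IsSeparatedMor f) : IsSeparatedMor f' := by
  rw [isSeparatedMor_eq_diagonal] at hf ⊢
  exact MorphismProperty.of_isPullback sq hf

theorem isSeparatedMor_comp {X Y Z : Sp S} (f : X ⟶ Y) (g : Y ⟶ Z) (hf : IsSeparatedMor f)
    (hg : IsSeparatedMor g) : IsSeparatedMor (f ≫ g) := by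
  rw [isSeparatedMor_eq_diagonal] at hf hg ⊢
  exact MorphismProperty.comp_mem _ f g hf hg

theorem isProperMor_of_isPullback {X Y X' Y' : Sp S} (hX : IsAlgSpace X) (hY : IsAlgSpace Y)
    (hY' : IsAlgSpace Y') {f : X ⟶ Y} {g : Y' ⟶ Y} {f' : X' ⟶ Y'}
    {g' : X' ⟶ X} (sq : IsPullback g' f' f g) (hf : IsProperMor f) : IsProperMor f' :=
  ⟨isSeparatedMor_of_isPullback sq hf.1,
   ⟨locP_of_isPullback goodP_lft srcEtLoc_lft hX hY hY' sq hf.2.1.1,
    isQuasiCompactMor_of_isPullback sq hf.2.1.2⟩,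
   UnivSp.of_isPullback sq hf.2.2⟩

theorem isProperMor_comp {X Y Z : Sp S} (hX : IsAlgSpace X) (hY : IsAlgSpace Y)
    (hZ : IsAlgSpace Z) (f : X ⟶ Y) (g : Y ⟶ Z) (hf : IsProperMor f) (hg : IsProperMor g) :
    IsProperMor (f ≫ g) :=
  ⟨isSeparatedMor_comp f g hf.1 hg.1,
   ⟨locP_comp goodP_lft srcEtLoc_lft hX hY hZ f g hf.2.1.1 hg.2.1.1,
    isQuasiCompactMor_comp hY hZ.diag f g hf.2.1.2 hg.2.1.2⟩,
   isUnivClosedMor_comp hY hZ.diag f g hf.2.2 hg.2.2⟩

end Groth.Agent.Helper16.AS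

namespace Groth.Agent.Helper16.AS

variable {S : Scheme.{u}}

/-- The image of a base change is the preimage of the image. -/
theorem range_map_of_isPullback {Z X X' Z' : Sp S} {q : Z' ⟶ Z} {i' : Z' ⟶ X'} {i : Z ⟶ X}
    {g' : X' ⟶ X} (sq : IsPullback q i' i g') :
    Set.range (Points.map i') = Points.map g' ⁻¹' Set.range (Points.map i) := by
  ext x'
  constructor
  · rintro ⟨z', rfl⟩
    refine ⟨Points.map q z', ?_⟩
    rw [← Points.map_comp, ← Points.map_comp, sq.w]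
  · rintro ⟨z, hz⟩
    obtain ⟨z', -, hz'⟩ := exists_point_of_isPullback sq z x' hz
    exact ⟨z', hz'⟩

end Groth.Agent.Helper16.AS
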