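import Groth.Agent.Lib.Helper16.AlgSp.FpqcUniv

/-!
# Locality on the base for families refined by standard fpqc coverings, and diagonals
-/

set_option autoImplicit false
universe u
open CategoryTheory CategoryTheory.Limits AlgebraicGeometry MorphismProperty Opposite
open AlgSp Groth.Agent.Helper15

namespace Groth.Agent.Helper16.AS

variable {S : Scheme.{u}}

/-- A family which, over every affine scheme, is refined by a standard fpqc covering (no
flatness is asked of the members of the family). -/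
def IsStdRefinable : CovNotion S := fun _ X Y g =>
  ∀ (Z : Over S), IsAffine Z.left → ∀ (h : (yon S).obj Z ⟶ X),
    ∃ (m : ℕ) (W : Fin m → Over S) (c : ∀ j, W j ⟶ Z), StdFpqc Z m W c ∧
      ∀ j, ∃ (i : _) (l : (yon S).obj (W j) ⟶ Y i), l ≫ g i = (yon S).map (c j) ≫ h

theorem isStdRefinable_of_isFpqcCover {ι : Type u} {X : Sp S} {Y : ι → Sp S} {g : ∀ i, Y i ⟶ X}
    (h : IsFpqcCover Y g) : IsStdRefinable Y g := by
  intro Z hZ t
  obtain ⟨m, W, c, h1, h2, h3, h4⟩ := h.2 Z hZ t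
  exact ⟨m, W, c, ⟨h1, h2, h3⟩, h4⟩

theorem isLocalOnBase_fpqc_of_std {P : MorphismProperty (Sp S)}
    (h : IsLocalOnBase (IsStdRefinable (S := S)) P) : IsLocalOnBase (IsFpqcCover (S := S)) P := by
  intro ι Y Yi g hY hYi hcov X f hX Xi p q hXi sq
  exact h Yi g hY hYi (isStdRefinable_of_isFpqcCover hcov) f hX Xi p q hXi sq

theorem isLocalOnBase_std_of' (P Q : MorphismProperty (Sp S))
    (hbc : ∀ ⦃X Y X' Y' : Sp S⦄ (f : X ⟶ Y) (g : Y' ⟶ Y) (f' : X' ⟶ Y') (g' : X' ⟶ X),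
      IsAlgSpace X → IsAlgSpace Y → IsAlgSpace X' → IsAlgSpace Y' →
      IsPullback g' f' f g → P f → P f')
    (hPQ : ∀ ⦃X Y T : Sp S⦄ (f : X ⟶ Y), IsAlgSpace X → IsAlgSpace Y → P f →
      ∀ (Z : Over S), IsAffine Z.left → ∀ (h : (yon S).obj Z ⟶ Y) (fst : T ⟶ X)
        (snd : T ⟶ (yon S).obj Z), IsPullback fst snd f h → Q snd)
    (haff : ∀ ⦃X Y : Sp S⦄ (f : X ⟶ Y), IsAlgSpace X → IsAlgSpace Y →
      (∀ (Z : Over S), IsAffine Z.left → ∀ (h : (yon S).obj Z ⟶ Y) (T : Sp S) (fst : T ⟶ X)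
        (snd : T ⟶ (yon S).obj Z), IsPullback fst snd f h → Q snd) → P f)
    (hdesc : ∀ (Z : Over S), IsAffine Z.left → ∀ ⦃T : Sp S⦄ (t : T ⟶ (yon S).obj Z),
      IsAlgSpace T → ∀ (m : ℕ) (W : Fin m → Over S) (c : ∀ j, W j ⟶ Z), StdFpqc Z m W c →
      (∀ j, Q (pullback.snd t ((yon S).map (c j)))) → Q t) :
    IsLocalOnBase (IsStdRefinable (S := S)) P := by
  intro ι Y Yi g hY hYi hcov X f hX Xi p q hXi sq
  constructor
  · intro hf i
    exact hbc f (g i) (p i) (q i) hX hY (hXi i) (hYi i) (sq i) hf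
  · intro hp
    apply haff f hX hY
    intro Z hZ h T fst snd sqT
    have hT : IsAlgSpace T :=
      isAlgSpace_of_isPullback hY.diag hX (IsAlgSpace.yon_obj Z) sqT
    obtain ⟨m, W, c, hc, hl⟩ := hcov Z hZ h
    apply hdesc Z hZ snd hT m W c hc
    intro j
    obtain ⟨i, l, hl⟩ := hl j
    obtain ⟨u, hu⟩ := isPullback_lift_of_cover (sq i) sqT hl
      (IsPullback.of_hasPullback snd ((yon S).map (c j)))
    exact hPQ (p i) (hXi i) (hYi i) (hp i) (W j) (hc.affine j) l u _ hu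

theorem isLocalOnBase_std_univSp (Q₀ : MorphismProperty (Sp S))
    (hQaff : ∀ {Z' Z : Sp S} (snd : Z' ⟶ Z),
      (∀ (T : Over S), IsAffine T.left → ∀ (t : (yon S).obj T ⟶ Z), Q₀ (pullback.snd snd t)) →
        Q₀ snd)
    (hdesc : ∀ (Z : Over S), IsAffine Z.left → ∀ ⦃T : Sp S⦄ (t : T ⟶ (yon S).obj Z),
      IsAlgSpace T → ∀ (m : ℕ) (W : Fin m → Over S) (c : ∀ j, W j ⟶ Z), StdFpqc Z m W c →
      (∀ j, Q₀ (pullback.snd t ((yon S).map (c j)))) → Q₀ t) :
    IsLocalOnBase (IsStdRefinable (S := S)) (UnivSp Q₀) := by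
  refine isLocalOnBase_std_of' (UnivSp Q₀) Q₀ ?_ ?_ ?_ hdesc
  · intro X Y X' Y' f g f' g' _ _ _ _ sq hf
    exact UnivSp.of_isPullback sq hf
  · intro X Y T f _ _ hf Z hZ h fst snd sq
    exact hf (IsAlgSpace.yon_obj Z) h fst snd sq
  · intro X Y f _ _ h
    exact univSp_of_forall_affine hQaff f h

theorem isLocalOnBase_std_isQuasiCompactMor :
    IsLocalOnBase (IsStdRefinable (S := S)) IsQuasiCompactMor := by
  refine isLocalOnBase_std_of' IsQuasiCompactMor (fun T _ _ => IsQuasiCompactSp T) ?_ ?_ ?_ ?_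
  · intro X Y X' Y' f g f' g' _ _ _ _ sq hf
    exact isQuasiCompactMor_of_isPullback sq hf
  · intro X Y T f _ _ hf Z hZ h fst snd sq
    exact hf (IsAlgSpace.yon_obj Z) (isQuasiCompactSp_yon_of_isAffine Z hZ) h fst snd sq
  · intro X Y f _ _ h
    exact isQuasiCompactMor_of_forall_affine f fun Z hZ t =>
      h Z hZ t _ _ _ (IsPullback.of_hasPullback f t)
  · intro Z hZ T t hT m W c hc h
    exact isQuasiCompactSp_of_stdFpqc hc hT t h

theorem isLocalOnBase_std_isUnivClosedMor :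
    IsLocalOnBase (IsStdRefinable (S := S)) IsUnivClosedMor :=
  isLocalOnBase_std_univSp IsClosedMor (fun snd h => isClosedMor_of_forall_affine snd h)
    (fun _ hZ _ t _ _ _ _ hc h => isClosedMor_of_stdFpqc hZ t hc h)

theorem isLocalOnBase_std_isUnivOpenMor :
    IsLocalOnBase (IsStdRefinable (S := S)) IsUnivOpenMor :=
  isLocalOnBase_std_univSp IsOpenMor (fun snd h => isOpenMor_of_forall_affine snd h)
    (fun _ hZ _ t _ _ _ _ hc h => isOpenMor_of_stdFpqc hZ t hc h)

theorem isLocalOnBase_std_isUnivInjectiveMor :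
    IsLocalOnBase (IsStdRefinable (S := S)) IsUnivInjectiveMor :=
  isLocalOnBase_std_univSp (fun _ _ f => Function.Injective (Points.map f))
    (fun snd h => injective_of_forall_affine snd h)
    (fun _ _ _ t _ _ _ _ hc h => injective_of_stdFpqc t hc h)

theorem isLocalOnBase_std_univSurjective :
    IsLocalOnBase (IsStdRefinable (S := S)) (UnivSp IsSurjectiveMor) :=
  isLocalOnBase_std_univSp IsSurjectiveMor
    (fun snd h => surjective_of_forall_affine snd h)
    (fun _ _ _ t _ _ _ _ hc h => surjective_of_stdFpqc t hc h)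

/-! ### Diagonals -/

theorem isStdRefinable_diagonal {ι : Type u} {X Y : Sp S} {f : X ⟶ Y} {Yi Xi : ι → Sp S}
    {g : ∀ i, Yi i ⟶ Y} {p : ∀ i, Xi i ⟶ Yi i} {q : ∀ i, Xi i ⟶ X}
    (sq : ∀ i, IsPullback (q i) (p i) f (g i)) (hcov : IsStdRefinable Yi g) :
    IsStdRefinable (fun i => pullback (p i) (p i))
      (fun i => pullback.map (p i) (p i) f f (q i) (q i) (g i) (sq i).w.symm (sq i).w.symm) := by
  intro Z hZ h
  obtain ⟨m, W, c, hc, hl⟩ := hcov Z hZ (h ≫ pullback.fst f f ≫ f)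
  refine ⟨m, W, c, hc, fun j => ?_⟩
  obtain ⟨i, l, hl⟩ := hl j
  have sqD := isPullback_map_of_isPullback (sq i)
  have hw : ((yon S).map (c j) ≫ h) ≫ pullback.fst f f ≫ f = l ≫ g i := by
    rw [hl, Category.assoc]
  exact ⟨i, sqD.lift _ _ hw, sqD.lift_fst _ _ hw⟩

theorem isLocalOnBase_std_diagonal (R : MorphismProperty (Sp S))
    (hR : IsLocalOnBase (IsStdRefinable (S := S)) R) :
    IsLocalOnBase (IsStdRefinable (S := S)) (fun _ _ f => R (pullback.diagonal f)) := by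
  intro ι Y Yi g hY hYi hcov X f hX Xi p q hXi sq
  have hD : IsAlgSpace (pullback f f) :=
    isAlgSpace_of_isPullback hY.diag hX hX (IsPullback.of_hasPullback f f)
  have hDi : ∀ i, IsAlgSpace (pullback (p i) (p i)) := fun i =>
    isAlgSpace_of_isPullback (hYi i).diag (hXi i) (hXi i) (IsPullback.of_hasPullback (p i) (p i))
  exact hR (fun i => pullback (p i) (p i))
    (fun i => pullback.map (p i) (p i) f f (q i) (q i) (g i) (sq i).w.symm (sq i).w.symm)
    hD hDi (isStdRefinable_diagonal sq hcov) (pullback.diagonal f) hX Xi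
    (fun i => pullback.diagonal (p i)) q hXi (fun i => isPullback_diagonal_of_isPullback (sq i))

theorem isLocalOnBase_congr {τ : CovNotion S} {P P' : MorphismProperty (Sp S)}
    (h : ∀ ⦃X Y : Sp S⦄ (f : X ⟶ Y), IsAlgSpace X → IsAlgSpace Y → (P f ↔ P' f))
    (hP : IsLocalOnBase τ P) : IsLocalOnBase τ P' := by
  intro ι Y Yi g hY hYi hcov X f hX Xi p q hXi sq
  rw [← h f hX hY]
  rw [hP Yi g hY hYi hcov f hX Xi p q hXi sq]
  exact forall_congr' fun i => h (p i) (hXi i) (hYi i)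

theorem isLocalOnBase_std_isQuasiSeparatedMor :
    IsLocalOnBase (IsStdRefinable (S := S)) IsQuasiSeparatedMor := by
  refine isLocalOnBase_congr ?_ (isLocalOnBase_std_diagonal _ isLocalOnBase_std_isQuasiCompactMor)
  intro X Y f hX _
  exact (repWith_quasiCompact_iff _ (diagonal_properties hX f).1).symm

theorem isLocalOnBase_std_isSeparatedMor :
    IsLocalOnBase (IsStdRefinable (S := S)) IsSeparatedMor := by
  refine isLocalOnBase_congr ?_ (isLocalOnBase_std_diagonal _ isLocalOnBase_std_isUnivClosedMor)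
  intro X Y f hX _
  exact (isSeparatedMor_iff_diagonal hX f).1.symm

end Groth.Agent.Helper16.AS
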