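import Groth.Agent.Lib.Helper15.AlgSpAtNbhd
import Groth.Agent.Lib.Helper15.AlgSpDimEt
import Groth.Agent.Lib.Helper15.AlgSpFibre
import Groth.Agent.Lib.Helper16.Sch.QFCodim

set_option autoImplicit false
universe u
open CategoryTheory CategoryTheory.Limits AlgebraicGeometry MorphismProperty Opposite TopologicalSpace
open AlgSp

namespace Groth.Agent.Helper16.AS
open Groth.Agent.Helper15 Groth.Agent.Helper16.QFCodim

variable {S : Scheme.{u}}

/-- The quasi-finite-at-a-point predicate used in the statements. -/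
abbrev QFNbhd : ∀ (U V : Scheme.{u}), (U ⟶ V) → ↥U → Prop :=
  fun U _ h u => ∃ W : U.Opens, u ∈ W ∧ LocallyQuasiFinite (W.ι ≫ h) ∧ LocallyOfFiniteType (W.ι ≫ h)

theorem exists_lift_of_mem_range {X X' : Sp S} (j : X' ⟶ X) {U U' : Over S}
    (a : (yon S).obj U ⟶ X) (fst : (yon S).obj U' ⟶ X') (snd : U' ⟶ U)
    (sq : IsPullback fst ((yon S).map snd) j a) (u : U.left)
    (hu : Points.ofPt a u ∈ Set.range (Points.map j)) : ∃ u' : U'.left, snd.left u' = u := by
  obtain ⟨x', hx'⟩ := hu
  rw [Points.ofPt_eq_map_ofScheme] at hx'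
  obtain ⟨p, hp1, hp2⟩ := exists_point_of_isPullback sq x' (Points.ofScheme U u) hx'
  obtain ⟨u', rfl⟩ := (Points.schemeEquiv U').surjective p
  refine ⟨u', ?_⟩
  have h1 : Points.map ((yon S).map snd) (Points.ofScheme U' u') =
      Points.ofScheme U (snd.left u') := by
    rw [← Points.ofPt_eq_map_ofScheme, ofPt_yon_map]
  have h2 : Points.ofScheme U (snd.left u') = Points.ofScheme U u := h1.symm.trans hp2
  exact (Points.schemeEquiv U).injective h2

/-- Chart independence of quasi-finiteness at a point. -/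
theorem hasAtMor_qf_iff_chart {X Y : Sp S} (hX : IsAlgSpace X) (hY : IsAlgSpace Y) (f : X ⟶ Y)
    (hf : LocP @LocallyOfFiniteType f) {U V : Over S} (a : (yon S).obj U ⟶ X)
    (b : (yon S).obj V ⟶ Y) (h : U ⟶ V) (ha : RepWith @Etale a) (hb : RepWith @Etale b)
    (comm : a ≫ f = (yon S).map h ≫ b) (u : U.left) :
    HasAtMor QFNbhd f (Points.ofPt a u) ↔ h.left.QuasiFiniteAt u := by
  haveI hlft : LocallyOfFiniteType h.left := hf a b h ha hb comm
  constructor
  · intro hq
    obtain ⟨X', j, hX', hj, hxj, hloc⟩ :=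
      (hasAtMor_nbhd_iff_exists_open_subspace
        (fun A B g => LocallyQuasiFinite g ∧ LocallyOfFiniteType g)
        (Or.inr (Or.inr (Or.inr (Or.inr (Or.inr (Or.inl (fun A B g => Iff.rfl)))))))
        hX hY f (Points.ofPt a u)).1 hq
    have sq := hj.rep.isPullback a
    haveI hoi : IsOpenImmersion (hj.rep.snd a).left := hj.property_snd a
    obtain ⟨u', hu'⟩ := exists_lift_of_mem_range j a _ _ sq u hxj
    have hfst : RepWith @Etale (hj.rep.fst a) := (RepWith @Etale).of_isPullback sq.flip ha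
    have hcomm : hj.rep.fst a ≫ (j ≫ f) = (yon S).map (hj.rep.snd a ≫ h) ≫ b := by
      rw [← Category.assoc, sq.w, Category.assoc, comm, Functor.map_comp, Category.assoc]
    have h1 := hloc (hj.rep.fst a) b (hj.rep.snd a ≫ h) hfst hb hcomm
    haveI : LocallyQuasiFinite ((hj.rep.snd a).left ≫ h.left) := h1.1
    have h2 : ((hj.rep.snd a).left ≫ h.left).QuasiFiniteAt u' :=
      ((hj.rep.snd a).left ≫ h.left).quasiFiniteAt u'
    rw [Scheme.Hom.quasiFiniteAt_comp_iff_of_isOpenImmersion, hu'] at h2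
    exact h2
  · intro hq
    exact ⟨U, V, a, b, h, u, ha, hb, comm, rfl,
      (quasiFiniteAt_iff_exists_opens h.left u).1 hq⟩

/-- The codimension-zero predicate used in the statements. -/
abbrev C0 : ∀ U : Scheme.{u}, ↥U → Prop := fun U u => ringKrullDim ↥(U.presheaf.stalk u) = 0

theorem hasAt_c0_iff_chart {X : Sp S} (hX : IsAlgSpace X) {U : Over S}
    (a : (yon S).obj U ⟶ X) (ha : RepWith @Etale a) (u : U.left) :
    HasAt C0 X (Points.ofPt a u) ↔ NoGen u := by
  rw [← noGen_iff_ringKrullDim_stalk]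
  constructor
  · intro hc
    exact hasAt_forall_chart (etInv_ringKrullDim_stalk 0) _ hc U a u ha rfl
  · intro hc
    exact ⟨U, a, u, ha, rfl, hc⟩

theorem codim0_fibre_iff_qf {X Y : Sp S} (hX : IsAlgSpace X) (hY : IsAlgSpace Y) (f : X ⟶ Y)
    (hf : LocP @LocallyOfFiniteType f) (y : Points Y) (hy : HasAt C0 Y y) :
    ((∀ x : Points X, Points.map f x = y → HasAt C0 X x) ↔
        (∀ x : Points X, Points.map f x = y → HasAtMor QFNbhd f x)) ∧
      ((∀ x : Points X, Points.map f x = y → HasAt C0 X x → HasAtMor QFNbhd f x) →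
        ∀ x : Points X, Points.map f x = y → HasAt C0 X x) := by
  obtain ⟨V, q, hqe, hqs⟩ := hY.atlas
  obtain ⟨U, p, α, hpe, hps, comm⟩ := exists_chart_lift hX f q hqe hqs
  haveI hlft : LocallyOfFiniteType α.left := hf p q α hpe hqe comm
  have hover : ∀ u : U.left, Points.ofPt q (α.left u) = Points.map f (Points.ofPt p u) := by
    intro u
    rw [Points.map_ofPt, comm, ofPt_comp_yon_map]
  have hv : ∀ v : V.left, Points.ofPt q v = y → NoGen v := by
    intro v hvy
    have := hy
    rw [← hvy] at this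
    exact (hasAt_c0_iff_chart hY q hqe v).1 this
  have hqf : ∀ u : U.left, HasAtMor QFNbhd f (Points.ofPt p u) ↔ α.left.QuasiFiniteAt u :=
    fun u => hasAtMor_qf_iff_chart hX hY f hf p q α hpe hqe comm u
  have hc0 : ∀ u : U.left, HasAt C0 X (Points.ofPt p u) ↔ NoGen u :=
    fun u => hasAt_c0_iff_chart hX p hpe u
  refine ⟨⟨?_, ?_⟩, ?_⟩
  · intro h x hx
    obtain ⟨u, rfl⟩ := surjective_ofPt p hps x
    rw [hqf]
    refine quasiFiniteAt_of_forall_noGen α.left (α.left u) ?_ u rfl
    intro u₁ hu₁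
    rw [← hc0]
    apply h
    rw [← hover, hu₁, hover]
    exact hx
  · intro h x hx
    obtain ⟨u, rfl⟩ := surjective_ofPt p hps x
    rw [hc0]
    refine noGen_of_quasiFiniteAt α.left u ((hqf u).1 (h _ hx)) (hv _ ?_)
    rw [hover]; exact hx
  · intro h x hx
    obtain ⟨u, rfl⟩ := surjective_ofPt p hps x
    rw [hc0]
    refine noGen_of_forall_quasiFiniteAt α.left (α.left u) (hv _ (by rw [hover]; exact hx)) ?_ u rfl
    intro u₁ hu₁ hng
    rw [← hqf]
    apply h
    · rw [← hover, hu₁, hover]; exact hx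
    · rw [hc0]; exact hng

end Groth.Agent.Helper16.AS
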