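import Groth.Agent.Lib.Helper16.AlgSp.OpenDesc

/-!
# The largest open over which a property local on the base holds
-/

set_option autoImplicit false
universe u
open CategoryTheory CategoryTheory.Limits AlgebraicGeometry MorphismProperty Opposite TopologicalSpace
open AlgSp Groth.Agent.Helper15

namespace Groth.Agent.Helper16.AS
variable {S : Scheme.{u}}

/-- A class of morphisms of sheaves suitable for the "largest open" argument: contains open
immersions, stable under precomposition with open immersions, open immersions can be cancelled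
on the right, and members between algebraic spaces have open image. -/
structure OpenClass (C : MorphismProperty (Sp S)) : Prop where
  of_open : ∀ {X Y : Sp S} (j : X ⟶ Y), RepWith @IsOpenImmersion j → C j
  precomp : ∀ {X Y Z : Sp S} (j : X ⟶ Y) (g : Y ⟶ Z), RepWith @IsOpenImmersion j → C g → C (j ≫ g)
  cancel : ∀ {X Y Z : Sp S} (g : X ⟶ Y) (j : Y ⟶ Z), RepWith @IsOpenImmersion j → C (g ≫ j) → C g
  isOpen_range : ∀ {X Y : Sp S} (g : X ⟶ Y), IsAlgSpace X → IsAlgSpace Y → C g →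
    IsOpen (Set.range (Points.map g))

theorem repWith_etale_comp {X Y Z : Sp S} (a : X ⟶ Y) (b : Y ⟶ Z) (ha : RepWith @Etale a)
    (hb : RepWith @Etale b) : RepWith @Etale (a ≫ b) :=
  (RepWith (S := S) @Etale).comp_mem a b ha hb

theorem repWith_isOpenImmersion_comp {X Y Z : Sp S} (a : X ⟶ Y) (b : Y ⟶ Z)
    (ha : RepWith @IsOpenImmersion a) (hb : RepWith @IsOpenImmersion b) :
    RepWith @IsOpenImmersion (a ≫ b) :=
  (RepWith (S := S) @IsOpenImmersion).comp_mem a b ha hb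

theorem openClass_isEtaleMor : OpenClass (IsEtaleMor (S := S)) where
  of_open j hj U φ hφ := repWith_etale_comp φ j hφ (repWith_mono isOpenImmersion_le_etale hj)
  precomp j g hj hg U φ hφ := by
    rw [← Category.assoc]
    exact hg (φ ≫ j) (repWith_etale_comp φ j hφ (repWith_mono isOpenImmersion_le_etale hj))
  cancel g j hj h U φ hφ := by
    haveI : Mono j := mono_of_repWith isOpenImmersion_le_mono j hj
    have := h φ hφ
    rw [← Category.assoc] at this
    exact repWith_of_comp_mono (φ ≫ g) j this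
  isOpen_range g hX hY hg :=
    (isOpenMor_of_isUnivOpenMor hY g (isUnivOpenMor_of_isEtaleMor hX g hg)).isOpen_range

theorem locP_precomp_open {P : MorphismProperty Scheme.{u}} {X Y Z : Sp S} (j : X ⟶ Y) (g : Y ⟶ Z)
    (hj : RepWith @IsOpenImmersion j) (hg : LocP P g) : LocP P (j ≫ g) := by
  intro U V a b h ha hb e
  refine hg (a ≫ j) b h (repWith_etale_comp a j ha (repWith_mono isOpenImmersion_le_etale hj)) hb ?_
  rw [Category.assoc, e]

theorem locP_cancel_open {P : MorphismProperty Scheme.{u}} {X Y Z : Sp S} (g : X ⟶ Y) (j : Y ⟶ Z)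
    (hj : RepWith @IsOpenImmersion j) (hg : LocP P (g ≫ j)) : LocP P g := by
  intro U V a b h ha hb e
  refine hg a (b ≫ j) h ha (repWith_etale_comp b j hb (repWith_mono isOpenImmersion_le_etale hj)) ?_
  rw [← Category.assoc, e, Category.assoc]

theorem openClass_fppf :
    OpenClass (fun _ _ f => LocP (S := S) @Flat f ∧ LocP @LocallyOfFinitePresentation f) where
  of_open j hj :=
    ⟨locP_of_repWith etale_le_flat j
      (repWith_mono (isOpenImmersion_le_etale.trans etale_le_flat) hj),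
     locP_of_repWith etale_le_lfp j
      (repWith_mono (isOpenImmersion_le_etale.trans etale_le_lfp) hj)⟩
  precomp j g hj hg := ⟨locP_precomp_open j g hj hg.1, locP_precomp_open j g hj hg.2⟩
  cancel g j hj hg := ⟨locP_cancel_open g j hj hg.1, locP_cancel_open g j hj hg.2⟩
  isOpen_range g hX hY hg :=
    (isOpenMor_of_isUnivOpenMor hY g (isUnivOpenMor_of_flat_lfp hX hY g hg.1 hg.2)).isOpen_range

theorem smooth_le_flat : (@Smooth : MorphismProperty Scheme.{u}) ≤ @Flat :=
  fun _ _ f hf => by haveI := hf; infer_instance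

theorem smooth_le_lfp : (@Smooth : MorphismProperty Scheme.{u}) ≤ @LocallyOfFinitePresentation :=
  fun _ _ f hf => by haveI := hf; infer_instance

theorem etale_le_smooth : (@Etale : MorphismProperty Scheme.{u}) ≤ @Smooth :=
  fun _ _ f hf => by haveI := hf; infer_instance

theorem openClass_smooth : OpenClass (LocP (S := S) @Smooth) where
  of_open j hj :=
    locP_of_repWith etale_le_smooth j
      (repWith_mono (isOpenImmersion_le_etale.trans etale_le_smooth) hj)
  precomp j g hj hg := locP_precomp_open j g hj hg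
  cancel g j hj hg := locP_cancel_open g j hj hg
  isOpen_range g hX hY hg :=
    (isOpenMor_of_isUnivOpenMor hY g (isUnivOpenMor_of_flat_lfp hX hY g
      (locP_mono smooth_le_flat hg) (locP_mono smooth_le_lfp hg))).isOpen_range

/-- `f` has `P` over the open subset `V` of `|Y|`. -/
def HasPOver (P : MorphismProperty (Sp S)) {X Y : Sp S} (f : X ⟶ Y) (V : Set (Points Y)) : Prop :=
  ∀ (W₁ X₁ : Sp S) (j₁ : W₁ ⟶ Y) (j₁' : X₁ ⟶ X) (f₁ : X₁ ⟶ W₁), IsAlgSpace W₁ → IsAlgSpace X₁ →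
    RepWith @IsOpenImmersion j₁ → Set.range (Points.map j₁) = V → IsPullback j₁' f₁ f j₁ → P f₁

theorem hasPOver_space_iff {P : MorphismProperty (Sp S)} {X Y : Space S} (f : X ⟶ Y)
    (V : Set (Points Y.obj)) :
    (∀ (W₁ X₁ : Space S) (j₁ : W₁ ⟶ Y) (j₁' : X₁ ⟶ X) (f₁ : X₁ ⟶ W₁),
      RepWith @IsOpenImmersion j₁.hom → Set.range (Points.map j₁.hom) = V →
      IsPullback j₁'.hom f₁.hom f.hom j₁.hom → P f₁.hom) ↔ HasPOver P f.hom V := by
  constructor
  · intro h W₁ X₁ j₁ j₁' f₁ hW₁ hX₁ hj hr sq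
    exact h ⟨W₁, hW₁⟩ ⟨X₁, hX₁⟩ (ObjectProperty.homMk j₁) (ObjectProperty.homMk j₁')
      (ObjectProperty.homMk f₁) hj hr sq
  · intro h W₁ X₁ j₁ j₁' f₁ hj hr sq
    exact h W₁.obj X₁.obj j₁.hom j₁'.hom f₁.hom W₁.property X₁.property hj hr sq

theorem injective_points_map_of_open {X Y : Sp S} (j : X ⟶ Y) (hj : RepWith @IsOpenImmersion j) :
    Function.Injective (Points.map j) := by
  haveI : Mono j := mono_of_repWith isOpenImmersion_le_mono j hj
  exact (injOnFieldPts_of_mono j).injective_points_map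

theorem range_points_map_comp {X Y Z : Sp S} (a : X ⟶ Y) (b : Y ⟶ Z) :
    Set.range (Points.map (a ≫ b)) = Points.map b '' Set.range (Points.map a) := by
  have : Points.map (a ≫ b) = Points.map b ∘ Points.map a := funext (Points.map_comp a b)
  rw [this, Set.range_comp]

theorem isAlgSpace_pullback {X Y Z : Sp S} (hX : IsAlgSpace X) (hY : IsAlgSpace Y)
    (hZ : IsAlgSpace Z) (f : X ⟶ Y) (g : Z ⟶ Y) : IsAlgSpace (pullback f g) :=
  isAlgSpace_of_isPullback hY.diag hX hZ (IsPullback.of_hasPullback f g)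

section Main

variable {C : MorphismProperty (Sp S)} (hC : OpenClass C) {P : MorphismProperty (Sp S)}
  (hP : IsLocalOnBase (fun _ _ Y g => IsCover C Y g) P)

include hC hP

/-- A property local on the base for `C`-coverings is stable under base change along members of
`C`. -/
theorem baseChange_of_isLocalOnBase {X Y Y' X' : Sp S} (hX : IsAlgSpace X) (hY : IsAlgSpace Y)
    (hY' : IsAlgSpace Y') (hX' : IsAlgSpace X') {f : X ⟶ Y} {g : Y' ⟶ Y} {g' : X' ⟶ X}
    {f' : X' ⟶ Y'} (sq : IsPullback g' f' f g) (hg : C g) (hf : P f) : P f' := by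
  let Yi : PUnit.{u + 1} ⊕ PUnit.{u + 1} → Sp S := Sum.elim (fun _ => Y) (fun _ => Y')
  let gi : ∀ i, Yi i ⟶ Y := fun i => match i with
    | Sum.inl _ => 𝟙 Y
    | Sum.inr _ => g
  let Xi : PUnit.{u + 1} ⊕ PUnit.{u + 1} → Sp S := Sum.elim (fun _ => X) (fun _ => X')
  let pi : ∀ i, Xi i ⟶ Yi i := fun i => match i with
    | Sum.inl _ => f
    | Sum.inr _ => f'
  let qi : ∀ i, Xi i ⟶ X := fun i => match i with
    | Sum.inl _ => 𝟙 X
    | Sum.inr _ => g'
  have h1 : IsCover C Yi gi := by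
    refine ⟨?_, fun x => ⟨Sum.inl PUnit.unit, x, ?_⟩⟩
    · rintro (_ | _)
      · exact hC.of_open (𝟙 Y) (repWith_of_isIso _ _)
      · exact hg
    · change Points.map (𝟙 Y) x = x
      exact Points.map_id x
  have h2 := hP Yi gi hY (by rintro (_ | _); exacts [hY, hY']) h1 f hX Xi pi qi
    (by rintro (_ | _); exacts [hX, hX'])
    (by
      rintro (_ | _)
      · change IsPullback (𝟙 X) f f (𝟙 Y)
        exact IsPullback.of_horiz_isIso ⟨by simp⟩
      · exact sq)
  exact h2.1 hf (Sum.inr PUnit.unit)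

theorem exists_largest_open {X Y : Sp S} (hX : IsAlgSpace X) (hY : IsAlgSpace Y) (f : X ⟶ Y) :
    ∃ W : Opens (Points Y), HasPOver P f (W : Set (Points Y)) ∧
      (∀ V : Opens (Points Y), HasPOver P f (V : Set (Points Y)) → V ≤ W) ∧
      (∀ (Y' X' : Sp S) (g : Y' ⟶ Y) (g' : X' ⟶ X) (f' : X' ⟶ Y'), IsAlgSpace Y' → IsAlgSpace X' →
        C g → IsPullback g' f' f g → P f' →
        Set.range (Points.map g) ⊆ (W : Set (Points Y))) ∧
      (∀ (Y' X' : Sp S) (g : Y' ⟶ Y) (g' : X' ⟶ X) (f' : X' ⟶ Y'), IsAlgSpace Y' → IsAlgSpace X' →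
        C g → IsPullback g' f' f g →
        ∀ W' : Opens (Points Y'), HasPOver P f' (W' : Set (Points Y')) →
          (∀ V' : Opens (Points Y'), HasPOver P f' (V' : Set (Points Y')) → V' ≤ W') →
          (W' : Set (Points Y')) = Points.map g ⁻¹' (W : Set (Points Y))) := by
  classical
  let W : Opens (Points Y) := sSup {V | HasPOver P f (V : Set (Points Y))}
  have hB : ∀ V : Opens (Points Y), HasPOver P f (V : Set (Points Y)) → V ≤ W :=
    fun V hV => le_sSup hV
  -- (A)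
  have hA : HasPOver P f (W : Set (Points Y)) := by
    intro W₀ X₀ j₀ j₀' f₀ hW₀ hX₀ hj₀ hr sq
    obtain ⟨U, p₀, hpe, hps⟩ := hW₀.atlas
    have hmem : ∀ u : U.left, ∃ V : Opens (Points Y), HasPOver P f (V : Set (Points Y)) ∧
        Points.map j₀ (Points.ofPt p₀ u) ∈ V := by
      intro u
      have h1 : Points.map j₀ (Points.ofPt p₀ u) ∈ (W : Set (Points Y)) := by
        rw [← hr]; exact ⟨_, rfl⟩
      obtain ⟨V, hV, hx⟩ := Opens.mem_sSup.1 h1
      exact ⟨V, hV, hx⟩
    choose V hV hx using hmem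
    have hsub : ∀ u, ∃ (Wu : Sp S) (k : Wu ⟶ W₀), IsAlgSpace Wu ∧ RepWith @IsOpenImmersion k ∧
        Set.range (Points.map k) = Points.map j₀ ⁻¹' (V u : Set (Points Y)) := fun u =>
      exists_open_subspace_of_isOpen hW₀ _ ((V u).isOpen.preimage (Points.continuous_map j₀))
    choose Wu k hWu hk hrk using hsub
    have hcov : IsCover C Wu k := by
      refine ⟨fun u => hC.of_open (k u) (hk u), fun x => ?_⟩
      obtain ⟨u, rfl⟩ := surjective_ofPt p₀ hps x
      exact ⟨u, by rw [hrk u]; exact hx u⟩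
    refine (hP Wu k hW₀ hWu hcov f₀ hX₀ (fun u => pullback f₀ (k u))
      (fun u => pullback.snd f₀ (k u)) (fun u => pullback.fst f₀ (k u))
      (fun u => isAlgSpace_pullback hX₀ hW₀ (hWu u) f₀ (k u))
      (fun u => IsPullback.of_hasPullback f₀ (k u))).2 (fun u => ?_)
    refine hV u (Wu u) (pullback f₀ (k u)) (k u ≫ j₀) (pullback.fst f₀ (k u) ≫ j₀')
      (pullback.snd f₀ (k u)) (hWu u) (isAlgSpace_pullback hX₀ hW₀ (hWu u) f₀ (k u))
      (repWith_isOpenImmersion_comp _ _ (hk u) hj₀) ?_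
      ((IsPullback.of_hasPullback f₀ (k u)).paste_horiz sq)
    rw [range_points_map_comp, hrk u, Set.image_preimage_eq_inter_range, hr]
    exact Set.inter_eq_left.2 (hB (V u) (hV u))
  -- (C)
  have hCC : ∀ (Y' X' : Sp S) (g : Y' ⟶ Y) (g' : X' ⟶ X) (f' : X' ⟶ Y'), IsAlgSpace Y' →
      IsAlgSpace X' → C g → IsPullback g' f' f g → P f' →
      Set.range (Points.map g) ⊆ (W : Set (Points Y)) := by
    intro Y' X' g g' f' hY' hX' hg sq hf'
    let V : Opens (Points Y) := ⟨Set.range (Points.map g), hC.isOpen_range g hY' hY hg⟩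
    refine hB V ?_
    intro W₁ X₁ j₁ j₁' f₁ hW₁ hX₁ hj₁ hr sq₁
    obtain ⟨g₁, hg₁⟩ := (factors_through_open_iff j₁ hj₁ g).2 (by rw [hr]; rfl)
    have hCg₁ : C g₁ := hC.cancel g₁ j₁ hj₁ (by rw [hg₁]; exact hg)
    have hw : g' ≫ f = (f' ≫ g₁) ≫ j₁ := by rw [sq.w, Category.assoc, hg₁]
    have hbig : IsPullback (sq₁.lift g' (f' ≫ g₁) hw ≫ j₁') f' f (g₁ ≫ j₁) := by
      rw [sq₁.lift_fst, hg₁]; exact sq
    have hleft : IsPullback (sq₁.lift g' (f' ≫ g₁) hw) f' f₁ g₁ :=
      IsPullback.of_right hbig (sq₁.lift_snd _ _ _) sq₁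
    have hinj := injective_points_map_of_open j₁ hj₁
    have hcov : IsCover C (fun _ : PUnit.{u + 1} => Y') (fun _ => g₁) := by
      refine ⟨fun _ => hCg₁, fun x => ⟨PUnit.unit, ?_⟩⟩
      have hx : Points.map j₁ x ∈ Set.range (Points.map g) := by
        change Points.map j₁ x ∈ (V : Set (Points Y))
        rw [← hr]; exact ⟨x, rfl⟩
      obtain ⟨y, hy⟩ := hx
      refine ⟨y, hinj ?_⟩
      rw [← Points.map_comp, hg₁, hy]
    exact (hP (fun _ : PUnit.{u + 1} => Y') (fun _ => g₁) hW₁ (fun _ => hY') hcov f₁ hX₁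
      (fun _ => X') (fun _ => f') (fun _ => sq₁.lift g' (f' ≫ g₁) hw) (fun _ => hX')
      (fun _ => hleft)).2 (fun _ => hf')
  refine ⟨W, hA, hB, hCC, ?_⟩
  -- (D)
  intro Y' X' g g' f' hY' hX' hg sq W' hA' hB'
  apply Set.Subset.antisymm
  · -- W' ⊆ g⁻¹ W
    obtain ⟨W₂, j₂, hW₂, hj₂, hr₂⟩ := exists_open_subspace_of_isOpen hY' (W' : Set (Points Y'))
      W'.isOpen
    have hX₂ := isAlgSpace_pullback hX' hY' hW₂ f' j₂
    have hP₂ : P (pullback.snd f' j₂) :=
      hA' W₂ (pullback f' j₂) j₂ (pullback.fst f' j₂) (pullback.snd f' j₂) hW₂ hX₂ hj₂ hr₂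
        (IsPullback.of_hasPullback f' j₂)
    have := hCC W₂ (pullback f' j₂) (j₂ ≫ g) (pullback.fst f' j₂ ≫ g') (pullback.snd f' j₂)
      hW₂ hX₂ (hC.precomp j₂ g hj₂ hg) ((IsPullback.of_hasPullback f' j₂).paste_horiz sq) hP₂
    rw [range_points_map_comp, hr₂] at this
    intro x hx
    exact this ⟨x, hx, rfl⟩
  · -- g⁻¹ W ⊆ W'
    let V' : Opens (Points Y') :=
      ⟨Points.map g ⁻¹' (W : Set (Points Y)), W.isOpen.preimage (Points.continuous_map g)⟩
    refine hB' V' ?_
    intro W₃ X₃ j₃ j₃' f₃ hW₃ hX₃ hj₃ hr₃ sq₃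
    obtain ⟨W₀, j₀, hW₀, hj₀, hr₀⟩ := exists_open_subspace_of_isOpen hY (W : Set (Points Y))
      W.isOpen
    have hX₀ := isAlgSpace_pullback hX hY hW₀ f j₀
    have hP₀ : P (pullback.snd f j₀) :=
      hA W₀ (pullback f j₀) j₀ (pullback.fst f j₀) (pullback.snd f j₀) hW₀ hX₀ hj₀ hr₀
        (IsPullback.of_hasPullback f j₀)
    obtain ⟨g₃, hg₃⟩ := (factors_through_open_iff j₀ hj₀ (j₃ ≫ g)).2 (by
      rw [range_points_map_comp, hr₃, hr₀]
      rintro _ ⟨x, hx, rfl⟩
      exact hx)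
    have hCg₃ : C g₃ := hC.cancel g₃ j₀ hj₀ (by rw [hg₃]; exact hC.precomp j₃ g hj₃ hg)
    have sq₀ := IsPullback.of_hasPullback f j₀
    have hw : (j₃' ≫ g') ≫ f = (f₃ ≫ g₃) ≫ j₀ := by
      rw [Category.assoc, sq.w, ← Category.assoc, sq₃.w, Category.assoc, Category.assoc, hg₃]
    have hbig : IsPullback (sq₀.lift (j₃' ≫ g') (f₃ ≫ g₃) hw ≫ pullback.fst f j₀) f₃ f
        (g₃ ≫ j₀) := by
      rw [sq₀.lift_fst, hg₃]; exact sq₃.paste_horiz sq
    have hleft : IsPullback (sq₀.lift (j₃' ≫ g') (f₃ ≫ g₃) hw) f₃ (pullback.snd f j₀) g₃ :=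
      IsPullback.of_right hbig (sq₀.lift_snd _ _ _) sq₀
    exact baseChange_of_isLocalOnBase hC hP hX₀ hW₀ hW₃ hX₃ hleft hCg₃ hP₀

end Main

end Groth.Agent.Helper16.AS
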