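import Groth.Agent.Lib.Helper16.AlgSp.ProperSp
import Groth.Agent.Lib.Helper16.AlgSp.LargestOpen
import Groth.Agent.Lib.Helper15.AlgSpCD5
import Groth.Agent.Lib.Helper15.AlgSpRed
import Groth.Agent.Lib.Helper15.AlgSpImm
import Groth.Agent.Lib.Helper15.AlgSpTop

/-!
# Properness and closed subspaces with the same support
-/

set_option autoImplicit false
universe u
open CategoryTheory CategoryTheory.Limits AlgebraicGeometry MorphismProperty
open AlgSp Groth.Agent.Helper15

namespace Groth.Agent.Helper16.AS

variable {S : Scheme.{u}}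

/-- The image of a quasi-compact space under a surjective morphism is quasi-compact. -/
theorem isQuasiCompactSp_of_surjective {P P' : Sp S} (hP' : IsAlgSpace P') (t : P ⟶ P')
    (ht : IsSurjectiveMor t) (hP : IsQuasiCompactSp P) : IsQuasiCompactSp P' := by
  haveI := compactSpace_points_of_isQuasiCompactSp hP
  haveI : CompactSpace (Points P') :=
    (show Function.Surjective (Points.map t) from ht).compactSpace (Points.continuous_map t)
  exact isQuasiCompactSp_of_compactSpace_points hP'

/-- If `t ≫ g` is quasi-compact and `t` is surjective, then `g` is quasi-compact. -/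
theorem isQuasiCompactMor_of_surjective_comp {R Z Y : Sp S} (hZ : IsAlgSpace Z)
    (hY : IsAlgSpace Y) (t : R ⟶ Z) (g : Z ⟶ Y) (ht : IsSurjectiveMor t)
    (h : IsQuasiCompactMor (t ≫ g)) : IsQuasiCompactMor g := by
  intro W W' hW hWqc w fst snd sq
  have sqT : IsPullback (pullback.fst t fst) (pullback.snd t fst) t fst :=
    IsPullback.of_hasPullback _ _
  have big : IsPullback (pullback.fst t fst) (pullback.snd t fst ≫ snd) (t ≫ g) w :=
    sqT.paste_vert sq
  have hqc : IsQuasiCompactSp (pullback t fst) := h hW hWqc w _ _ big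
  have hW' : IsAlgSpace W' := isAlgSpace_of_isPullback hY.diag hZ hW sq
  exact isQuasiCompactSp_of_surjective hW' (pullback.snd t fst)
    (isSurjectiveMor_of_isPullback sqT ht) hqc

/-- A closed immersion of algebraic spaces is proper. -/
theorem isProperMor_of_closedImmersion {X Y : Sp S} (i : X ⟶ Y)
    (hi : RepWith @IsClosedImmersion i) : IsProperMor i := by
  haveI : Mono i := mono_of_repWith isClosedImmersion_le_mono i hi
  refine ⟨isSeparatedMor_of_mono i, ⟨?_, ?_⟩, ?_⟩
  · exact locP_of_repWith etale_le_lft i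
      (repWith_mono (le_trans isClosedImmersion_le_isImmersion isImmersion_le_lft) hi)
  · exact isQuasiCompactMor_of_repWith i (repWith_mono isClosedImmersion_le_quasiCompact hi)
  · exact isUnivClosedMor_of_repWith i (repWith_mono isClosedImmersion_le_universallyClosed hi)

/-- Separatedness ascends along a surjective closed immersion (a thickening). -/
theorem isSeparatedMor_of_thickening {R Z Y : Sp S} (hR : IsAlgSpace R) (hZ : IsAlgSpace Z)
    (hY : IsAlgSpace Y) (t : R ⟶ Z) (g : Z ⟶ Y) (ht : RepWith @IsClosedImmersion t)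
    (hts : IsSurjectiveMor t) (h : IsSeparatedMor (t ≫ g)) : IsSeparatedMor g := by
  rw [(isSeparatedMor_iff_diagonal hZ g).1]
  have hmap : RepWith @IsClosedImmersion
      (pullback.map (t ≫ g) (t ≫ g) g g t t (𝟙 Y) (by simp) (by simp)) :=
    (RepWith @IsClosedImmersion).pullbackMap ht ht rfl rfl
  have hΔ : IsUnivClosedMor (pullback.diagonal (t ≫ g)) :=
    ((isSeparatedMor_iff_diagonal hR (t ≫ g)).1).1 h
  have hRR : IsAlgSpace (pullback (t ≫ g) (t ≫ g)) := isAlgSpace_pullback hR hY hR _ _
  have hZZ : IsAlgSpace (pullback g g) := isAlgSpace_pullback hZ hY hZ _ _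
  have hcomp : IsUnivClosedMor (pullback.diagonal (t ≫ g) ≫
      pullback.map (t ≫ g) (t ≫ g) g g t t (𝟙 Y) (by simp) (by simp)) :=
    isUnivClosedMor_comp hRR hZZ.diag _ _ hΔ
      (isUnivClosedMor_of_repWith _ (repWith_mono isClosedImmersion_le_universallyClosed hmap))
  have e : pullback.diagonal (t ≫ g) ≫
      pullback.map (t ≫ g) (t ≫ g) g g t t (𝟙 Y) (by simp) (by simp) =
      t ≫ pullback.diagonal g := by
    apply pullback.hom_ext
    · simp only [Category.assoc, pullback.lift_fst, pullback.diagonal_fst]
      rw [pullback.diagonal_fst_assoc, Category.comp_id]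
    · simp only [Category.assoc, pullback.lift_snd, pullback.diagonal_snd]
      rw [pullback.diagonal_snd_assoc, Category.comp_id]
  rw [e] at hcomp
  exact isUnivClosedMor_of_surjective_over t _ (pullback.diagonal g) rfl hcomp hts

/-- Properness ascends along a surjective closed immersion, for morphisms locally of finite
type. -/
theorem isProperMor_of_thickening {R Z Y : Sp S} (hR : IsAlgSpace R) (hZ : IsAlgSpace Z)
    (hY : IsAlgSpace Y) (t : R ⟶ Z) (g : Z ⟶ Y) (ht : RepWith @IsClosedImmersion t)
    (hts : IsSurjectiveMor t) (hg : LocP @LocallyOfFiniteType g)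
    (h : IsProperMor (t ≫ g)) : IsProperMor g :=
  ⟨isSeparatedMor_of_thickening hR hZ hY t g ht hts h.1,
   ⟨hg, isQuasiCompactMor_of_surjective_comp hZ hY t g hts h.2.1.2⟩,
   isUnivClosedMor_of_surjective_over t _ g rfl h.2.2 hts⟩

/-- Properness over `Y` of a closed subspace only depends on its support. -/
theorem isProperMor_closedSubspace_of_points_eq {X Y Z Z' : Sp S} (hX : IsAlgSpace X)
    (hY : IsAlgSpace Y) (hZ : IsAlgSpace Z) (hZ' : IsAlgSpace Z')
    (f : X ⟶ Y) (hf : LocP @LocallyOfFiniteType f) (i : Z ⟶ X) (i' : Z' ⟶ X)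
    (hi : RepWith @IsClosedImmersion i) (hi' : RepWith @IsClosedImmersion i')
    (heq : Set.range (Points.map i) = Set.range (Points.map i'))
    (hp : IsProperMor (i ≫ f)) : IsProperMor (i' ≫ f) := by
  have hT : IsClosed (Set.range (Points.map i')) :=
    (repWith_isClosedImmersion_iff_isClosed_range hX i'
      (repWith_mono isClosedImmersion_le_isImmersion hi')).1 hi'
  obtain ⟨R, r, hR, hr, hrange, hred⟩ := exists_isRedInduced hX _ hT
  obtain ⟨t, ht⟩ := (factors_iff_of_isReducedSp i hi hred r).2 (by rw [hrange, heq])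
  obtain ⟨t', ht'⟩ := (factors_iff_of_isReducedSp i' hi' hred r).2 (by rw [hrange])
  haveI : Mono i := mono_of_repWith isClosedImmersion_le_mono i hi
  haveI : Mono i' := mono_of_repWith isClosedImmersion_le_mono i' hi'
  have htc : RepWith @IsClosedImmersion t :=
    (permanence hZ t i).2 (by rw [ht]; exact hr) (isSeparatedMor_of_mono i)
  have htc' : RepWith @IsClosedImmersion t' :=
    (permanence hZ' t' i').2 (by rw [ht']; exact hr) (isSeparatedMor_of_mono i')
  have hts' : IsSurjectiveMor t' := by
    intro z'
    have : Points.map i' z' ∈ Set.range (Points.map r) := by rw [hrange]; exact ⟨z', rfl⟩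
    obtain ⟨x, hx⟩ := this
    refine ⟨x, (injOnFieldPts_of_mono i').injective_points_map ?_⟩
    rw [← Points.map_comp, ht', hx]
  -- `R ⟶ Y` is proper
  have htp : IsProperMor t := isProperMor_of_closedImmersion t htc
  have hRY : IsProperMor (t' ≫ i' ≫ f) := by
    rw [← Category.assoc, ht', ← ht, Category.assoc]
    exact isProperMor_comp hR hZ hY t (i ≫ f) htp hp
  have hlft : LocP @LocallyOfFiniteType (i' ≫ f) :=
    locP_comp goodP_lft srcEtLoc_lft hZ' hX hY i' f
      (isProperMor_of_closedImmersion i' hi').2.1.1 hf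
  exact isProperMor_of_thickening hR hZ' hY t' (i' ≫ f) htc' hts' hlft hRY

end Groth.Agent.Helper16.AS
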