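import Groth.Prelude.Def_AlgSpCov
import Groth.Agent.Lib.Helper15.AlgSpOpen
import Groth.Agent.Lib.Helper15.AlgSpNoeth2

/-!
# A framework for "fpqc local on the base" statements for algebraic spaces
-/

set_option autoImplicit false
universe u
open CategoryTheory CategoryTheory.Limits AlgebraicGeometry MorphismProperty Opposite
open AlgSp Groth.Agent.Helper15

namespace Groth.Agent.Helper16.AS

variable {S : Scheme.{u}}

/-- A standard fpqc covering of an affine scheme `Z` over `S`. -/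
structure StdFpqc (Z : Over S) (m : ℕ) (W : Fin m → Over S) (c : ∀ j, W j ⟶ Z) : Prop where
  affine : ∀ j, IsAffine (W j).left
  flat : ∀ j, Flat (c j).left
  surj : ∀ z : ↥Z.left, ∃ j, z ∈ Set.range (c j).left

/-- base change of a pullback along a lift -/
theorem isPullback_lift_of_cover {X Y Yi Xi T A B : Sp S} {f : X ⟶ Y} {g : Yi ⟶ Y} {q : Xi ⟶ X}
    {p : Xi ⟶ Yi} (sq : IsPullback q p f g) {h : A ⟶ Y} {t₁ : T ⟶ X} {t : T ⟶ A}
    (sqT : IsPullback t₁ t f h) {c : B ⟶ A} {l : B ⟶ Yi} (hl : l ≫ g = c ≫ h)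
    {T' : Sp S} {fst : T' ⟶ T} {snd : T' ⟶ B} (sq' : IsPullback fst snd t c) :
    ∃ u : T' ⟶ Xi, IsPullback u snd p l := by
  have houter : IsPullback (fst ≫ t₁) snd f (c ≫ h) := sq'.paste_horiz sqT
  have hw : (fst ≫ t₁) ≫ f = (snd ≫ l) ≫ g := by
    rw [Category.assoc snd l g, hl]
    exact houter.w
  refine ⟨sq.lift (fst ≫ t₁) (snd ≫ l) hw, ?_⟩
  refine IsPullback.of_right ?_ (sq.lift_snd _ _ hw) sq
  rw [sq.lift_fst, hl]
  exact houter

/-- The general principle: a property `P` of morphisms of algebraic spaces is fpqc local on the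
base as soon as it is stable under base change, and there is an auxiliary property `Q` of
morphisms with affine target such that `P` can be tested through `Q` on affine base changes, `P`
implies `Q` after affine base change, and `Q` descends along standard fpqc coverings. -/
theorem isLocalOnBase_fpqc_of (P Q : MorphismProperty (Sp S))
    (hbc : ∀ ⦃X Y X' Y' : Sp S⦄ (f : X ⟶ Y) (g : Y' ⟶ Y) (f' : X' ⟶ Y') (g' : X' ⟶ X),
      IsAlgSpace X → IsAlgSpace Y → IsAlgSpace X' → IsAlgSpace Y' →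
      IsPullback g' f' f g → P f → P f')
    (hPQ : ∀ ⦃X Y T : Sp S⦄ (f : X ⟶ Y), IsAlgSpace X → IsAlgSpace Y → P f →
      ∀ (Z : Over S), IsAffine Z.left → ∀ (h : (yon S).obj Z ⟶ Y) (fst : T ⟶ X)
        (snd : T ⟶ (yon S).obj Z), IsPullback fst snd f h → Q snd)
    (haff : ∀ ⦃X Y : Sp S⦄ (f : X ⟶ Y), IsAlgSpace X → IsAlgSpace Y →
      (∀ (Z : Over S), IsAffine Z.left → ∀ (h : (yon S).obj Z ⟶ Y),
        Q (pullback.snd f h)) → P f)
    (hdesc : ∀ (Z : Over S), IsAffine Z.left → ∀ ⦃T : Sp S⦄ (t : T ⟶ (yon S).obj Z),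
      IsAlgSpace T → ∀ (m : ℕ) (W : Fin m → Over S) (c : ∀ j, W j ⟶ Z), StdFpqc Z m W c →
      (∀ j, Q (pullback.snd t ((yon S).map (c j)))) → Q t) :
    IsLocalOnBase (IsFpqcCover (S := S)) P := by
  intro ι Y Yi g hY hYi hcov X f hX Xi p q hXi sq
  constructor
  · intro hf i
    exact hbc f (g i) (p i) (q i) hX hY (hXi i) (hYi i) (sq i) hf
  · intro hp
    apply haff f hX hY
    intro Z hZ h
    have hT : IsAlgSpace (pullback f h) :=
      isAlgSpace_of_isPullback hY.diag hX (IsAlgSpace.yon_obj Z) (IsPullback.of_hasPullback f h)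
    obtain ⟨m, W, c, hWaff, hcflat, hcsurj, hl⟩ := hcov.2 Z hZ h
    apply hdesc Z hZ (pullback.snd f h) hT m W c ⟨hWaff, hcflat, hcsurj⟩
    intro j
    obtain ⟨i, l, hl⟩ := hl j
    obtain ⟨u, hu⟩ := isPullback_lift_of_cover (sq i) (IsPullback.of_hasPullback f h) hl
      (IsPullback.of_hasPullback (pullback.snd f h) ((yon S).map (c j)))
    exact hPQ (p i) (hXi i) (hYi i) (hp i) (W j) (hWaff j) l u _ hu

end Groth.Agent.Helper16.AS
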