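import Groth.Agent.Lib.Helper16.AlgSp.FormalSp8

/-!
# First order thickenings: base change
-/

set_option autoImplicit false
universe u
open CategoryTheory CategoryTheory.Limits AlgebraicGeometry MorphismProperty
open AlgSp Groth.Agent.Helper15

namespace Groth.Agent.Helper16.AS

variable {S : Scheme.{u}}

/-- Base change of a first order thickening along an étale morphism of algebraic spaces. -/
theorem isFOThickMor_of_isPullback {Z Y Y' Z' : Sp S} {e : Z ⟶ Y} {iZ : Z ⟶ Z'} {iY : Y ⟶ Y'}
    {e' : Z' ⟶ Y'} (sq : IsPullback e iZ iY e') (he' : IsEtaleMor e') (hiY : IsFOThickMor iY) :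
    IsFOThickMor iZ := by
  refine ⟨(RepWith thick).of_isPullback sq hiY.1, ?_⟩
  intro V W c fst snd hV hc pb
  exact hiY.2 (c ≫ e') (fst ≫ e) snd hV (he' c hc) (pb.paste_horiz sq)

section LocalGlobal

variable {T T' X Y : Sp S} {j : T ⟶ T'} {f : X ⟶ Y} {a : T ⟶ X} {b : T' ⟶ Y}

/-- A global lift restricts to a local lift on every chart. -/
theorem isLocalLift_of_lift {l : T' ⟶ X} (h1 : j ≫ l = a) (h2 : l ≫ f = b) {V : Over S}
    (c : (yon S).obj V ⟶ T') : IsLocalLift j f a b c (c ≫ l) := by
  refine ⟨fun W fst snd pb => ?_, by rw [Category.assoc, h2]⟩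
  rw [← Category.assoc, ← pb.w, Category.assoc, h1]

/-- Uniqueness of local lifts on scheme charts from uniqueness on affine charts. -/
theorem IsLocalLift.unique' (hrep : Representable j)
    (huA : ∀ (A : CommRingCat.{u}) (str : Spec A ⟶ S) (c : (yon S).obj (Over.mk str) ⟶ T'),
      RepWith @Etale c → ∀ m m', IsLocalLift j f a b c m → IsLocalLift j f a b c m' → m = m')
    {V : Over S} {c : (yon S).obj V ⟶ T'} (hc : RepWith @Etale c)
    {m m' : (yon S).obj V ⟶ X} (h : IsLocalLift j f a b c m) (h' : IsLocalLift j f a b c m') :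
    m = m' := by
  obtain ⟨A, str, ι, hι, hcov⟩ := exists_affine_charts V
  refine yon_hom_ext_of_cover (fun v => Over.mk (str v)) ι ?_ (fun v => ?_)
  · refine ofArrows_mem_J _ _ (fun v => ?_) (fun v => ?_) (fun v => ?_)
    · have := hι v; infer_instance
    · have := hι v; infer_instance
    · obtain ⟨y, hy⟩ := hcov v
      exact ⟨v, y, hy⟩
  · have hcv : RepWith @Etale ((yon S).map (ι v) ≫ c) := by
      refine (RepWith @Etale).comp_mem _ _ ((repWith_yon_map_iff _ _).2 ?_) hc
      have := hι v
      change Etale (ι v).left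
      infer_instance
    exact huA (A v) (str v) _ hcv _ _ (h.restrict hrep (ι v)) (h'.restrict hrep (ι v))

/-- Local lifts exist on all étale scheme charts if they exist uniquely on affine ones. -/
theorem exists_isLocalLift' (hrep : Representable j)
    (huA : ∀ (A : CommRingCat.{u}) (str : Spec A ⟶ S) (c : (yon S).obj (Over.mk str) ⟶ T'),
      RepWith @Etale c → ∀ m m', IsLocalLift j f a b c m → IsLocalLift j f a b c m' → m = m')
    (heA : ∀ (A : CommRingCat.{u}) (str : Spec A ⟶ S) (c : (yon S).obj (Over.mk str) ⟶ T'),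
      RepWith @Etale c → ∃ m, IsLocalLift j f a b c m)
    {V : Over S} (c : (yon S).obj V ⟶ T') (hc : RepWith @Etale c) :
    ∃ m, IsLocalLift j f a b c m := by
  obtain ⟨A, str, ι, hι, hcov⟩ := exists_affine_charts V
  have hcv : ∀ v, RepWith @Etale ((yon S).map (ι v) ≫ c) := by
    intro v
    refine (RepWith @Etale).comp_mem _ _ ((repWith_yon_map_iff _ _).2 ?_) hc
    have := hι v
    change Etale (ι v).left
    infer_instance
  choose mv hmv using fun v => heA (A v) (str v) ((yon S).map (ι v) ≫ c) (hcv v)
  have hJ : Sieve.ofArrows (fun v => Over.mk (str v)) ι ∈ (J S) V := by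
    refine ofArrows_mem_J _ _ (fun v => ?_) (fun v => ?_) (fun v => ?_)
    · have := hι v; infer_instance
    · have := hι v; infer_instance
    · obtain ⟨y, hy⟩ := hcov v
      exact ⟨v, y, hy⟩
  obtain ⟨m, hm⟩ := exists_glue_yon_pullback _ ι hJ mv (by
    intro v v'
    have hopen : IsOpenImmersion (pullback.fst (ι v) (ι v')).left := by
      have := hι v'
      exact MorphismProperty.of_isPullback (P := @IsOpenImmersion)
        ((IsPullback.of_hasPullback (ι v) (ι v')).map (Over.forget S)).flip (hι v')
    have hce : RepWith @Etale ((yon S).map (pullback.fst (ι v) (ι v')) ≫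
        (yon S).map (ι v) ≫ c) := by
      refine (RepWith @Etale).comp_mem _ _ ((repWith_yon_map_iff _ _).2 ?_) (hcv v)
      change Etale (pullback.fst (ι v) (ι v')).left
      infer_instance
    have heq : (yon S).map (pullback.snd (ι v) (ι v')) ≫ (yon S).map (ι v') ≫ c =
        (yon S).map (pullback.fst (ι v) (ι v')) ≫ (yon S).map (ι v) ≫ c := by
      rw [← Category.assoc, ← Category.assoc, ← Functor.map_comp, ← Functor.map_comp,
        pullback.condition]
    exact IsLocalLift.unique' hrep huA hce ((hmv v).restrict hrep _)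
      (((hmv v').restrict hrep _).of_eq heq))
  refine ⟨m, fun W fst snd pb => ?_, ?_⟩
  · refine yon_hom_ext_of_cover (fun v => pullback snd (ι v)) (fun v => pullback.fst snd (ι v))
      ?_ (fun v => ?_)
    · have hopen : ∀ v, IsOpenImmersion (pullback.fst snd (ι v)).left := fun v =>
        MorphismProperty.of_isPullback (P := @IsOpenImmersion)
          ((IsPullback.of_hasPullback snd (ι v)).map (Over.forget S)).flip (hι v)
      refine ofArrows_mem_J _ _ (fun v => ?_) (fun v => ?_) (fun x => ?_)
      · have := hopen v; infer_instance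
      · have := hopen v; infer_instance
      · obtain ⟨y, hy⟩ := hcov (snd.left x)
        obtain ⟨z, hz1, -⟩ := AlgebraicGeometry.Scheme.exists_preimage_of_isPullback
          ((IsPullback.of_hasPullback snd (ι (snd.left x))).map (Over.forget S)) x y hy.symm
        exact ⟨snd.left x, z, hz1⟩
    · have big := ((IsPullback.of_hasPullback snd (ι v)).map (yon S)).paste_horiz pb
      have := (hmv v).1 _ _ big
      rw [← Category.assoc, ← Functor.map_comp, pullback.condition, Functor.map_comp,
        Category.assoc, hm v, this, Category.assoc]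
  · refine yon_hom_ext_of_cover _ ι hJ (fun v => ?_)
    rw [← Category.assoc, hm v, (hmv v).2, Category.assoc]

/-- Local-to-global principle for lifting problems along a representable map. -/
theorem existsUnique_lift' (hT' : IsAlgSpace T') (hrep : Representable j)
    (huA : ∀ (A : CommRingCat.{u}) (str : Spec A ⟶ S) (c : (yon S).obj (Over.mk str) ⟶ T'),
      RepWith @Etale c → ∀ m m', IsLocalLift j f a b c m → IsLocalLift j f a b c m' → m = m')
    (heA : ∀ (A : CommRingCat.{u}) (str : Spec A ⟶ S) (c : (yon S).obj (Over.mk str) ⟶ T'),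
      RepWith @Etale c → ∃ m, IsLocalLift j f a b c m) :
    ∃! l : T' ⟶ X, j ≫ l = a ∧ l ≫ f = b := by
  obtain ⟨V, p, hpe, hps⟩ := hT'.atlas
  have : Sheaf.IsLocallySurjective p :=
    isLocallySurjective_of_repWith p (repWith_mono etale_le_flat hpe)
      (repWith_mono (fun _ _ f hf => by have : Etale f := hf; infer_instance) hpe) hps
  obtain ⟨m, hm⟩ := exists_isLocalLift' hrep huA heA p hpe
  obtain ⟨l, hl⟩ := exists_desc_of_isLocallySurjective p m (by
    intro R s s' hss
    have hp := hpe.1
    have pbp := hp.isPullback p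
    obtain ⟨π₁, hπ₁⟩ := (yon S).map_surjective (hp.fst p)
    obtain ⟨t, ht⟩ := (yon S).map_surjective (pbp.lift s s' hss)
    have ht1 : s = (yon S).map t ≫ (yon S).map π₁ := by
      rw [ht, hπ₁]; exact (pbp.lift_fst _ _ _).symm
    have ht2 : s' = (yon S).map t ≫ (yon S).map (hp.snd p) := by
      rw [ht]; exact (pbp.lift_snd _ _ _).symm
    have hπe : Etale π₁.left := by
      have := hpe.2 p ((yon S).map (hp.snd p)) π₁ (by rw [hπ₁]; exact pbp.flip)
      exact this
    have hce : RepWith @Etale ((yon S).map π₁ ≫ p) :=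
      (RepWith @Etale).comp_mem _ _ ((repWith_yon_map_iff _ _).2 hπe) hpe
    have heq : (yon S).map (hp.snd p) ≫ p = (yon S).map π₁ ≫ p := by
      rw [hπ₁]; exact pbp.w.symm
    have key := IsLocalLift.unique' hrep huA hce (hm.restrict hrep π₁)
      ((hm.restrict hrep (hp.snd p)).of_eq heq)
    rw [ht1, ht2, Category.assoc, Category.assoc, key])
  have hl1 : j ≫ l = a := by
    have pb := hrep.isPullback p
    have hsurj : Sheaf.IsLocallySurjective (hrep.fst p) :=
      isLocallySurjective_of_repWith _
        (repWith_mono etale_le_flat ((RepWith @Etale).of_isPullback pb.flip hpe))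
        (repWith_mono (fun _ _ f hf => by have : Etale f := hf; infer_instance)
          ((RepWith @Etale).of_isPullback pb.flip hpe))
        ((RepWith @Surjective).of_isPullback pb.flip hps)
    rw [← cancel_epi (hrep.fst p), ← Category.assoc, pb.w, Category.assoc, hl]
    exact hm.1 _ _ pb
  have hl2 : l ≫ f = b := by
    rw [← cancel_epi p, ← Category.assoc, hl]
    exact hm.2
  refine ⟨l, ⟨hl1, hl2⟩, fun l' hl' => ?_⟩
  refine hom_ext_of_affine_charts hT' (fun A str c hc => ?_)
  exact huA A str c hc _ _ (isLocalLift_of_lift hl'.1 hl'.2 c) (isLocalLift_of_lift hl1 hl2 c)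

end LocalGlobal

end Groth.Agent.Helper16.AS
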