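import Groth.Agent.Lib.Helper16.AlgSp.FormalSp5

/-!
# Formal étaleness on charts
-/

set_option autoImplicit false
universe u
open CategoryTheory CategoryTheory.Limits AlgebraicGeometry MorphismProperty Opposite
open AlgSp Groth.Agent.Helper15

namespace Groth.Agent.Helper16.AS

variable {S : Scheme.{u}}

/-- Cancellation for formally smooth maps. -/
theorem isFormallySmoothMor_of_comp_right {F G H : Sp S} {u : F ⟶ G} {b : G ⟶ H}
    (h : IsFormallySmoothMor (u ≫ b)) (hb : IsFormallyUnramifiedMor b) :
    IsFormallySmoothMor u := by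
  intro sq
  let sq' : InfSq (u ≫ b) :=
    { A := sq.A, I := sq.I, sq_zero := sq.sq_zero, str := sq.str, top := sq.top,
      bot := sq.bot ≫ b
      comm := by rw [← Category.assoc, sq.comm, Category.assoc] }
  obtain ⟨l, hl1, hl2⟩ : ∃ l : (yon S).obj sq.ptT' ⟶ F,
      (yon S).map sq.j ≫ l = sq.top ∧ l ≫ u ≫ b = sq.bot ≫ b := h sq'
  refine ⟨l, hl1, ?_⟩
  let sqb : InfSq b :=
    { A := sq.A, I := sq.I, sq_zero := sq.sq_zero, str := sq.str, top := sq.top ≫ u,
      bot := sq.bot ≫ b
      comm := by rw [Category.assoc, ← Category.assoc, sq.comm, Category.assoc] }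
  exact hb sqb (l ≫ u) sq.bot (by rw [← Category.assoc]; erw [hl1])
    (by rw [Category.assoc]; exact hl2) sq.comm.symm rfl

theorem isFormallyEtaleMor_of_comp_right {F G H : Sp S} {u : F ⟶ G} {b : G ⟶ H}
    (h : IsFormallyEtaleMor (u ≫ b)) (hb : IsFormallyUnramifiedMor b) :
    IsFormallyEtaleMor u :=
  isFormallyEtaleMor_iff.2
    ⟨isFormallySmoothMor_of_comp_right (isFormallyEtaleMor_iff.1 h).1 hb,
     isFormallyUnramifiedMor_of_comp_right (isFormallyEtaleMor_iff.1 h).2⟩

/-- For a morphism of schemes, the sheaf-level and scheme-level notions of formal étaleness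
agree. -/
theorem isFormallyEtaleMor_yon_map_iff {U V : Over S} (h : U ⟶ V) :
    IsFormallyEtaleMor ((yon S).map h) ↔ MoreMor.IsFormallyEtaleHom h.left := by
  constructor
  · intro hh A _ I hI a0 b0 w
    have hw : a0 ≫ U.hom = Spec.map (CommRingCat.ofHom (Ideal.Quotient.mk I)) ≫ b0 ≫ V.hom := by
      rw [← Over.w h, ← Category.assoc, ← w, Category.assoc]
    let sq : InfSq ((yon S).map h) :=
      { A := A, I := I, sq_zero := hI, str := b0 ≫ V.hom
        top := (yon S).map (Over.homMk a0 hw)
        bot := (yon S).map (Over.homMk b0 rfl)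
        comm := by
          rw [← Functor.map_comp, ← Functor.map_comp]
          congr 1
          apply Over.OverMorphism.ext
          exact w.symm }
    obtain ⟨l, ⟨hl1, hl2⟩, huniq⟩ := hh sq
    obtain ⟨L, rfl⟩ := (yon S).map_surjective l
    rw [← Functor.map_comp] at hl1 hl2
    have hL1 := congrArg CommaMorphism.left ((yon S).map_injective hl1)
    have hL2 := congrArg CommaMorphism.left ((yon S).map_injective hl2)
    refine ⟨L.left, ⟨hL1, hL2⟩, ?_⟩
    rintro l' ⟨h1, h2⟩
    have hl'w : l' ≫ U.hom = b0 ≫ V.hom := by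
      rw [← Over.w h, ← Category.assoc, h2]
    let L' : sq.ptT' ⟶ U := Over.homMk l' hl'w
    have := huniq ((yon S).map L') ⟨by
      rw [← Functor.map_comp]; congr 1
      apply Over.OverMorphism.ext
      exact h1, by
      rw [← Functor.map_comp]; congr 1
      apply Over.OverMorphism.ext
      exact h2⟩
    exact congrArg CommaMorphism.left ((yon S).map_injective this)
  · intro hh sq
    obtain ⟨t, ht⟩ := (yon S).map_surjective sq.top
    obtain ⟨bb, hbb⟩ := (yon S).map_surjective sq.bot
    have hcomm : t ≫ h = sq.j ≫ bb := by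
      apply (yon S).map_injective
      rw [Functor.map_comp, Functor.map_comp, ht, hbb]
      exact sq.comm
    have hcomm' : Spec.map (CommRingCat.ofHom (Ideal.Quotient.mk sq.I)) ≫ bb.left =
        t.left ≫ h.left := (congrArg CommaMorphism.left hcomm).symm
    obtain ⟨l0, ⟨h1, h2⟩, huniq⟩ := hh sq.A sq.I sq.sq_zero t.left bb.left hcomm'
    have hl0w : l0 ≫ U.hom = sq.ptT'.hom := by
      rw [← Over.w h, ← Category.assoc, h2]
      exact Over.w bb
    let L : sq.ptT' ⟶ U := Over.homMk l0 hl0w
    refine ⟨(yon S).map L, ⟨?_, ?_⟩, ?_⟩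
    · rw [← ht, ← Functor.map_comp]; congr 1
      apply Over.OverMorphism.ext
      exact h1
    · rw [← hbb, ← Functor.map_comp]; congr 1
      apply Over.OverMorphism.ext
      exact h2
    · rintro l' ⟨hl1, hl2⟩
      obtain ⟨L', rfl⟩ := (yon S).map_surjective l'
      rw [← ht, ← Functor.map_comp] at hl1
      rw [← hbb, ← Functor.map_comp] at hl2
      have e1 := congrArg CommaMorphism.left ((yon S).map_injective hl1)
      have e2 := congrArg CommaMorphism.left ((yon S).map_injective hl2)
      have : L'.left = l0 := huniq L'.left ⟨e1, e2⟩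
      congr 1
      apply Over.OverMorphism.ext
      exact this

/-- One surjective chart diagram suffices. -/
theorem isFormallyEtaleMor_of_chart {F G : Sp S} (f : F ⟶ G) {U V : Over S}
    (a : (yon S).obj U ⟶ F) (b : (yon S).obj V ⟶ G) (h : U ⟶ V)
    (ha : RepWith @Etale a) (ha' : RepWith @Surjective a) (hb : RepWith @Etale b)
    (w : a ≫ f = (yon S).map h ≫ b) (hh : MoreMor.IsFormallyEtaleHom h.left) :
    IsFormallyEtaleMor f := by
  refine isFormallyEtaleMor_of_comp ha ha' ?_
  rw [w]
  exact isFormallyEtaleMor_comp ((isFormallyEtaleMor_yon_map_iff h).2 hh)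
    (isFormallyEtaleMor_of_repWith hb)

theorem isFormallyEtaleMor_iff_locP {X Y : Sp S} (hX : IsAlgSpace X) (hY : IsAlgSpace Y)
    (f : X ⟶ Y) : IsFormallyEtaleMor f ↔ LocP @MoreMor.IsFormallyEtaleHom f := by
  constructor
  · intro hf U V a b h ha hb w
    rw [← isFormallyEtaleMor_yon_map_iff]
    apply isFormallyEtaleMor_of_comp_right (b := b) _ (isFormallyUnramifiedMor_of_repWith_etale hb)
    rw [← w]
    exact isFormallyEtaleMor_comp (isFormallyEtaleMor_of_repWith ha) hf
  · intro hf
    obtain ⟨V, q, hqe, hqs⟩ := hY.atlas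
    obtain ⟨U, p, α, hpe, hps, w⟩ := exists_chart_lift hX f q hqe hqs
    exact isFormallyEtaleMor_of_chart f p q α hpe hps hqe w (hf p q α hpe hqe w)

end Groth.Agent.Helper16.AS
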