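import Groth.Agent.Lib.Helper16.AlgSp.FpqcComp

/-!
# Descent of `LocP P` along families refined by standard fpqc coverings
-/

set_option autoImplicit false
universe u
open CategoryTheory CategoryTheory.Limits AlgebraicGeometry MorphismProperty Opposite
open AlgSp Groth.Agent.Helper15

namespace Groth.Agent.Helper16.AS

variable {S : Scheme.{u}}

/-- base change of a chart of `X ×_Y V₀` along `V₁ ⟶ V₀` -/
theorem exists_chart_base_change {X Y E E₁ : Sp S} {f : X ⟶ Y} {V₀ U₀ V₁ U₁ : Over S}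
    {q : (yon S).obj V₀ ⟶ Y} {fstE : E ⟶ X} {sndE : E ⟶ (yon S).obj V₀}
    (sqE : IsPullback fstE sndE f q) (r : (yon S).obj U₀ ⟶ E) (h₀ : U₀ ⟶ V₀)
    (hh : r ≫ sndE = (yon S).map h₀) (ν : V₁ ⟶ V₀) {π₁ : U₁ ⟶ U₀} {π₂ : U₁ ⟶ V₁}
    (sqU : IsPullback π₁ π₂ h₀ ν) {fst₁ : E₁ ⟶ X} {snd₁ : E₁ ⟶ (yon S).obj V₁}
    (sq₁ : IsPullback fst₁ snd₁ f ((yon S).map ν ≫ q)) :
    ∃ (ρ : E₁ ⟶ E) (r₁ : (yon S).obj U₁ ⟶ E₁), IsPullback r₁ ((yon S).map π₁) ρ r ∧
      r₁ ≫ snd₁ = (yon S).map π₂ ∧ ρ ≫ fstE = fst₁ := by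
  have hbigw : fst₁ ≫ f = (snd₁ ≫ (yon S).map ν) ≫ q := by
    rw [Category.assoc]; exact sq₁.w
  have right : IsPullback (sqE.lift _ _ hbigw) snd₁ sndE ((yon S).map ν) := by
    refine IsPullback.of_right ?_ (sqE.lift_snd _ _ hbigw) sqE
    rw [sqE.lift_fst]
    exact sq₁
  have sqU' : IsPullback ((yon S).map π₁) ((yon S).map π₂) (r ≫ sndE) ((yon S).map ν) := by
    rw [hh]
    exact sqU.map (yon S)
  have hw : ((yon S).map π₁ ≫ r) ≫ sndE = (yon S).map π₂ ≫ (yon S).map ν := by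
    rw [Category.assoc]; exact sqU'.w
  have left : IsPullback (right.lift _ _ hw) ((yon S).map π₁) (sqE.lift _ _ hbigw) r := by
    refine IsPullback.of_right ?_ (right.lift_fst _ _ hw) right.flip
    rw [right.lift_snd]
    exact sqU'.flip
  exact ⟨sqE.lift _ _ hbigw, right.lift _ _ hw, left, right.lift_snd _ _ hw,
    sqE.lift_fst _ _ hbigw⟩

/-- `LocP P` descends along a family refined by standard fpqc coverings. -/
theorem locP_of_stdRefinable {P : MorphismProperty Scheme.{u}} (hP : GoodP P)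
    (hsrc : SrcEtLoc P) [IsZariskiLocalAtTarget P]
    [P.DescendsAlong (@Surjective ⊓ @Flat ⊓ @QuasiCompact)]
    {ι : Type u} {X Y : Sp S} (hX : IsAlgSpace X) (hY : IsAlgSpace Y) {f : X ⟶ Y}
    {Yi Xi : ι → Sp S} (hYi : ∀ i, IsAlgSpace (Yi i)) (hXi : ∀ i, IsAlgSpace (Xi i))
    {g : ∀ i, Yi i ⟶ Y} {p : ∀ i, Xi i ⟶ Yi i} {q : ∀ i, Xi i ⟶ X}
    (sq : ∀ i, IsPullback (q i) (p i) f (g i)) (hcov : IsStdRefinable Yi g)
    (hp : ∀ i, LocP P (p i)) : LocP P f := by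
  haveI := hP.bc
  obtain ⟨V₀, q₀, hq₀e, hq₀s⟩ := hY.atlas
  have hE : IsAlgSpace (pullback f q₀) :=
    isAlgSpace_of_isPullback hY.diag hX (IsAlgSpace.yon_obj V₀) (IsPullback.of_hasPullback f q₀)
  obtain ⟨U₀, r, hre, hrs⟩ := hE.atlas
  obtain ⟨h₀, hh⟩ := (yon S).map_surjective (r ≫ pullback.snd f q₀)
  refine locP_of_charts hP hsrc f q₀ hq₀e hq₀s _ _ (IsPullback.of_hasPullback f q₀) r hre hrs h₀
    hh.symm ?_
  rw [← repWith_yon_map_iff P h₀]
  refine repWith_of_forall_affine (representable_yon_map h₀) P ?_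
  intro T V' hT g' fst snd sqT
  obtain ⟨γ, rfl⟩ := (yon S).map_surjective g'
  refine property_congr ((IsPullback.of_hasPullback h₀ γ).map (yon S)) sqT ?_
  obtain ⟨m, W, c, hc, hl⟩ := hcov T hT ((yon S).map γ ≫ q₀)
  haveI := hc.affine
  refine property_of_stdCover' (fun j => (W j).left) (fun j => (c j).left) P hc.flat hc.surj
    (pullback.snd h₀ γ).left
    (fun j => (IsPullback.of_hasPullback (pullback.snd h₀ γ) (c j)).map (Over.forget S)) ?_
  intro j
  obtain ⟨i, l, hl⟩ := hl j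
  have sqU : IsPullback (pullback.fst (pullback.snd h₀ γ) (c j) ≫ pullback.fst h₀ γ)
      (pullback.snd (pullback.snd h₀ γ) (c j)) h₀ (c j ≫ γ) :=
    (IsPullback.of_hasPullback (pullback.snd h₀ γ) (c j)).paste_horiz
      (IsPullback.of_hasPullback h₀ γ)
  have sq₁ : IsPullback (pullback.fst (p i) l ≫ q i) (pullback.snd (p i) l) f
      ((yon S).map (c j ≫ γ) ≫ q₀) := by
    have := (IsPullback.of_hasPullback (p i) l).paste_horiz (sq i)
    rw [hl, ← Category.assoc, ← Functor.map_comp] at this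
    exact this
  have hsnd₁ : LocP P (pullback.snd (p i) l) :=
    locP_of_isPullback hP hsrc (hXi i) (hYi i) (IsAlgSpace.yon_obj (W j))
      (IsPullback.of_hasPullback (p i) l) (hp i)
  obtain ⟨ρ, r₁, hleft, hr₁, -⟩ := exists_chart_base_change (IsPullback.of_hasPullback f q₀) r h₀
    hh.symm (c j ≫ γ) sqU sq₁
  have hr₁e : RepWith @Etale r₁ := (RepWith @Etale).of_isPullback hleft.flip hre
  exact hsnd₁ r₁ (𝟙 _) _ hr₁e (repWith_id _ _) (by rw [hr₁, Category.comp_id])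

/-- the general principle for `LocP P` -/
theorem isLocalOnBase_std_locP {P : MorphismProperty Scheme.{u}} (hP : GoodP P)
    (hsrc : SrcEtLoc P) [IsZariskiLocalAtTarget P]
    [P.DescendsAlong (@Surjective ⊓ @Flat ⊓ @QuasiCompact)] :
    IsLocalOnBase (IsStdRefinable (S := S)) (LocP P) := by
  intro ι Y Yi g hY hYi hcov X f hX Xi p q hXi sq
  constructor
  · intro hf i
    exact locP_of_isPullback hP hsrc hX hY (hYi i) (sq i) hf
  · intro hp
    exact locP_of_stdRefinable hP hsrc hX hY hYi hXi sq hcov hp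

theorem isLocalOnBase_std_locP_flat :
    IsLocalOnBase (IsStdRefinable (S := S)) (LocP @Flat) :=
  isLocalOnBase_std_locP goodP_flat srcEtLoc_flat

end Groth.Agent.Helper16.AS
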