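import Groth.Agent.Lib.Helper16.Alg.SrcEtSch
import Groth.Agent.Lib.Helper16.AlgSp.LocPDesc
import Mathlib.AlgebraicGeometry.Morphisms.LocalFlatDescent

/-!
# Finite type and unramified morphisms of algebraic spaces and fpqc coverings
-/

set_option autoImplicit false
universe u
open CategoryTheory CategoryTheory.Limits AlgebraicGeometry MorphismProperty Opposite
open AlgSp Groth.Agent.Helper15

namespace Groth.Agent.Helper16.AS

variable {S : Scheme.{u}}

theorem srcEtLoc_lft : SrcEtLoc (@LocallyOfFiniteType : MorphismProperty Scheme.{u}) := by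
  intro A B C e h he hes hc
  haveI : Etale e := he
  haveI : Surjective e := hes
  exact Groth.Agent.Helper16.Alg.locallyOfFiniteType_of_comp_etale_surjective e h hc

theorem srcEtLoc_formallyUnramified :
    SrcEtLoc (@FormallyUnramified : MorphismProperty Scheme.{u}) := by
  intro A B C e h he hes hc
  haveI : Etale e := he
  haveI : Surjective e := hes
  exact Groth.Agent.Helper16.Alg.formallyUnramified_of_comp_etale_surjective e h hc

theorem srcEtLoc_inf {P Q : MorphismProperty Scheme.{u}} (hP : SrcEtLoc P) (hQ : SrcEtLoc Q) :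
    SrcEtLoc (P ⊓ Q) := by
  intro A B C e h he hes hc
  exact ⟨hP e h he hes hc.1, hQ e h he hes hc.2⟩

theorem srcEtLoc_unramified :
    SrcEtLoc (@LocallyOfFiniteType ⊓ @FormallyUnramified : MorphismProperty Scheme.{u}) :=
  srcEtLoc_inf srcEtLoc_lft srcEtLoc_formallyUnramified

theorem isLocalOnBase_fpqc_locP_lft :
    IsLocalOnBase (IsFpqcCover (S := S)) (LocP @LocallyOfFiniteType) :=
  isLocalOnBase_fpqc_of_std (isLocalOnBase_std_locP goodP_lft srcEtLoc_lft)

theorem isLocalOnBase_fpqc_locP_unramified :
    IsLocalOnBase (IsFpqcCover (S := S)) (LocP (@LocallyOfFiniteType ⊓ @FormallyUnramified)) :=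
  isLocalOnBase_fpqc_of_std (isLocalOnBase_std_locP goodP_lft_unramified srcEtLoc_unramified)

end Groth.Agent.Helper16.AS
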