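import Groth.Agent.Lib.Helper16.AlgSp.SrcEtLocal
import Mathlib.RingTheory.Finiteness.Descent

set_option autoImplicit false
universe u
open CategoryTheory CategoryTheory.Limits AlgebraicGeometry MorphismProperty Opposite TensorProduct
open AlgSp Groth.Agent.Helper15 PrimeSpectrum

namespace Groth.Agent.Helper16.AS

theorem exists_prime_tensor' {A₀ A' B₀ : Type u} [CommRing A₀] [CommRing A'] [CommRing B₀]
    [Algebra A₀ A'] [Algebra A₀ B₀] (p' : PrimeSpectrum A') (q₀ : PrimeSpectrum B₀)
    (h : comap (algebraMap A₀ A') p' = comap (algebraMap A₀ B₀) q₀) :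
    ∃ P : PrimeSpectrum (A' ⊗[A₀] B₀), comap (algebraMap A' (A' ⊗[A₀] B₀)) P = p' ∧
      comap (Algebra.TensorProduct.includeRight : B₀ →ₐ[A₀] A' ⊗[A₀] B₀).toRingHom P = q₀ := by
  have sq := AlgebraicGeometry.isPullback_SpecMap_of_isPushout _ _ _ _
    (CommRingCat.isPushout_tensorProduct A₀ A' B₀)
  obtain ⟨z, hz1, hz2⟩ := AlgebraicGeometry.Scheme.exists_preimage_of_isPullback sq p' q₀ h
  exact ⟨z, hz1, hz2⟩

theorem quasiFinite_of_tensorProduct {R S T : Type u} [CommRing R] [CommRing S] [CommRing T]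
    [Algebra R S] [Algebra R T] [Module.FaithfullyFlat R S] [Algebra.FiniteType R T]
    [Algebra.QuasiFinite S (S ⊗[R] T)] : Algebra.QuasiFinite R T := by
  rw [Algebra.QuasiFinite.iff_finite_comap_preimage_singleton]
  intro p
  obtain ⟨p', rfl⟩ := PrimeSpectrum.comap_surjective_of_faithfullyFlat (B := S) p
  have hfin := Algebra.QuasiFinite.finite_comap_preimage_singleton (R := S) (S := S ⊗[R] T) p'
  refine (hfin.image
    (comap (Algebra.TensorProduct.includeRight : T →ₐ[R] S ⊗[R] T).toRingHom)).subset ?_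
  intro q hq
  obtain ⟨z, hz1, hz2⟩ := exists_prime_tensor' p' q hq.symm
  exact ⟨z, hz1, hz2⟩

theorem codescendsAlong_quasiFinite_and_finiteType :
    RingHom.CodescendsAlong (fun f => RingHom.QuasiFinite f ∧ RingHom.FiniteType f)
      RingHom.FaithfullyFlat := by
  refine .mk _ (RingHom.QuasiFinite.respectsIso.and RingHom.finiteType_respectsIso)
    fun R S T _ _ _ _ _ h h' ↦ ?_
  obtain ⟨h1, h2⟩ := h'
  rw [RingHom.finiteType_algebraMap] at h2 ⊢
  rw [RingHom.faithfullyFlat_algebraMap_iff] at h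
  haveI : Algebra.FiniteType R T := .of_finiteType_tensorProduct_of_faithfullyFlat S
  refine ⟨?_, inferInstance⟩
  rw [RingHom.quasiFinite_algebraMap] at h1 ⊢
  exact quasiFinite_of_tensorProduct (S := S)

instance descendsAlong_lqf_lft :
    DescendsAlong (@LocallyQuasiFinite ⊓ @LocallyOfFiniteType : MorphismProperty Scheme.{u})
      (@Surjective ⊓ @Flat ⊓ @QuasiCompact) :=
  haveI := HasRingHomProperty.inf (P := @LocallyQuasiFinite) (P' := @LocallyOfFiniteType)
    (Q := @RingHom.QuasiFinite) (Q' := @RingHom.FiniteType)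
  HasRingHomProperty.descendsAlong_flat codescendsAlong_quasiFinite_and_finiteType

variable {S : Scheme.{u}}

theorem isLocalOnBase_fpqc_locP_lqf_lft :
    IsLocalOnBase (IsFpqcCover (S := S)) (LocP (@LocallyQuasiFinite ⊓ @LocallyOfFiniteType)) :=
  haveI : IsZariskiLocalAtTarget
      (@LocallyQuasiFinite ⊓ @LocallyOfFiniteType : MorphismProperty Scheme.{u}) :=
    inferInstance
  isLocalOnBase_fpqc_of_std (isLocalOnBase_std_locP goodP_lqf_lft srcEtLoc_lqf_lft)

end Groth.Agent.Helper16.AS
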