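import Groth.Agent.Lib.Helper16.AlgSp.BCSp

set_option autoImplicit false
universe u
open CategoryTheory CategoryTheory.Limits AlgebraicGeometry MorphismProperty Opposite
open AlgSp Groth.Agent.Helper15
open scoped TensorProduct

namespace Groth.Agent.Helper16.AS

/-- A common field extension of two field extensions of `k`. -/
theorem exists_compositum (k K k' : Type u) [Field k] [Field K] [Field k'] [Algebra k K]
    [Algebra k k'] :
    ∃ (Ω : Type u) (_ : Field Ω) (_ : Algebra k Ω) (_ : Algebra K Ω) (_ : Algebra k' Ω),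
      IsScalarTower k K Ω ∧ IsScalarTower k k' Ω := by
  haveI : Nontrivial (K ⊗[k] k') :=
    (Algebra.TensorProduct.includeLeft_injective (R := k) (S := k) (A := K) (B := k')
      (algebraMap k k').injective).nontrivial
  obtain ⟨m, hm⟩ := Ideal.exists_maximal (K ⊗[k] k')
  letI : Field ((K ⊗[k] k') ⧸ m) := Ideal.Quotient.field m
  letI algK : Algebra K ((K ⊗[k] k') ⧸ m) :=
    ((Ideal.Quotient.mk m).comp
      (Algebra.TensorProduct.includeLeft : K →ₐ[k] K ⊗[k] k').toRingHom).toAlgebra
  letI algk' : Algebra k' ((K ⊗[k] k') ⧸ m) :=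
    ((Ideal.Quotient.mk m).comp
      (Algebra.TensorProduct.includeRight : k' →ₐ[k] K ⊗[k] k').toRingHom).toAlgebra
  refine ⟨(K ⊗[k] k') ⧸ m, inferInstance, inferInstance, algK, algk', ?_, ?_⟩
  · refine IsScalarTower.of_algebraMap_eq (fun r => ?_)
    show Ideal.Quotient.mk m (algebraMap k (K ⊗[k] k') r) =
      Ideal.Quotient.mk m ((algebraMap k K r) ⊗ₜ 1)
    rw [Algebra.TensorProduct.algebraMap_apply]
  · refine IsScalarTower.of_algebraMap_eq (fun r => ?_)
    show Ideal.Quotient.mk m (algebraMap k (K ⊗[k] k') r) =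
      Ideal.Quotient.mk m (1 ⊗ₜ (algebraMap k k' r))
    rw [Algebra.TensorProduct.algebraMap_apply, Algebra.TensorProduct.tmul_one_eq_one_tmul]

variable {k : Type u} [Field k]

/-- For a tower `k → K → Ω`, the morphism `Spec Ω → Spec K` of `k`-schemes. -/
noncomputable def fieldOverMap (k K Ω : Type u) [Field k] [Field K] [Field Ω] [Algebra k K]
    [Algebra k Ω] [Algebra K Ω] [IsScalarTower k K Ω] : fieldOver k Ω ⟶ fieldOver k K :=
  Over.homMk (Spec.map (CommRingCat.ofHom (algebraMap K Ω))) (by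
    show Spec.map (CommRingCat.ofHom (algebraMap K Ω)) ≫
      Spec.map (CommRingCat.ofHom (algebraMap k K)) = Spec.map (CommRingCat.ofHom (algebraMap k Ω))
    rw [← Spec.map_comp, ← CommRingCat.ofHom_comp, ← IsScalarTower.algebraMap_eq])

instance surjective_SpecMap_field (K Ω : Type u) [Field K] [Field Ω] (φ : K →+* Ω) :
    Surjective (Spec.map (CommRingCat.ofHom φ)) := by
  refine ⟨fun x => ?_⟩
  refine ⟨IsLocalRing.closedPoint Ω, Subsingleton.elim _ _⟩

/-- The map `X_Ω → X_K`. -/
noncomputable def bcTowerMap (X : Sp (Spec (CommRingCat.of k))) (K Ω : Type u) [Field K] [Field Ω]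
    [Algebra k K] [Algebra k Ω] [Algebra K Ω] [IsScalarTower k K Ω] :
    X ⨯ (yon (Spec (CommRingCat.of k))).obj (fieldOver k Ω) ⟶
      X ⨯ (yon (Spec (CommRingCat.of k))).obj (fieldOver k K) :=
  prod.map (𝟙 X) ((yon _).map (fieldOverMap k K Ω))

theorem isSurjectiveMor_bcTowerMap (X : Sp (Spec (CommRingCat.of k))) (K Ω : Type u) [Field K]
    [Field Ω] [Algebra k K] [Algebra k Ω] [Algebra K Ω] [IsScalarTower k K Ω] :
    IsSurjectiveMor (bcTowerMap X K Ω) := by
  apply isSurjectiveMor_of_repWith_surjective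
  refine (RepWith @Surjective).of_isPullback (isPullback_prod_id_map _ X).flip ?_
  rw [repWith_yon_map_iff]
  exact surjective_SpecMap_field K Ω (algebraMap K Ω)

end Groth.Agent.Helper16.AS
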