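import Groth.Agent.Lib.Helper16.Sch.BCTowerSch
import Groth.Agent.Lib.Helper16.AlgSp.BCTower

set_option autoImplicit false
universe u
open CategoryTheory CategoryTheory.Limits AlgebraicGeometry MorphismProperty Opposite
open AlgSp Groth.Agent.Helper15

namespace Groth.Agent.Helper16.AS
variable {S : Scheme.{u}}

/-- The base-changed chart is the pullback of the chart. -/
theorem isPullback_bcChart {X : Sp S} {U : Over S} (a : (yon S).obj U ⟶ X) (T : Over S) :
    IsPullback (bcChart a T) ((yon S).map prod.fst) prod.fst a := by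
  have h1 := isPullback_prod_map_id a ((yon S).obj T)
  have h2 : IsPullback (prodComparison (yon S) U T) ((yon S).map prod.fst) prod.fst
      (𝟙 ((yon S).obj U)) :=
    IsPullback.of_horiz_isIso ⟨by rw [prodComparison_fst, Category.comp_id]⟩
  have := h2.paste_horiz h1
  rw [Category.id_comp, ← bcChart_eq] at this
  exact this

/-- Points of the base-changed chart. -/
theorem exists_point_bcChart {X : Sp S} {U : Over S} (a : (yon S).obj U ⟶ X) (T : Over S)
    (x' : Points (X ⨯ (yon S).obj T)) (u : U.left)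
    (h : Points.ofPt a u = Points.map prod.fst x') :
    ∃ u'' : (U ⨯ T).left, Points.ofPt (bcChart a T) u'' = x' ∧
      (prod.fst : U ⨯ T ⟶ U).left u'' = u := by
  have sq := isPullback_bcChart a T
  have h' : Points.map prod.fst x' = Points.map a (Points.ofScheme U u) := by
    rw [← Points.ofPt_eq_map_ofScheme]; exact h.symm
  obtain ⟨p, hp1, hp2⟩ := exists_point_of_isPullback sq x' (Points.ofScheme U u) h'
  obtain ⟨u'', rfl⟩ := (Points.schemeEquiv (U ⨯ T)).surjective p
  change Points.map _ (Points.ofScheme _ u'') = _ at hp1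
  change Points.map _ (Points.ofScheme _ u'') = _ at hp2
  rw [← Points.ofPt_eq_map_ofScheme] at hp1
  rw [← Points.ofPt_eq_map_ofScheme, ofPt_yon_map] at hp2
  exact ⟨u'', hp1, (Points.schemeEquiv U).injective hp2⟩

end Groth.Agent.Helper16.AS

namespace Groth.Agent.Helper16.AS

variable {k : Type u} [Field k]

/-- (P3) Geometric reducedness of a chart and of its base change. -/
theorem isGeomReducedAt_prodField_iff (U : Over (Spec (CommRingCat.of k))) (K : Type u) [Field K]
    [Algebra k K] (u'' : (U ⨯ fieldOver k K).left) :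
    FBase.IsGeomReducedAt U.hom ((prod.fst : U ⨯ fieldOver k K ⟶ U).left u'') ↔
      FBase.IsGeomReducedAt (k := K) (prod.snd : U ⨯ fieldOver k K ⟶ fieldOver k K).left u'' := by
  let e := prodFieldIso U K
  have he1 : e.hom ≫ FBase.bcπ U.hom K = (prod.fst : U ⨯ fieldOver k K ⟶ U).left :=
    Over.prodLeftIsoPullback_hom_fst _ _
  have he2 : e.hom ≫ FBase.bcStr U.hom K = (prod.snd : U ⨯ fieldOver k K ⟶ fieldOver k K).left :=
    Over.prodLeftIsoPullback_hom_snd _ _
  have hpt : (FBase.bcπ U.hom K).base (e.hom.base u'') =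
      (prod.fst : U ⨯ fieldOver k K ⟶ U).left u'' := by
    have := congrArg (fun g : (U ⨯ fieldOver k K).left ⟶ U.left => g.base u'') he1
    simpa only [Scheme.Hom.comp_base, TopCat.comp_app] using this
  rw [Groth.Agent.Helper16.BCTowerSch.isGeomReducedAt_iff_bc U.hom K _ (e.hom.base u'') hpt]
  let g : Over.mk (prod.snd : U ⨯ fieldOver k K ⟶ fieldOver k K).left ⟶
      Over.mk (FBase.bcStr U.hom K) := Over.homMk e.hom he2
  haveI : Etale g.left := (inferInstance : Etale e.hom)
  exact (Groth.Agent.Helper16.GeomRedEt.isGeomReducedAt_iff_of_etale (k := K) g u'').symm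

/-- (P4) Two étale charts of `X_K` through the same point. -/
theorem isGeomReducedAt_charts_bc {X : Sp (Spec (CommRingCat.of k))} (K : Type u) [Field K]
    [Algebra k K] {U₁ U₂ : Over (Spec (CommRingCat.of k))}
    (a₁ : (yon _).obj U₁ ⟶ X ⨯ (yon _).obj (fieldOver k K))
    (a₂ : (yon _).obj U₂ ⟶ X ⨯ (yon _).obj (fieldOver k K))
    (q₁ : U₁ ⟶ fieldOver k K) (q₂ : U₂ ⟶ fieldOver k K)
    (h₁ : RepWith @Etale a₁) (h₂ : RepWith @Etale a₂)
    (c₁ : a₁ ≫ prod.snd = (yon _).map q₁) (c₂ : a₂ ≫ prod.snd = (yon _).map q₂)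
    (u₁ : U₁.left) (u₂ : U₂.left) (hu : Points.ofPt a₁ u₁ = Points.ofPt a₂ u₂)
    (hGR : FBase.IsGeomReducedAt (k := K) q₁.left u₁) :
    FBase.IsGeomReducedAt (k := K) q₂.left u₂ := by
  have sq := h₁.rep.isPullback' a₂
  have e2 : Etale (h₁.rep.snd a₂).left := h₁.property_snd a₂
  have e1 : Etale (h₁.rep.fst' a₂).left := h₂.property a₁ _ _ sq.flip
  obtain ⟨w, hw1, hw2⟩ := exists_of_ofPt_eq sq u₁ u₂ hu
  have compat : h₁.rep.fst' a₂ ≫ q₁ = h₁.rep.snd a₂ ≫ q₂ := by
    apply (yon _).map_injective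
    rw [Functor.map_comp, Functor.map_comp, ← c₁, ← c₂, ← Category.assoc, ← Category.assoc, sq.w]
  let WK : Over (Spec (CommRingCat.of K)) := Over.mk (h₁.rep.fst' a₂ ≫ q₁).left
  let g₁ : WK ⟶ Over.mk q₁.left := Over.homMk (h₁.rep.fst' a₂).left rfl
  let g₂ : WK ⟶ Over.mk q₂.left := Over.homMk (h₁.rep.snd a₂).left (by
    show (h₁.rep.snd a₂).left ≫ q₂.left = (h₁.rep.fst' a₂ ≫ q₁).left
    rw [compat]; rfl)
  haveI : Etale g₁.left := e1
  haveI : Etale g₂.left := e2
  have s1 := (Groth.Agent.Helper16.GeomRedEt.isGeomReducedAt_iff_of_etale (k := K) g₁ w).mpr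
    (by show FBase.IsGeomReducedAt (k := K) q₁.left ((h₁.rep.fst' a₂).left w); rw [hw1]; exact hGR)
  have s2 := (Groth.Agent.Helper16.GeomRedEt.isGeomReducedAt_iff_of_etale (k := K) g₂ w).mp s1
  have : g₂.left w = u₂ := hw2
  rw [this] at s2
  exact s2

/-- Geometric reducedness at a point of an algebraic space and of its base change. -/
theorem hasAtO_isGeomReducedAt_iff_bc (X : AlgSp.Space (Spec (CommRingCat.of k))) (K : Type u)
    [Field K] [Algebra k K] (x : Points X.obj)
    (x' : Points (X.obj ⨯ (yon (Spec (CommRingCat.of k))).obj (fieldOver k K)))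
    (hx' : Points.map (prod.fst : X.obj ⨯ (yon (Spec (CommRingCat.of k))).obj (fieldOver k K) ⟶
      X.obj) x' = x) :
    HasAtO (fun U u => FBase.IsGeomReducedAt U.hom u) X.obj x ↔
      ∃ (U' : Over (Spec (CommRingCat.of k)))
        (a' : (yon (Spec (CommRingCat.of k))).obj U' ⟶
          X.obj ⨯ (yon (Spec (CommRingCat.of k))).obj (fieldOver k K))
        (q : U' ⟶ fieldOver k K) (u' : ↥U'.left),
        RepWith @Etale a' ∧ a' ≫ prod.snd = (yon (Spec (CommRingCat.of k))).map q ∧
          Points.ofPt a' u' = x' ∧ FBase.IsGeomReducedAt (k := K) q.left u' := by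
  have hQ := etInvO_isGeomReducedAt (k := k)
  constructor
  · rintro ⟨U, a, u, hae, hu, hGR⟩
    obtain ⟨u'', hu1, hu2⟩ := exists_point_bcChart a (fieldOver k K) x' u (by rw [hu, hx'])
    refine ⟨U ⨯ fieldOver k K, bcChart a _, prod.snd, u'', repWith_bcChart _ a hae _,
      bcChart_snd a _, hu1, ?_⟩
    rw [← isGeomReducedAt_prodField_iff, hu2]
    exact hGR
  · rintro ⟨U', a', q, u', hae', hc, hu', hGR'⟩
    obtain ⟨U, a, hae, has⟩ := X.property.atlas
    obtain ⟨u, hu⟩ := surjective_ofPt a has x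
    obtain ⟨u'', hu1, hu2⟩ := exists_point_bcChart a (fieldOver k K) x' u (by rw [hu, hx'])
    have h1 := isGeomReducedAt_charts_bc K a' (bcChart a (fieldOver k K)) q prod.snd hae'
      (repWith_bcChart _ a hae _) hc (bcChart_snd a _) u' u'' (by rw [hu', hu1]) hGR'
    rw [← isGeomReducedAt_prodField_iff, hu2] at h1
    exact ⟨U, a, u, hae, hu, h1⟩

/-- `X_K → X` is surjective on points. -/
theorem surjective_map_fst_bc (X : AlgSp.Space (Spec (CommRingCat.of k))) (K : Type u)
    [Field K] [Algebra k K] :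
    Function.Surjective (Points.map (prod.fst :
      X.obj ⨯ (yon (Spec (CommRingCat.of k))).obj (fieldOver k K) ⟶ X.obj)) := by
  intro x
  obtain ⟨U, a, hae, has⟩ := X.property.atlas
  obtain ⟨u, hu⟩ := surjective_ofPt a has x
  -- a point of `U_K` over `u`
  have hs : Surjective (FBase.bcπ U.hom K) := by
    unfold FBase.bcπ
    exact MorphismProperty.pullback_fst _ _ (surjective_SpecMap_field k K (algebraMap k K))
  obtain ⟨y, hy⟩ := hs.surj u
  let u'' : (U ⨯ fieldOver k K).left := (prodFieldIso U K).inv.base y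
  have hu'' : (prod.fst : U ⨯ fieldOver k K ⟶ U).left u'' = u := by
    have e : (prodFieldIso U K).inv ≫ (prod.fst : U ⨯ fieldOver k K ⟶ U).left =
        FBase.bcπ U.hom K := Over.prodLeftIsoPullback_inv_fst _ _
    have := congrArg (fun g : FBase.bc U.hom K ⟶ U.left => g.base y) e
    simp only [Scheme.Hom.comp_base, TopCat.comp_app] at this
    exact this.trans hy
  refine ⟨Points.ofPt (bcChart a (fieldOver k K)) u'', ?_⟩
  rw [Points.map_ofPt, bcChart_fst, ofPt_comp_yon_map, hu'', hu]

end Groth.Agent.Helper16.AS
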