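import Groth.Agent.Lib.Helper16.Sch.GeomRedEt
import Groth.Agent.Lib.Helper15.AlgSpDimEt
import Groth.Agent.Lib.Helper15.AlgSpAtNbhd

set_option autoImplicit false
universe u
open CategoryTheory CategoryTheory.Limits AlgebraicGeometry MorphismProperty Opposite
open AlgSp Groth.Agent.Helper15

namespace Groth.Agent.Helper16.AS
variable {S : Scheme.{u}}

/-- A pointed-`S`-scheme property invariant under étale `S`-morphisms. -/
def EtInvO (Q : ∀ U : Over S, ↥U.left → Prop) : Prop :=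
  ∀ ⦃W U : Over S⦄ (g : W ⟶ U), Etale g.left → ∀ w : W.left, (Q W w ↔ Q U (g.left w))

/-- Existence of an étale chart through `x` with property `Q`. -/
def HasAtO (Q : ∀ U : Over S, ↥U.left → Prop) (X : Sp S) (x : Points X) : Prop :=
  ∃ (U : Over S) (a : (yon S).obj U ⟶ X) (u : ↥U.left),
    RepWith @Etale a ∧ Points.ofPt a u = x ∧ Q U u

theorem hasAtO_forall_chart {Q : ∀ U : Over S, ↥U.left → Prop} (hQ : EtInvO Q) {X : Sp S}
    (x : Points X) (h : HasAtO Q X x) (U : Over S) (a : (yon S).obj U ⟶ X) (u : U.left)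
    (ha : RepWith @Etale a) (hu : Points.ofPt a u = x) : Q U u := by
  obtain ⟨U₁, a₁, u₁, ha₁, hu₁, hQ₁⟩ := h
  have sq := ha₁.rep.isPullback' a
  have h1 : Etale (ha₁.rep.snd a).left := ha₁.property_snd a
  have h2 : Etale (ha₁.rep.fst' a).left := ha.property a₁ _ _ sq.flip
  obtain ⟨w, hw1, hw2⟩ := exists_of_ofPt_eq sq u₁ u (hu₁.trans hu.symm)
  have h3 := (hQ _ h2 w).2 (by rw [hw1]; exact hQ₁)
  have h4 := (hQ _ h1 w).1 h3
  rwa [hw2] at h4

theorem hasAtO_iff_forall_chart {Q : ∀ U : Over S, ↥U.left → Prop} (hQ : EtInvO Q) {X : Sp S}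
    (hX : IsAlgSpace X) (x : Points X) :
    HasAtO Q X x ↔ ∀ (U : Over S) (a : (yon S).obj U ⟶ X) (u : U.left),
      RepWith @Etale a → Points.ofPt a u = x → Q U u := by
  constructor
  · intro h U a u ha hu
    exact hasAtO_forall_chart hQ x h U a u ha hu
  · intro h
    obtain ⟨U, p, hpe, hps⟩ := hX.atlas
    obtain ⟨u, hu⟩ := surjective_ofPt p hps x
    exact ⟨U, p, u, hpe, hu, h U p u hpe hu⟩

/-- Transfer along a commutative square of charts whose scheme map is étale. -/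
theorem hasAtO_iff_of_chart_square {Q : ∀ U : Over S, ↥U.left → Prop} (hQ : EtInvO Q)
    {X Y : Sp S} (f : X ⟶ Y) {U V : Over S} (a : (yon S).obj U ⟶ X) (b : (yon S).obj V ⟶ Y)
    (h : U ⟶ V) (ha : RepWith @Etale a) (hb : RepWith @Etale b) (hh : Etale h.left)
    (comm : a ≫ f = (yon S).map h ≫ b) (u : U.left) :
    HasAtO Q X (Points.ofPt a u) ↔ HasAtO Q Y (Points.map f (Points.ofPt a u)) := by
  have hpt : Points.map f (Points.ofPt a u) = Points.ofPt b (h.left u) := by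
    rw [Points.map_ofPt, comm, ofPt_comp_yon_map]
  constructor
  · intro hx
    have h1 := hasAtO_forall_chart hQ _ hx U a u ha rfl
    exact ⟨V, b, h.left u, hb, hpt.symm, (hQ h hh u).1 h1⟩
  · intro hy
    have h1 := hasAtO_forall_chart hQ _ hy V b (h.left u) hb hpt.symm
    exact ⟨U, a, u, ha, rfl, (hQ h hh u).2 h1⟩

theorem hasAtO_iff_of_isEtaleMor {Q : ∀ U : Over S, ↥U.left → Prop} (hQ : EtInvO Q) {X Y : Sp S}
    (hX : IsAlgSpace X) (f : X ⟶ Y) (hf : IsEtaleMor f) (x : Points X) :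
    HasAtO Q X x ↔ HasAtO Q Y (Points.map f x) := by
  constructor
  · rintro ⟨U, a, u, ha, hu, hq⟩
    exact ⟨U, a ≫ f, u, hf a ha, by rw [← Points.map_ofPt, hu], hq⟩
  · rintro ⟨V, b, v, hb, hv, hq⟩
    obtain ⟨U, p, hpe, hps⟩ := hX.atlas
    obtain ⟨u, hu⟩ := surjective_ofPt p hps x
    have hpf : RepWith @Etale (p ≫ f) := hf p hpe
    have sq := hpf.rep.isPullback' b
    have h1 : Etale (hpf.rep.snd b).left := hpf.property_snd b
    have h2 : Etale (hpf.rep.fst' b).left := hb.property (p ≫ f) _ _ sq.flip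
    obtain ⟨w, hw1, hw2⟩ := exists_of_ofPt_eq sq u v (by rw [← Points.map_ofPt, hu, hv])
    refine ⟨_, (yon S).map (hpf.rep.fst' b) ≫ p, w,
      (RepWith @Etale).comp_mem _ _ ((repWith_yon_map_iff _ _).2 h2) hpe,
      by rw [ofPt_comp_yon_map, hw1, hu], ?_⟩
    exact (hQ _ h1 w).2 (by rw [hw2]; exact hq)

/-- Transfer at a point where the morphism is étale. -/
theorem hasAtO_iff_of_etaleAt {Q : ∀ U : Over S, ↥U.left → Prop} (hQ : EtInvO Q) {X Y : Sp S}
    (f : X ⟶ Y) (x : Points X)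
    (he : HasAtMor (fun U _ h u => ∃ W : U.Opens, u ∈ W ∧ Etale (W.ι ≫ h)) f x) :
    HasAtO Q X x ↔ HasAtO Q Y (Points.map f x) := by
  obtain ⟨U, V, a, b, h, u, hae, hbe, comm, hux, W, huW, hEt⟩ := he
  let U' : Over S := Over.mk (W.ι ≫ U.hom)
  let j₀ : U' ⟶ U := Over.homMk W.ι rfl
  have hj₀ : Etale j₀.left := (inferInstance : Etale W.ι)
  have ha' : RepWith @Etale ((yon S).map j₀ ≫ a) :=
    (RepWith @Etale).comp_mem _ _ ((repWith_yon_map_iff _ j₀).2 hj₀) hae
  have hh : Etale (j₀ ≫ h).left := hEt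
  have comm' : ((yon S).map j₀ ≫ a) ≫ f = (yon S).map (j₀ ≫ h) ≫ b := by
    rw [Category.assoc, comm, Functor.map_comp, Category.assoc]
  have hpt : Points.ofPt ((yon S).map j₀ ≫ a) (⟨u, huW⟩ : W) = x := by
    rw [ofPt_comp_yon_map]; exact hux
  have := hasAtO_iff_of_chart_square hQ f ((yon S).map j₀ ≫ a) b (j₀ ≫ h) ha' hbe hh comm'
    (⟨u, huW⟩ : W)
  rwa [hpt] at this

end Groth.Agent.Helper16.AS

namespace Groth.Agent.Helper16.AS

variable {k : Type u} [Field k]

theorem etInvO_isGeomReducedAt :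
    EtInvO (S := Spec (CommRingCat.of k)) (fun U u => FBase.IsGeomReducedAt U.hom u) := by
  intro W U g hg w
  haveI := hg
  exact Groth.Agent.Helper16.GeomRedEt.isGeomReducedAt_iff_of_etale g w

end Groth.Agent.Helper16.AS
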