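import Groth.Agent.Lib.Helper16.Sch.BCRed
import Groth.Agent.Lib.Helper16.AlgSp.GeomRedSp
import Groth.Agent.Lib.Helper16.AlgSp.RedSp
import Groth.Agent.Lib.Helper15.AlgSpDiag

set_option autoImplicit false
universe u
open CategoryTheory CategoryTheory.Limits AlgebraicGeometry MorphismProperty Opposite
open AlgSp Groth.Agent.Helper15

namespace Groth.Agent.Helper16.AS
variable {S : Scheme.{u}}

/-- The chart of `X × h_T` induced by a chart of `X`. -/
noncomputable def bcChart {X : Sp S} {U : Over S} (a : (yon S).obj U ⟶ X) (T : Over S) :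
    (yon S).obj (U ⨯ T) ⟶ X ⨯ (yon S).obj T :=
  prod.lift ((yon S).map prod.fst ≫ a) ((yon S).map prod.snd)

lemma bcChart_eq {X : Sp S} {U : Over S} (a : (yon S).obj U ⟶ X) (T : Over S) :
    bcChart a T = prodComparison (yon S) U T ≫ prod.map a (𝟙 _) := by
  unfold bcChart
  ext
  · rw [prod.lift_fst, Category.assoc, prod.map_fst, ← Category.assoc, prodComparison_fst]
  · rw [prod.lift_snd, Category.assoc, prod.map_snd, Category.comp_id, prodComparison_snd]

lemma bcChart_fst {X : Sp S} {U : Over S} (a : (yon S).obj U ⟶ X) (T : Over S) :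
    bcChart a T ≫ prod.fst = (yon S).map prod.fst ≫ a := prod.lift_fst _ _

lemma bcChart_snd {X : Sp S} {U : Over S} (a : (yon S).obj U ⟶ X) (T : Over S) :
    bcChart a T ≫ prod.snd = (yon S).map prod.snd := prod.lift_snd _ _

lemma repWith_bcChart (P : MorphismProperty Scheme.{u}) {X : Sp S} {U : Over S}
    (a : (yon S).obj U ⟶ X) (ha : RepWith P a) (T : Over S) : RepWith P (bcChart a T) := by
  rw [bcChart_eq, (RepWith P).cancel_left_of_respectsIso]
  exact (RepWith P).of_isPullback (isPullback_prod_map_id a _).flip ha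

end Groth.Agent.Helper16.AS

namespace Groth.Agent.Helper16.AS

variable {k : Type u} [Field k]

/-- `Spec K` as a `k`-scheme. -/
noncomputable abbrev fieldOver (k K : Type u) [Field k] [Field K] [Algebra k K] :
    Over (Spec (CommRingCat.of k)) :=
  Over.mk (Spec.map (CommRingCat.ofHom (algebraMap k K)))

/-- The underlying scheme of `U × Spec K` is the base change of `U`. -/
noncomputable def prodFieldIso (U : Over (Spec (CommRingCat.of k))) (K : Type u) [Field K]
    [Algebra k K] : (U ⨯ fieldOver k K).left ≅ FBase.bc U.hom K :=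
  Over.prodLeftIsoPullback U (fieldOver k K)

lemma isReduced_prodField_iff (U : Over (Spec (CommRingCat.of k))) (K : Type u) [Field K]
    [Algebra k K] : IsReduced (U ⨯ fieldOver k K).left ↔ IsReduced (FBase.bc U.hom K) :=
  ⟨fun _ => isReduced_of_isOpenImmersion (prodFieldIso U K).inv,
    fun _ => isReduced_of_isOpenImmersion (prodFieldIso U K).hom⟩

/-- The base change `X_K` of an algebraic space with atlas `U` is reduced iff `U_K` is. -/
theorem isReducedSp_bc_iff {X : Sp (Spec (CommRingCat.of k))} {U : Over (Spec (CommRingCat.of k))}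
    (a : (yon _).obj U ⟶ X) (hae : RepWith @Etale a) (has : RepWith @Surjective a)
    (K : Type u) [Field K] [Algebra k K] :
    IsReducedSp (X ⨯ (yon (Spec (CommRingCat.of k))).obj (fieldOver k K)) ↔
      IsReduced (FBase.bc U.hom K) := by
  rw [← isReduced_prodField_iff]
  constructor
  · intro h
    exact isReduced_of_etale_of_isReducedSp h (bcChart a (fieldOver k K))
      (repWith_bcChart _ a hae _)
  · intro h
    exact ⟨_, bcChart a (fieldOver k K), repWith_bcChart _ a hae _, repWith_bcChart _ a has _, h⟩

/-- All stalks of `U_K` over `u` reduced for all `K`, from reducedness of all `U_K`. -/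
lemma isGeomReducedAt_of_forall_isReduced_bc (U : Over (Spec (CommRingCat.of k)))
    (h : ∀ (K : Type u) [Field K] [Algebra k K], IsReduced (FBase.bc U.hom K)) (u : U.left) :
    FBase.IsGeomReducedAt U.hom u := by
  intro K _ _ x' _
  haveI := h K
  infer_instance

lemma isReduced_bc_of_forall_isGeomReducedAt (U : Over (Spec (CommRingCat.of k)))
    (h : ∀ u : U.left, FBase.IsGeomReducedAt U.hom u) (K : Type u) [Field K] [Algebra k K] :
    IsReduced (FBase.bc U.hom K) := by
  refine @isReduced_of_isReduced_stalk _ (fun x' => ?_)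
  exact h _ K x' rfl

/-- Geometric reducedness of an algebraic space over a field in terms of its base changes. -/
theorem forall_hasAtO_isGeomReducedAt_iff (X : AlgSp.Space (Spec (CommRingCat.of k))) :
    (∀ x : Points X.obj, HasAtO (fun U u => FBase.IsGeomReducedAt U.hom u) X.obj x) ↔
      ∀ (K : Type u) [Field K] [Algebra k K],
        IsReducedSp (X.obj ⨯ (yon (Spec (CommRingCat.of k))).obj (fieldOver k K)) := by
  have hQ := etInvO_isGeomReducedAt (k := k)
  obtain ⟨U, a, hae, has⟩ := X.property.atlas
  constructor
  · intro h K _ _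
    rw [isReducedSp_bc_iff a hae has K]
    apply isReduced_bc_of_forall_isGeomReducedAt
    intro u
    exact hasAtO_forall_chart hQ _ (h (Points.ofPt a u)) U a u hae rfl
  · intro h x
    obtain ⟨u, hu⟩ := surjective_ofPt a has x
    refine ⟨U, a, u, hae, hu, ?_⟩
    apply isGeomReducedAt_of_forall_isReduced_bc
    intro K _ _
    exact (isReducedSp_bc_iff a hae has K).mp (h K)

end Groth.Agent.Helper16.AS
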