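import Groth.Agent.Lib.Helper16.AlgSp.ProperSp
import Groth.Agent.Lib.Helper16.AlgSp.LargestOpen
import Groth.Agent.Lib.Helper16.Sch.EffC
import Groth.Prelude.Def_AlgSpSub

set_option autoImplicit false
universe u
open CategoryTheory CategoryTheory.Limits AlgebraicGeometry MorphismProperty
open AlgSp Groth.Agent.Helper15

namespace Groth.Agent.Helper16.AS

variable {S : Scheme.{u}}

/-- The closed subscheme of an ideal sheaf as an object over `S`. -/
noncomputable abbrev subOver {V : Over S} (I : V.left.IdealSheafData) : Over S :=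
  Over.mk (I.subschemeι ≫ V.hom)

/-- The inclusion of the closed subscheme of an ideal sheaf, over `S`. -/
noncomputable abbrev subOverι {V : Over S} (I : V.left.IdealSheafData) : subOver I ⟶ V :=
  Over.homMk I.subschemeι rfl

/-- The closed subscheme of the inverse image ideal is the pullback, over `S` and after `yon`. -/
theorem exists_isPullback_yon_comap {U V : Over S} (h : U ⟶ V) (I : V.left.IdealSheafData) :
    ∃ k : subOver (I.comap h.left) ⟶ subOver I,
      IsPullback ((yon S).map k) ((yon S).map (subOverι (I.comap h.left)))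
        ((yon S).map (subOverι I)) ((yon S).map h) := by
  let e := I.comapIso h.left
  have hfst : e.hom ≫ pullback.fst h.left I.subschemeι = (I.comap h.left).subschemeι :=
    Scheme.IdealSheafData.comapIso_hom_fst I h.left
  have sqSch : IsPullback (e.hom ≫ pullback.snd h.left I.subschemeι)
      (I.comap h.left).subschemeι I.subschemeι h.left := by
    refine (IsPullback.of_iso_pullback ⟨?_⟩ e hfst rfl).flip
    rw [← hfst, Category.assoc, Category.assoc, pullback.condition]
  let k : subOver (I.comap h.left) ⟶ subOver I :=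
    Over.homMk (e.hom ≫ pullback.snd h.left I.subschemeι) (by
      change (e.hom ≫ pullback.snd h.left I.subschemeι) ≫ I.subschemeι ≫ V.hom =
        (I.comap h.left).subschemeι ≫ U.hom
      rw [← Over.w h, ← Category.assoc, ← Category.assoc, sqSch.w])
  refine ⟨k, ?_⟩
  have sqOver : IsPullback k (subOverι (I.comap h.left)) (subOverι I) h := by
    refine IsPullback.of_map (Over.forget S) ?_ sqSch
    ext
    exact sqSch.w
  exact sqOver.map (yon S)

/-- The inverse image of an effective Cartier divisor under a flat morphism of algebraic spaces is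
an effective Cartier divisor. -/
theorem isEffCartierSub_of_isPullback_flat {X Y D P : Sp S} (hX : IsAlgSpace X)
    (hY : IsAlgSpace Y) (f : X ⟶ Y) (hf : LocP @Flat f) (i : D ⟶ Y) (hD : IsEffCartierSub i)
    (fst : P ⟶ D) (snd : P ⟶ X) (hP : IsPullback fst snd i f) : IsEffCartierSub snd := by
  obtain ⟨hi, V, φ, I, fst₀, hφe, hφs, sq₀, hI⟩ := hD
  refine ⟨(RepWith _).of_isPullback hP hi, ?_⟩
  have hX' : IsAlgSpace (pullback f φ) := isAlgSpace_pullback hX hY (IsAlgSpace.yon_obj V) f φ
  obtain ⟨U, a', ha'e, ha's⟩ := hX'.atlas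
  obtain ⟨h, hh⟩ := (yon S).map_surjective (a' ≫ pullback.snd f φ)
  have hψe : RepWith @Etale (a' ≫ pullback.fst f φ) :=
    (RepWith @Etale).comp_mem _ _ ha'e
      ((RepWith @Etale).of_isPullback (IsPullback.of_hasPullback f φ).flip hφe)
  have hψs : RepWith @Surjective (a' ≫ pullback.fst f φ) :=
    (RepWith @Surjective).comp_mem _ _ ha's
      ((RepWith @Surjective).of_isPullback (IsPullback.of_hasPullback f φ).flip hφs)
  have comm : (a' ≫ pullback.fst f φ) ≫ f = (yon S).map h ≫ φ := by
    rw [hh, Category.assoc, Category.assoc, pullback.condition]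
  have hflat : Flat h.left := hf _ φ h hψe hφe comm
  obtain ⟨k, sqk⟩ := exists_isPullback_yon_comap h I
  have big : IsPullback ((yon S).map k ≫ fst₀) ((yon S).map (subOverι (I.comap h.left))) i
      ((yon S).map h ≫ φ) := sqk.paste_horiz sq₀
  have hw : ((yon S).map k ≫ fst₀) ≫ i =
      ((yon S).map (subOverι (I.comap h.left)) ≫ a' ≫ pullback.fst f φ) ≫ f := by
    rw [Category.assoc _ _ f, comm]
    exact big.w
  refine ⟨U, a' ≫ pullback.fst f φ, I.comap h.left, hP.lift _ _ hw, hψe, hψs, ?_,
    Groth.Agent.Helper16.EffC.isEffCartierIdeal_comap_of_flat h.left I hI⟩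
  refine IsPullback.of_right ?_ (hP.lift_snd _ _ hw) hP
  rw [hP.lift_fst, comm]
  exact big

end Groth.Agent.Helper16.AS
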