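import Groth.Agent.Lib.Helper15.AlgSpDimEt
import Groth.Agent.Lib.Helper15.AlgSpField
import Groth.Agent.Lib.Helper9.TopDim
import Groth.Agent.S9683

set_option autoImplicit false
universe u
open CategoryTheory CategoryTheory.Limits AlgebraicGeometry MorphismProperty Opposite
open AlgSp

namespace Groth.Agent.Helper16.AS
open Groth.Agent.Helper15

variable {S : Scheme.{u}}

theorem dim_le_of_isIntegralMor {X Y : Sp S} (hY : IsAlgSpace Y) (f : X ⟶ Y)
    (hf : IsIntegralMor f) : dim X ≤ dim Y := by
  refine iSup_le (fun U => iSup_le (fun a => iSup_le (fun ha => ?_)))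
  rw [Groth.Agent.Helper9.TopDim.dim_eq_iSup_localDim]
  refine iSup_le (fun u => ?_)
  obtain ⟨V, hV, b, v, hb, hv⟩ := exists_affine_etale_nbhd hY (Points.map f (Points.ofPt a u))
  obtain ⟨W, i, fst, sqW, hW, hi⟩ := hf hV b
  have hrep : Representable (a ≫ f) := hY.representable_from_yon _
  have sq := hrep.isPullback' b
  obtain ⟨p, hp1, hp2⟩ := exists_of_ofPt_eq sq u v (by rw [← Points.map_ofPt]; exact hv.symm)
  haveI h2 : Etale (hrep.fst' b).left := hb.property (a ≫ f) _ _ sq.flip
  let l := sqW.lift ((yon S).map (hrep.fst' b) ≫ a) ((yon S).map (hrep.snd b))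
    (by rw [Category.assoc]; exact sq.w)
  obtain ⟨l₀, hl₀⟩ := (yon S).map_surjective l
  have sqL : IsPullback ((yon S).map l₀) ((yon S).map (hrep.fst' b)) fst a := by
    refine IsPullback.of_right ?_ ?_ sqW.flip
    · rw [hl₀, sqW.lift_snd]; exact sq.flip
    · rw [hl₀]; exact sqW.lift_fst _ _ _
  haveI h3 : Etale l₀.left := ha.property fst _ _ sqL.flip
  haveI : LocallyQuasiFinite l₀.left := locallyQuasiFinite_of_etale l₀.left
  haveI := hi
  calc FlatMor.localDim U.left u = FlatMor.localDim _ p := by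
        rw [← hp1]; exact (localDim_eq_of_etale (hrep.fst' b).left p).symm
    _ ≤ topologicalKrullDim _ := Groth.Agent.Helper9.TopDim.localDim_le_dim p
    _ ≤ topologicalKrullDim W.left := topologicalKrullDim_le_of_lqf l₀.left
    _ ≤ topologicalKrullDim V.left := (Groth.Agent.S9683.result i.left).1
    _ ≤ dim Y := le_iSup_of_le V (le_iSup_of_le b (le_iSup_of_le hb le_rfl))

theorem dim_le_of_isIntegralMor_of_isSurjectiveMor {X Y : Sp S} (f : X ⟶ Y)
    (hf : IsIntegralMor f) (hs : IsSurjectiveMor f) : dim Y ≤ dim X := by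
  refine iSup_le (fun V => iSup_le (fun b => iSup_le (fun hb => ?_)))
  rw [Groth.Agent.Helper9.TopDim.dim_eq_iSup_localDim]
  refine iSup_le (fun v => ?_)
  obtain ⟨_, ⟨O, hO, rfl⟩, hvO, -⟩ :=
    (V.left.isBasis_affineOpens).exists_subset_of_mem_open (Set.mem_univ v) isOpen_univ
  let O' : V.left.Opens := O
  let T : Over S := Over.mk (O'.ι ≫ V.hom)
  let j : T ⟶ V := Over.homMk O'.ι rfl
  have hj : Etale j.left := (inferInstance : Etale O'.ι)
  have hbj : RepWith @Etale ((yon S).map j ≫ b) :=
    (RepWith @Etale).comp_mem _ _ ((repWith_yon_map_iff _ j).2 hj) hb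
  have hT : IsAffine T.left := hO
  obtain ⟨W, i, fst, sqW, hW, hi⟩ := hf hT ((yon S).map j ≫ b)
  have hfst : RepWith @Etale fst := (RepWith @Etale).of_isPullback sqW.flip hbj
  have hsi : IsSurjectiveMor ((yon S).map i) := isSurjectiveMor_of_isPullback sqW hs
  have hsi' : RepWith @Surjective ((yon S).map i) :=
    repWith_surjective_of_isSurjectiveMor _ (representable_yon_map i) hsi
  haveI : Surjective i.left := (repWith_yon_map_iff _ i).1 hsi'
  haveI := hi
  calc FlatMor.localDim V.left v ≤ topologicalKrullDim (O' : Set V.left) :=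
        Groth.Agent.Helper9.TopDim.localDim_le_of_mem O' v hvO
    _ = topologicalKrullDim T.left := rfl
    _ = topologicalKrullDim W.left := ((Groth.Agent.S9683.result i.left).2 inferInstance).symm
    _ ≤ dim X := le_iSup_of_le W (le_iSup_of_le fst (le_iSup_of_le hfst le_rfl))

end Groth.Agent.Helper16.AS
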