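import Groth.Prelude.Def_AlgSpMor5

set_option autoImplicit false
universe u
open CategoryTheory CategoryTheory.Limits AlgebraicGeometry MorphismProperty Opposite
open AlgSp

namespace Groth.Agent.Helper16.AS

theorem pair_mem_etalePrecoverage {U Y : Scheme.{u}} (g : U ⟶ Y) (hg : Etale g) :
    Presieve.ofArrows (fun b : Bool => cond b U Y)
      (fun b : Bool => match b with | true => g | false => 𝟙 Y) ∈ Scheme.etalePrecoverage Y := by
  rw [Scheme.etalePrecoverage, Scheme.ofArrows_mem_precoverage_iff]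
  refine ⟨fun x => ⟨false, x, rfl⟩, fun b => ?_⟩
  cases b
  · exact (inferInstance : Etale (𝟙 Y))
  · exact hg

theorem of_isPullback_etale {P : MorphismProperty Scheme.{u}}
    [P.IsLocalAtTarget Scheme.etalePrecoverage] {X Y U X' : Scheme.{u}} {f : X ⟶ Y} {g : U ⟶ Y}
    (hg : Etale g) {fst : X' ⟶ X} {snd : X' ⟶ U} (h : IsPullback fst snd f g) (hf : P f) :
    P snd := by
  have : HasPullback f g := h.hasPullback
  rw [← P.cancel_left_of_respectsIso h.isoPullback.inv, h.isoPullback_inv_snd]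
  exact IsLocalAtTarget.pullbackSnd (pair_mem_etalePrecoverage g hg)
    (Presieve.ofArrows.mk (ι := Bool) true) hf

theorem of_isPullback_etale_surjective {P : MorphismProperty Scheme.{u}}
    [P.IsLocalAtTarget Scheme.etalePrecoverage] {X Y U X' : Scheme.{u}} {f : X ⟶ Y} {g : U ⟶ Y}
    (hg : Etale g) (hs : Surjective g) {fst : X' ⟶ X} {snd : X' ⟶ U}
    (h : IsPullback fst snd f g) (hsnd : P snd) : P f := by
  have hR : Presieve.singleton g ∈ Scheme.etalePrecoverage Y := by
    rw [Scheme.etalePrecoverage, Scheme.singleton_mem_precoverage_iff]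
    exact ⟨hs.surj, hg⟩
  refine IsLocalAtTarget.of_forall_pullbackSnd hR ?_
  rintro _ _ _ ⟨⟩
  rw [← P.cancel_left_of_respectsIso h.isoPullback.hom, h.isoPullback_hom_snd]
  exact hsnd

variable {S : Scheme.{u}}

/-- Two represented pullbacks of `f` along the same map have isomorphic projections. -/
theorem exists_iso_of_isPullback_yon {F G : Sp S} {f : F ⟶ G} {V W₁ W₂ : Over S}
    {c : (yon S).obj V ⟶ G}
    {fst₁ : (yon S).obj W₁ ⟶ F} {snd₁ : W₁ ⟶ V} {fst₂ : (yon S).obj W₂ ⟶ F} {snd₂ : W₂ ⟶ V}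
    (h₁ : IsPullback fst₁ ((yon S).map snd₁) f c) (h₂ : IsPullback fst₂ ((yon S).map snd₂) f c) :
    ∃ ε : W₁ ≅ W₂, ε.hom ≫ snd₂ = snd₁ := by
  let e := h₁.isoIsPullback _ _ h₂
  have he2 : e.hom ≫ (yon S).map snd₂ = (yon S).map snd₁ := h₁.isoIsPullback_hom_snd _ _ h₂
  let ε : W₁ ≅ W₂ := (yon S).preimageIso e
  refine ⟨ε, (yon S).map_injective ?_⟩
  rw [Functor.map_comp]
  simpa [ε] using he2

theorem repLocT_of_chart {P : MorphismProperty Scheme.{u}}
    [P.IsLocalAtTarget Scheme.etalePrecoverage] {F G : Sp S} (f : F ⟶ G)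
    (hf : AlgSp.Representable f) {V W : Over S} (b : (yon S).obj V ⟶ G)
    (hb1 : RepWith @Etale b) (hb2 : RepWith @Surjective b)
    (fst : (yon S).obj W ⟶ F) (snd : W ⟶ V)
    (sq : IsPullback fst ((yon S).map snd) f b) (hP : P snd.left) : RepLocT P f := by
  refine ⟨hf, fun V' W' b' fst' snd' hb' sq' => ?_⟩
  have hrep := hb1.1
  have sq1 := hrep.isPullback b'
  obtain ⟨q, hq⟩ := (yon S).map_surjective (hrep.fst b')
  rw [← hq] at sq1
  have hpe : Etale (hrep.snd b').left := hb1.2 b' _ _ sq1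
  have hps : Surjective (hrep.snd b').left := hb2.2 b' _ _ sq1
  have hqe : Etale q.left := hb'.2 b _ _ sq1.flip
  -- first pullback
  have sqA := ((IsPullback.of_hasPullback snd q).map (yon S)).paste_horiz sq
  have sqB := ((IsPullback.of_hasPullback snd' (hrep.snd b')).map (yon S)).paste_horiz sq'
  rw [← sq1.w] at sqB
  obtain ⟨ε, hε⟩ := exists_iso_of_isPullback_yon sqA sqB
  have h1 : P (pullback.snd snd q).left :=
    of_isPullback_etale hqe ((IsPullback.of_hasPullback snd q).map (Over.forget S)) hP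
  have h2 : P (pullback.snd snd' (hrep.snd b')).left := by
    have : (pullback.snd snd q).left = ε.hom.left ≫ (pullback.snd snd' (hrep.snd b')).left := by
      rw [← hε]; rfl
    rw [this] at h1
    haveI : IsIso ε.hom.left := inferInstanceAs (IsIso ((Over.forget S).map ε.hom))
    exact (P.cancel_left_of_respectsIso _ _).1 h1
  exact of_isPullback_etale_surjective hpe hps
    ((IsPullback.of_hasPullback snd' (hrep.snd b')).map (Over.forget S)) h2

end Groth.Agent.Helper16.AS
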