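import Groth.Agent.Lib.Helper16.AlgSp.FibNoeth2
import Groth.Agent.Lib.Helper16.AlgSp.RedSp
import Groth.Agent.Lib.Helper16.AlgSp.LocPEngine
import Groth.Agent.Lib.Helper16.AlgSp.FlatSp
import Groth.Agent.Lib.Helper16.Sch.FibFlatSch3

set_option autoImplicit false
set_option linter.style.haveILetI false
universe u
open CategoryTheory CategoryTheory.Limits AlgebraicGeometry MorphismProperty
open AlgSp Groth.Agent.Helper15

namespace Groth.Agent.Helper16.AS

variable {S : Scheme.{u}}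

/-- the chart of a fibre induced by a chart of the base change to an atlas of the base -/
theorem repWith_etale_fibre_chart {Y Z YW Yz : Sp S} (h : Y ⟶ Z) {W₀ V₀ T VT : Over S}
    (qW : (yon S).obj W₀ ⟶ Z) {prY : YW ⟶ Y} {prW : YW ⟶ (yon S).obj W₀}
    (sqYW : IsPullback prY prW h qW) (r : (yon S).obj V₀ ⟶ YW) (hr : RepWith @Etale r)
    (b₀ : V₀ ⟶ W₀) (hb₀ : (yon S).map b₀ = r ≫ prW) (w : T ⟶ W₀) {pV : VT ⟶ V₀} {qV : VT ⟶ T}
    (sqV : IsPullback pV qV b₀ w) {pY : Yz ⟶ Y} {qY : Yz ⟶ (yon S).obj T}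
    (sqY : IsPullback pY qY h ((yon S).map w ≫ qW)) (α : (yon S).obj VT ⟶ Yz)
    (hα₁ : α ≫ pY = (yon S).map pV ≫ r ≫ prY) (hα₂ : α ≫ qY = (yon S).map qV) :
    RepWith @Etale α := by
  let β : Yz ⟶ YW := sqYW.lift pY (qY ≫ (yon S).map w) (by rw [sqY.w, Category.assoc])
  have hβ₁ : β ≫ prY = pY := sqYW.lift_fst _ _ _
  have hβ₂ : β ≫ prW = qY ≫ (yon S).map w := sqYW.lift_snd _ _ _
  have sqR : IsPullback qY β ((yon S).map w) prW := by
    refine IsPullback.of_bot ?_ hβ₂.symm sqYW.flip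
    rw [hβ₁]
    exact sqY.flip
  have hαβ : α ≫ β = (yon S).map pV ≫ r := by
    apply sqYW.hom_ext
    · rw [Category.assoc, hβ₁, hα₁, Category.assoc]
    · rw [Category.assoc, hβ₂, ← Category.assoc, hα₂, Category.assoc, ← hb₀, ← Functor.map_comp,
        ← Functor.map_comp, sqV.w]
  have sqL : IsPullback α ((yon S).map pV) β r := by
    refine IsPullback.of_right ?_ hαβ sqR
    rw [hα₂, ← hb₀]
    exact (sqV.map (yon S)).flip
  exact (RepWith @Etale).of_isPullback sqL.flip hr

theorem isSurjectiveMor_comp_repWith' {A B C : Sp S} (f : A ⟶ B) (g : B ⟶ C)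
    (hf : RepWith @Surjective f) (hg : IsSurjectiveMor g) : IsSurjectiveMor (f ≫ g) := by
  intro z
  obtain ⟨y, hy⟩ := hg z
  obtain ⟨x, hx⟩ := isSurjectiveMor_of_repWith_surjective f hf y
  exact ⟨x, by rw [Points.map_comp, hx, hy]⟩

open Groth.Agent.Helper16.FibFlatSch in
/-- fibrewise criterion of flatness for locally Noetherian algebraic spaces -/
theorem locP_flat_of_flat_fibres {X Y Z : Sp S} (hXa : IsAlgSpace X) (hYa : IsAlgSpace Y)
    (hZa : IsAlgSpace Z) (f : X ⟶ Y) (h : Y ⟶ Z)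
    (hX : IsLocNoethSp X) (hYn : IsLocNoethSp Y) (hZ : IsLocNoethSp Z)
    (hfl : LocP @Flat (f ≫ h))
    (hfib : ∀ (K : Type u) [Field K] (sK : Spec (CommRingCat.of K) ⟶ S)
      (z : (yon S).obj (Over.mk sK) ⟶ Z) (Xz Yz : Sp S)
      (pX : Xz ⟶ X) (qX : Xz ⟶ (yon S).obj (Over.mk sK))
      (pY : Yz ⟶ Y) (qY : Yz ⟶ (yon S).obj (Over.mk sK)) (fz : Xz ⟶ Yz),
      IsPullback pX qX (f ≫ h) z → IsPullback pY qY h z → fz ≫ pY = pX ≫ f → fz ≫ qY = qX →
      LocP @Flat fz) :
    LocP @Flat f ∧ (IsSurjectiveMor f → LocP @Flat h) := by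
  obtain ⟨W₀, qW, hqWe, hqWs⟩ := hZa.atlas
  -- base changes to the atlas of `Z`
  have hYWa : IsAlgSpace (pullback h qW) :=
    isAlgSpace_pullback hYa hZa (IsAlgSpace.yon_obj W₀) h qW
  have hXWa : IsAlgSpace (pullback (f ≫ h) qW) :=
    isAlgSpace_pullback hXa hZa (IsAlgSpace.yon_obj W₀) (f ≫ h) qW
  let fW : pullback (f ≫ h) qW ⟶ pullback h qW :=
    pullback.lift (pullback.fst _ _ ≫ f) (pullback.snd _ _)
      (by rw [Category.assoc, pullback.condition])
  have hfW₁ : fW ≫ pullback.fst h qW = pullback.fst (f ≫ h) qW ≫ f := pullback.lift_fst _ _ _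
  have hfW₂ : fW ≫ pullback.snd h qW = pullback.snd (f ≫ h) qW := pullback.lift_snd _ _ _
  -- `XW = X ×_Y YW`
  have sqP1 : IsPullback (pullback.fst (f ≫ h) qW) fW f (pullback.fst h qW) := by
    refine IsPullback.of_bot ?_ hfW₁.symm (IsPullback.of_hasPullback h qW)
    rw [hfW₂]
    exact IsPullback.of_hasPullback (f ≫ h) qW
  obtain ⟨V₀, rV, hrVe, hrVs⟩ := hYWa.atlas
  obtain ⟨b₀, hb₀⟩ := (yon S).map_surjective (rV ≫ pullback.snd h qW)
  have hXWVa : IsAlgSpace (pullback fW rV) :=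
    isAlgSpace_pullback hXWa hYWa (IsAlgSpace.yon_obj V₀) fW rV
  obtain ⟨U₀, rU, hrUe, hrUs⟩ := hXWVa.atlas
  obtain ⟨a₀, ha₀⟩ := (yon S).map_surjective (rU ≫ pullback.snd fW rV)
  -- the étale charts
  have hprYe : RepWith @Etale (pullback.fst h qW) :=
    (RepWith @Etale).of_isPullback (IsPullback.of_hasPullback h qW).flip hqWe
  have hprYs : RepWith @Surjective (pullback.fst h qW) :=
    (RepWith @Surjective).of_isPullback (IsPullback.of_hasPullback h qW).flip hqWs
  have hprXe : RepWith @Etale (pullback.fst (f ≫ h) qW) :=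
    (RepWith @Etale).of_isPullback (IsPullback.of_hasPullback (f ≫ h) qW).flip hqWe
  have hqVe : RepWith @Etale (rV ≫ pullback.fst h qW) :=
    (RepWith @Etale).comp_mem _ _ hrVe hprYe
  have hqVs : RepWith @Surjective (rV ≫ pullback.fst h qW) :=
    (RepWith @Surjective).comp_mem _ _ hrVs hprYs
  have hfstXWVe : RepWith @Etale (pullback.fst fW rV) :=
    (RepWith @Etale).of_isPullback (IsPullback.of_hasPullback fW rV).flip hrVe
  have hρe : RepWith @Etale (rU ≫ pullback.fst fW rV) :=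
    (RepWith @Etale).comp_mem _ _ hrUe hfstXWVe
  have hqUe : RepWith @Etale ((rU ≫ pullback.fst fW rV) ≫ pullback.fst (f ≫ h) qW) :=
    (RepWith @Etale).comp_mem _ _ hρe hprXe
  -- locally Noetherian
  haveI nW : IsLocallyNoetherian W₀.left := isLocallyNoetherian_of_etale_of_isLocNoethSp hZ qW hqWe
  haveI nV : IsLocallyNoetherian V₀.left :=
    isLocallyNoetherian_of_etale_of_isLocNoethSp hYn _ hqVe
  haveI nU : IsLocallyNoetherian U₀.left :=
    isLocallyNoetherian_of_etale_of_isLocNoethSp hX _ hqUe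
  -- the composite is flat
  have hρW : (rU ≫ pullback.fst fW rV) ≫ pullback.snd (f ≫ h) qW = (yon S).map (a₀ ≫ b₀) := by
    rw [Functor.map_comp, ha₀, hb₀, ← hfW₂, Category.assoc, ← Category.assoc _ fW,
      pullback.condition]
    simp only [Category.assoc]
  have hflat : Flat (a₀ ≫ b₀).left := by
    refine hfl _ qW (a₀ ≫ b₀) hqUe hqWe ?_
    rw [Category.assoc, pullback.condition, ← Category.assoc, hρW]
  -- `XWV = X ×_Y V₀`
  have sqP2 : IsPullback (pullback.fst fW rV ≫ pullback.fst (f ≫ h) qW) (pullback.snd fW rV) f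
      (rV ≫ pullback.fst h qW) :=
    ((IsPullback.of_hasPullback fW rV).flip.paste_vert sqP1.flip).flip
  -- fibrewise flatness of the charts
  have hFib : FibFlat a₀.left b₀.left := by
    intro K _ w Uw Vw pU qU pV qV aw sqU sqV e1 e2
    let T : Over S := Over.mk (w ≫ W₀.hom)
    let wO : T ⟶ W₀ := Over.homMk w rfl
    let VT : Over S := Over.mk (qV ≫ w ≫ W₀.hom)
    let UT : Over S := Over.mk (qU ≫ w ≫ W₀.hom)
    let pVO : VT ⟶ V₀ := Over.homMk pV (by
      change pV ≫ V₀.hom = qV ≫ w ≫ W₀.hom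
      rw [← Over.w b₀, ← Category.assoc, sqV.w, Category.assoc])
    let qVO : VT ⟶ T := Over.homMk qV rfl
    let pUO : UT ⟶ U₀ := Over.homMk pU (by
      change pU ≫ U₀.hom = qU ≫ w ≫ W₀.hom
      rw [← Over.w (a₀ ≫ b₀), ← Category.assoc]
      change (pU ≫ a₀.left ≫ b₀.left) ≫ W₀.hom = _
      rw [sqU.w, Category.assoc])
    let qUO : UT ⟶ T := Over.homMk qU rfl
    let awO : UT ⟶ VT := Over.homMk aw (by
      change aw ≫ qV ≫ w ≫ W₀.hom = qU ≫ w ≫ W₀.hom
      rw [← Category.assoc, e2])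
    have sqVO : IsPullback pVO qVO b₀ wO := by
      refine IsPullback.of_map (Over.forget S) ?_ sqV
      ext
      exact sqV.w
    have sqUO : IsPullback pUO qUO (a₀ ≫ b₀) wO := by
      refine IsPullback.of_map (Over.forget S) ?_ sqU
      ext
      exact sqU.w
    have e1O : awO ≫ pVO = pUO ≫ a₀ := by
      ext
      exact e1
    have e2O : awO ≫ qVO = qUO := by
      ext
      exact e2
    let z : (yon S).obj T ⟶ Z := (yon S).map wO ≫ qW
    let fz : pullback (f ≫ h) z ⟶ pullback h z :=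
      pullback.lift (pullback.fst _ _ ≫ f) (pullback.snd _ _)
        (by rw [Category.assoc, pullback.condition])
    have hfz : LocP @Flat fz := hfib K (w ≫ W₀.hom) z _ _ _ _ _ _ fz
      (IsPullback.of_hasPullback _ _) (IsPullback.of_hasPullback _ _)
      (pullback.lift_fst _ _ _) (pullback.lift_snd _ _ _)
    have cV : ((yon S).map pVO ≫ rV ≫ pullback.fst h qW) ≫ h = (yon S).map qVO ≫ z := by
      simp only [Category.assoc, z]
      rw [pullback.condition, ← Category.assoc rV, ← hb₀, ← Functor.map_comp_assoc, sqVO.w,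
        Functor.map_comp_assoc]
    let αV : (yon S).obj VT ⟶ pullback h z := pullback.lift _ _ cV
    have hαVe : RepWith @Etale αV :=
      repWith_etale_fibre_chart h qW (IsPullback.of_hasPullback h qW) rV hrVe b₀ hb₀ wO sqVO
        (IsPullback.of_hasPullback h z) αV (pullback.lift_fst _ _ _) (pullback.lift_snd _ _ _)
    have cU : ((yon S).map pUO ≫ (rU ≫ pullback.fst fW rV) ≫ pullback.fst (f ≫ h) qW) ≫ (f ≫ h) =
        (yon S).map qUO ≫ z := by
      simp only [Category.assoc, z]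
      rw [pullback.condition]
      have hρW' : rU ≫ pullback.fst fW rV ≫ pullback.snd (f ≫ h) qW ≫ qW =
          (yon S).map (a₀ ≫ b₀) ≫ qW := by
        rw [← hρW]
        simp only [Category.assoc]
      rw [hρW', ← Functor.map_comp_assoc, sqUO.w, Functor.map_comp_assoc]
    let αU : (yon S).obj UT ⟶ pullback (f ≫ h) z := pullback.lift _ _ cU
    have hαUe : RepWith @Etale αU :=
      repWith_etale_fibre_chart (f ≫ h) qW (IsPullback.of_hasPullback (f ≫ h) qW)
        (rU ≫ pullback.fst fW rV) hρe (a₀ ≫ b₀) hρW.symm wO sqUO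
        (IsPullback.of_hasPullback (f ≫ h) z) αU (pullback.lift_fst _ _ _)
        (pullback.lift_snd _ _ _)
    have comm : αU ≫ fz = (yon S).map awO ≫ αV := by
      apply pullback.hom_ext
      · simp only [Category.assoc, fz, αU, αV, pullback.lift_fst, pullback.lift_fst_assoc]
        rw [← Functor.map_comp_assoc, e1O, Functor.map_comp_assoc, ha₀]
        simp only [Category.assoc]
        rw [← hfW₁, ← Category.assoc (pullback.snd fW rV), ← pullback.condition]
        simp only [Category.assoc]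
      · simp only [Category.assoc, fz, αU, αV, pullback.lift_snd]
        rw [← Functor.map_comp, e2O]
    exact hfz αU αV awO hαUe hαVe comm
  haveI : Flat (a₀.left ≫ b₀.left) := hflat
  have hFa : Flat a₀.left := flat_of_fibFlat a₀.left b₀.left hFib
  refine ⟨locP_of_charts goodP_flat srcEtLoc_flat f (rV ≫ pullback.fst h qW) hqVe hqVs _ _ sqP2 rU
    hrUe hrUs a₀ ha₀.symm hFa, fun hfs => ?_⟩
  have hsnd : IsSurjectiveMor (pullback.snd fW rV) := isSurjectiveMor_of_isPullback sqP2 hfs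
  have hsa : IsSurjectiveMor ((yon S).map a₀) := by
    rw [ha₀]
    exact isSurjectiveMor_comp_repWith' _ _ hrUs hsnd
  have hFb : Flat b₀.left := flat_of_fibFlat_of_surjective a₀.left b₀.left hFib
    (surjective_of_isSurjectiveMor_yon_map a₀ hsa)
  exact locP_of_charts goodP_flat srcEtLoc_flat h qW hqWe hqWs _ _
    (IsPullback.of_hasPullback h qW) rV hrVe hrVs b₀ hb₀.symm hFb

end Groth.Agent.Helper16.AS
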