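import Groth.Agent.Lib.Helper16.AlgSp.FibLscSp

/-!
# Local constancy of the fibre dimension of a proper flat morphism of algebraic spaces (helper16)
-/

set_option autoImplicit false
set_option linter.style.haveILetI false
set_option linter.deprecated false
universe u
open CategoryTheory CategoryTheory.Limits AlgebraicGeometry MorphismProperty TopologicalSpace
open AlgSp Groth.Agent.Helper15 Groth.Agent.Helper16.AS

namespace Groth.Agent.Helper16.FibLscSp

open Groth.Agent.Helper19.FldSp

variable {S : Scheme.{u}}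

theorem isQuasiCompactSp_yon_obj (T : Over S) [CompactSpace T.left] :
    IsQuasiCompactSp ((yon S).obj T) :=
  ⟨T, 𝟙 _, repWith_id _ T, repWith_id _ T, inferInstance⟩

/-- the fibres of a morphism of finite type have finite dimension. -/
theorem dim_fibre_ne_top {X Y : Sp S} (hX : IsAlgSpace X) (hY : IsAlgSpace Y) (f : X ⟶ Y)
    (hlft : LocP @LocallyOfFiniteType f) (hqc : IsQuasiCompactMor f) (y : Points Y)
    (k : FieldPt Y) (hk : Points.mk k = y)
    (Xk : Sp S) (fst : Xk ⟶ X) (snd : Xk ⟶ (yon S).obj k.pt)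
    (hsq : IsPullback fst snd f k.toHom) :
    AlgSp.dim Xk ≠ ((⊤ : ℕ∞) : WithBot ℕ∞) := by
  haveI : CompactSpace k.pt.left :=
    (inferInstance : CompactSpace (Spec (CommRingCat.of k.K)))
  have hXkqc : IsQuasiCompactSp Xk :=
    hqc (IsAlgSpace.yon_obj _) (isQuasiCompactSp_yon_obj k.pt) k.toHom fst snd hsq
  haveI : CompactSpace (Points Xk) := compactSpace_points_of_isQuasiCompactSp hXkqc
  -- the open cover by the loci of bounded local fibre dimension
  let T : ℕ → Set (Points X) := fun n =>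
    {x | HasAtMor (fun _ _ h u => FlatMor.fibreDimAt h u ≤ (n : WithBot ℕ∞)) f x}
  have hTopen : ∀ n, IsOpen (T n) := fun n =>
    Groth.Agent.S10308.result (X := ⟨X, hX⟩) (Y := ⟨Y, hY⟩) (ObjectProperty.homMk f) hlft n
  have hTmono : Monotone T := by
    intro n m hnm x
    rintro ⟨U, V, a, b, h, u, ha, hb, comm, hxu, hle⟩
    exact ⟨U, V, a, b, h, u, ha, hb, comm, hxu, hle.trans (by exact_mod_cast hnm)⟩
  have hTcover : ∀ x : Points X, ∃ n, x ∈ T n := by
    intro x
    obtain ⟨U, V, a, b, h, u, ha, hb, comm, hxu, hP⟩ := Trdeg.exists_chart_at hX hY f hlft x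
    haveI : LocallyOfFiniteType h.left := hP
    obtain ⟨-, n, -, -, -, -, hn⟩ :=
      Groth.Agent.Helper14.EquidimAt.exists_maximal_trdeg_eq_fibreDimAt h.left u
    exact ⟨n, U, V, a, b, h, u, ha, hb, comm, hxu, hn.le⟩
  have hcov : (Set.univ : Set (Points Xk)) ⊆ ⋃ n, Points.map fst ⁻¹' T n := by
    intro x' _
    obtain ⟨n, hn⟩ := hTcover (Points.map fst x')
    exact Set.mem_iUnion.mpr ⟨n, hn⟩
  obtain ⟨t, ht⟩ := isCompact_univ.elim_finite_subcover (fun n => Points.map fst ⁻¹' T n)
    (fun n => (hTopen n).preimage (Points.continuous_map fst)) hcov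
  -- a common bound
  obtain ⟨N, hN⟩ : ∃ N : ℕ, ∀ n ∈ t, n ≤ N := ⟨t.sup id, fun n hn => Finset.le_sup (f := id) hn⟩
  have hall : ∀ x' : Points Xk, Points.map fst x' ∈ T N := by
    intro x'
    have := ht (Set.mem_univ x')
    simp only [Set.mem_iUnion] at this
    obtain ⟨n, hn, hx'⟩ := this
    exact hTmono (hN n hn) hx'
  have key := (dim_fibre hX hY f hlft y k hk Xk fst snd hsq).2 N
  have hle : AlgSp.dim Xk ≤ (N : WithBot ℕ∞) := by
    rw [key]
    intro x hx
    let pt : k.pt.left := IsLocalRing.closedPoint k.K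
    have heq : Points.map f x = Points.map k.toHom (Points.ofScheme k.pt pt) := by
      rw [hx, map_toHom_eq, hk]
    obtain ⟨x', hx1, -⟩ := exists_point_of_isPullback hsq x _ heq
    rw [← hx1]
    exact hall x'
  intro htop
  rw [htop] at hle
  have h2 : ((⊤ : ℕ∞) : WithBot ℕ∞) ≤ (((N : ℕ) : ℕ∞) : WithBot ℕ∞) := hle
  rw [WithBot.coe_le_coe] at h2
  exact absurd h2 (by simp)

theorem eq_natCast_iff (x : WithBot ℕ∞) (n : ℕ) :
    x = ((n + 1 : ℕ) : WithBot ℕ∞) ↔
      x < ((n + 1 + 1 : ℕ) : WithBot ℕ∞) ∧ ((n : ℕ) : WithBot ℕ∞) < x := by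
  rw [lt_natCast_succ_iff]
  constructor
  · rintro rfl
    exact ⟨le_rfl, by exact_mod_cast Nat.lt_succ_self n⟩
  · rintro ⟨h1, h2⟩
    refine le_antisymm h1 ?_
    induction x using WithBot.recBotCoe with
    | bot => exact absurd h2 (by simp)
    | coe w =>
      induction w using ENat.recTopCoe with
      | top => exact le_top
      | coe m =>
        have : n < m := by exact_mod_cast h2
        exact_mod_cast this

theorem eq_zero_iff' (x : WithBot ℕ∞) :
    x = ((0 : ℕ) : WithBot ℕ∞) ↔ x < ((0 + 1 : ℕ) : WithBot ℕ∞) ∧ ⊥ < x := by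
  rw [lt_natCast_succ_iff]
  constructor
  · rintro rfl
    exact ⟨le_rfl, by simp⟩
  · rintro ⟨h1, h2⟩
    refine le_antisymm h1 ?_
    induction x using WithBot.recBotCoe with
    | bot => exact absurd h2 (lt_irrefl _)
    | coe w =>
      have : ((0 : ℕ∞) : WithBot ℕ∞) ≤ ((w : ℕ∞) : WithBot ℕ∞) := WithBot.coe_le_coe.mpr zero_le
      exact this

/-- **S10692**. -/
theorem fibreDim_locConst {X Y : AlgSp.Space S} (f : X ⟶ Y) (hf1 : IsProperMor f.hom)
    (hf2 : LocP @Flat f.hom) (hf3 : IsFinitePresentationMor f.hom) (d : WithBot ℕ∞) :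
    IsOpen {y : Points Y.obj | ∀ (k : FieldPt Y.obj), Points.mk k = y →
      ∀ (Xk : Sp S) (fst : Xk ⟶ X.obj) (snd : Xk ⟶ (yon S).obj k.pt),
        IsPullback fst snd f.hom k.toHom → AlgSp.dim Xk = d} := by
  have hlft : LocP @LocallyOfFiniteType f.hom := locP_lft_of_lfp f.hom hf3.1
  have hex : ∀ y : Points Y.obj, ∃ (k : FieldPt Y.obj) (_ : Points.mk k = y) (Xk : Sp S)
      (fst : Xk ⟶ X.obj) (snd : Xk ⟶ (yon S).obj k.pt), IsPullback fst snd f.hom k.toHom := by
    intro y
    obtain ⟨k, hk⟩ := Points.mk_surjective y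
    exact ⟨k, hk, _, _, _, IsPullback.of_hasPullback f.hom k.toHom⟩
  have husc := fun e => fibreDim_usc f hf1 e
  have hlsc := fun e => fibreDim_lsc f hf2 hf3.1 e
  induction d using WithBot.recBotCoe with
  | bot =>
    convert husc 0 using 1
    ext y
    simp only [Set.mem_setOf_eq]
    constructor
    · intro H k hk Xk fst snd h
      rw [H k hk Xk fst snd h]
      simp
    · intro H k hk Xk fst snd h
      exact (lt_zero_iff_eq_bot _).mp (H k hk Xk fst snd h)
  | coe e =>
    induction e using ENat.recTopCoe with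
    | top =>
      convert isOpen_empty using 1
      ext y
      simp only [Set.mem_setOf_eq, Set.mem_empty_iff_false, iff_false]
      intro H
      obtain ⟨k, hk, Xk, fst, snd, h⟩ := hex y
      exact dim_fibre_ne_top X.property Y.property f.hom hlft hf3.2.1 y k hk Xk fst snd h
        (H k hk Xk fst snd h)
    | coe n =>
      cases n with
      | zero =>
        convert (husc ((0 + 1 : ℕ) : WithBot ℕ∞)).inter (hlsc ⊥) using 1
        ext y
        simp only [Set.mem_setOf_eq, Set.mem_inter_iff]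
        constructor
        · intro H
          exact ⟨fun k hk Xk fst snd h => ((eq_zero_iff' _).mp (H k hk Xk fst snd h)).1,
            fun k hk Xk fst snd h => ((eq_zero_iff' _).mp (H k hk Xk fst snd h)).2⟩
        · rintro ⟨H1, H2⟩ k hk Xk fst snd h
          exact (eq_zero_iff' _).mpr ⟨H1 k hk Xk fst snd h, H2 k hk Xk fst snd h⟩
      | succ m =>
        convert (husc ((m + 1 + 1 : ℕ) : WithBot ℕ∞)).inter (hlsc ((m : ℕ) : WithBot ℕ∞)) using 1
        ext y
        simp only [Set.mem_setOf_eq, Set.mem_inter_iff]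
        constructor
        · intro H
          exact ⟨fun k hk Xk fst snd h => ((eq_natCast_iff _ m).mp (H k hk Xk fst snd h)).1,
            fun k hk Xk fst snd h => ((eq_natCast_iff _ m).mp (H k hk Xk fst snd h)).2⟩
        · rintro ⟨H1, H2⟩ k hk Xk fst snd h
          exact (eq_natCast_iff _ m).mpr ⟨H1 k hk Xk fst snd h, H2 k hk Xk fst snd h⟩

end Groth.Agent.Helper16.FibLscSp
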