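import Groth.Agent.Lib.Helper19.FldSp.FibreDimUSC
import Groth.Agent.Lib.Helper16.Sch.FibLsc1

/-!
# Lower semicontinuity of the fibre dimension of a flat morphism of algebraic spaces (helper16)
-/

set_option autoImplicit false
set_option linter.style.haveILetI false
set_option linter.deprecated false
universe u
open CategoryTheory CategoryTheory.Limits AlgebraicGeometry MorphismProperty TopologicalSpace
open AlgSp Groth.Agent.Helper15 Groth.Agent.Helper16.AS

namespace Groth.Agent.Helper16.FibLscSp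

open Groth.Agent.Helper19.FldSp

variable {S : Scheme.{u}}

theorem locP_lft_of_lfp {X Y : Sp S} (f : X ⟶ Y) (hf : LocP @LocallyOfFinitePresentation f) :
    LocP @LocallyOfFiniteType f := by
  intro U V a b h ha hb comm
  haveI : LocallyOfFinitePresentation h.left := hf a b h ha hb comm
  infer_instance

/-- the image of the locus of large local fibre dimension of a flat morphism locally of finite
presentation is open. -/
theorem isOpen_image_lt {X Y : Sp S} (f : X ⟶ Y) (hflat : LocP @Flat f)
    (hlfp : LocP @LocallyOfFinitePresentation f) (c : WithBot ℕ∞) :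
    IsOpen (Points.map f '' {x : Points X |
      HasAtMor (fun _ _ h u => c < FlatMor.fibreDimAt h u) f x}) := by
  rw [isOpen_iff_forall_mem_open]
  rintro y ⟨x, ⟨U, V, a, b, h, u, ha, hb, comm, hxu, hlt⟩, hxy⟩
  haveI : Flat h.left := hflat a b h ha hb comm
  haveI : LocallyOfFinitePresentation h.left := hlfp a b h ha hb comm
  obtain ⟨O, hO, huO, hOsub⟩ :=
    Groth.Agent.Helper16.FibLsc.exists_open_lt_fibreDimAt h.left c u hlt
  refine ⟨Points.ofPt b '' O, ?_, isOpenMap_ofPt_of_etale b hb O hO, ?_⟩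
  · rintro _ ⟨v, hv, rfl⟩
    obtain ⟨u', hu'v, hu'lt⟩ := hOsub v hv
    refine ⟨Points.ofPt a u', ⟨U, V, a, b, h, u', ha, hb, comm, rfl, hu'lt⟩, ?_⟩
    rw [Points.map_ofPt, comm, ofPt_comp_yon_map, hu'v]
  · refine ⟨h.left u, huO, ?_⟩
    rw [← hxy, ← hxu, Points.map_ofPt, comm, ofPt_comp_yon_map]

/-- the image of a flat morphism locally of finite presentation is open. -/
theorem isOpen_range {X Y : Sp S} (hX : IsAlgSpace X) (hY : IsAlgSpace Y) (f : X ⟶ Y)
    (hflat : LocP @Flat f) (hlfp : LocP @LocallyOfFinitePresentation f) :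
    IsOpen (Set.range (Points.map f)) := by
  have hlft := locP_lft_of_lfp f hlfp
  have h := isOpen_image_lt f hflat hlfp ⊥
  convert h using 1
  ext y
  constructor
  · rintro ⟨x, rfl⟩
    obtain ⟨U, V, a, b, h, u, ha, hb, comm, hxu, -⟩ := Trdeg.exists_chart_at hX hY f hlft x
    refine ⟨x, ⟨U, V, a, b, h, u, ha, hb, comm, hxu, ?_⟩, rfl⟩
    exact lt_of_lt_of_le (by simp) (Groth.Agent.Helper14.FibreGeneric.zero_le_localDim _)
  · rintro ⟨x, -, rfl⟩
    exact ⟨x, rfl⟩

theorem not_hasAtMor_le_iff {X Y : Sp S} (hX : IsAlgSpace X) (hY : IsAlgSpace Y) (f : X ⟶ Y)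
    (hlft : LocP @LocallyOfFiniteType f) (c : WithBot ℕ∞) (x : Points X) :
    ¬ HasAtMor (fun _ _ h u => FlatMor.fibreDimAt h u ≤ c) f x ↔
      HasAtMor (fun _ _ h u => c < FlatMor.fibreDimAt h u) f x := by
  obtain ⟨U, V, a, b, h, u, ha, hb, comm, rfl, -⟩ := Trdeg.exists_chart_at hX hY f hlft x
  rw [Groth.Agent.Helper19.RelDim.hasAtMor_fibreDimAt_iff f hlft (fun t => t ≤ c) a b h ha hb
    comm u, Groth.Agent.Helper19.RelDim.hasAtMor_fibreDimAt_iff f hlft (fun t => c < t) a b h ha
    hb comm u, not_le]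

/-- **S10679**: lower semicontinuity of the fibre dimension of a flat morphism of finite
presentation of algebraic spaces. -/
theorem fibreDim_lsc {X Y : AlgSp.Space S} (f : X ⟶ Y) (hf1 : LocP @Flat f.hom)
    (hf2 : LocP @LocallyOfFinitePresentation f.hom) (d : WithBot ℕ∞) :
    IsOpen {y : Points Y.obj | ∀ (k : FieldPt Y.obj), Points.mk k = y →
      ∀ (Xk : Sp S) (fst : Xk ⟶ X.obj) (snd : Xk ⟶ (yon S).obj k.pt),
        IsPullback fst snd f.hom k.toHom → d < AlgSp.dim Xk} := by
  have hlft : LocP @LocallyOfFiniteType f.hom := locP_lft_of_lfp f.hom hf2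
  have key : ∀ (y : Points Y.obj) (k : FieldPt Y.obj) (hk : Points.mk k = y) (Xk : Sp S)
      (fst : Xk ⟶ X.obj) (snd : Xk ⟶ (yon S).obj k.pt) (h : IsPullback fst snd f.hom k.toHom),
      (AlgSp.dim Xk = ⊥ ↔ y ∉ Set.range (Points.map f.hom)) ∧
      ∀ d : ℕ, (AlgSp.dim Xk ≤ d ↔
        ∀ x : Points X.obj, Points.map f.hom x = y →
          HasAtMor (fun _ _ h u => FlatMor.fibreDimAt h u ≤ (d : WithBot ℕ∞)) f.hom x) :=
    fun y k hk Xk fst snd h => dim_fibre X.property Y.property f.hom hlft y k hk Xk fst snd h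
  have hex : ∀ y : Points Y.obj, ∃ (k : FieldPt Y.obj) (_ : Points.mk k = y) (Xk : Sp S)
      (fst : Xk ⟶ X.obj) (snd : Xk ⟶ (yon S).obj k.pt), IsPullback fst snd f.hom k.toHom := by
    intro y
    obtain ⟨k, hk⟩ := Points.mk_surjective y
    exact ⟨k, hk, _, _, _, IsPullback.of_hasPullback f.hom k.toHom⟩
  induction d using WithBot.recBotCoe with
  | bot =>
    convert isOpen_range X.property Y.property f.hom hf1 hf2 using 1
    ext y
    simp only [Set.mem_setOf_eq]
    constructor
    · intro H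
      obtain ⟨k, hk, Xk, fst, snd, h⟩ := hex y
      have h1 := H k hk Xk fst snd h
      by_contra hy
      rw [(key y k hk Xk fst snd h).1.2 hy] at h1
      exact lt_irrefl _ h1
    · intro hy k hk Xk fst snd h
      rw [bot_lt_iff_ne_bot]
      intro hb
      exact (key y k hk Xk fst snd h).1.1 hb hy
  | coe e =>
    induction e using ENat.recTopCoe with
    | top =>
      convert isOpen_empty using 1
      ext y
      simp only [Set.mem_setOf_eq, Set.mem_empty_iff_false, iff_false]
      intro H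
      obtain ⟨k, hk, Xk, fst, snd, h⟩ := hex y
      exact not_top_lt (H k hk Xk fst snd h)
    | coe n =>
      convert isOpen_image_lt f.hom hf1 hf2 (n : WithBot ℕ∞) using 1
      ext y
      simp only [Set.mem_setOf_eq, Set.mem_image]
      constructor
      · intro H
        obtain ⟨k, hk, Xk, fst, snd, h⟩ := hex y
        have h1 : ¬ AlgSp.dim Xk ≤ (n : WithBot ℕ∞) := not_le.mpr (H k hk Xk fst snd h)
        rw [(key y k hk Xk fst snd h).2 n] at h1
        push Not at h1
        obtain ⟨x, hxy, hx⟩ := h1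
        exact ⟨x, (not_hasAtMor_le_iff X.property Y.property f.hom hlft _ x).mp hx, hxy⟩
      · rintro ⟨x, hx, hxy⟩ k hk Xk fst snd h
        have h1 : ¬ AlgSp.dim Xk ≤ (n : WithBot ℕ∞) := by
          rw [(key y k hk Xk fst snd h).2 n]
          push Not
          exact ⟨x, hxy, (not_hasAtMor_le_iff X.property Y.property f.hom hlft _ x).mpr hx⟩
        exact not_le.mp h1

end Groth.Agent.Helper16.FibLscSp
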