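import Groth.Agent.Lib.Helper16.AlgSp.ProperSp
import Groth.Prelude.Def_AlgSpDec

set_option autoImplicit false
universe u
open CategoryTheory CategoryTheory.Limits AlgebraicGeometry MorphismProperty
open AlgSp Groth.Agent.Helper15

namespace Groth.Agent.Helper16.AS

variable {S : Scheme.{u}}

/-- An algebraic space locally of finite type over a locally Noetherian scheme is locally
Noetherian. -/
theorem isLocNoethSp_of_locP_lft {P : Sp S} (hP : IsAlgSpace P) {T : Over S}
    [IsLocallyNoetherian T.left] (snd : P ⟶ (yon S).obj T)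
    (h : LocP @LocallyOfFiniteType snd) : IsLocNoethSp P := by
  obtain ⟨U, a, hae, has⟩ := hP.atlas
  obtain ⟨φ, hφ⟩ := (yon S).map_surjective (a ≫ snd)
  have hlft : LocallyOfFiniteType φ.left :=
    h a (𝟙 _) φ hae (repWith_id _ T) (by rw [hφ, Category.comp_id])
  exact ⟨U, a, hae, has, LocallyOfFiniteType.isLocallyNoetherian φ.left⟩

end Groth.Agent.Helper16.AS
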