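import Groth.Agent.Lib.Helper16.AlgSp.FlatSrcSp

/-!
# Finite affine refinements of open coverings of an affine scheme
-/

set_option autoImplicit false
universe u
open CategoryTheory CategoryTheory.Limits AlgebraicGeometry MorphismProperty Opposite
open AlgSp Groth.Agent.Helper15

namespace Groth.Agent.Helper16.AS

variable {S : Scheme.{u}}

/-- universe polymorphic version of `exists_stdFpqc_of_finite` -/
theorem exists_stdFpqc_of_finite' {Z : Over S} {κ : Type*} [Finite κ] (W : κ → Over S)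
    (c : ∀ k, W k ⟶ Z) (haff : ∀ k, IsAffine (W k).left) (hflat : ∀ k, Flat (c k).left)
    (hsurj : ∀ z : ↥Z.left, ∃ k, z ∈ Set.range (c k).left) :
    ∃ (m : ℕ) (e : Fin m ≃ κ), StdFpqc Z m (fun j => W (e j)) (fun j => c (e j)) := by
  obtain ⟨m, ⟨e⟩⟩ := Finite.exists_equiv_fin κ
  refine ⟨m, e.symm, fun j => haff _, fun j => hflat _, fun z => ?_⟩
  exact (e.symm.surjective.exists).1 (hsurj z)

/-- a jointly surjective family of flat open morphisms to a quasi-compact scheme is refined by a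
finite family of affine schemes, flat over the target and jointly surjective -/
theorem exists_finite_affine_refinement {Z : Over S} [CompactSpace Z.left] {ι : Type*}
    (B : ι → Over S) (b : ∀ i, B i ⟶ Z) (hflat : ∀ i, Flat (b i).left)
    (hopen : ∀ i, IsOpenMap (b i).left)
    (hsurj : ∀ z : ↥Z.left, ∃ i, z ∈ Set.range (b i).left) :
    ∃ (m : ℕ) (W : Fin m → Over S) (c : ∀ j, W j ⟶ Z), StdFpqc Z m W c ∧
      ∀ j, ∃ (i : ι) (d : W j ⟶ B i), d ≫ b i = c j := by
  classical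
  let I := Σ i, (B i).left.affineOpens
  let V : I → Set ↥Z.left := fun k => (b k.1).left '' (k.2 : Set (B k.1).left)
  have hVo : ∀ k, IsOpen (V k) := fun k => hopen k.1 _ k.2.1.isOpen
  have hVc : (Set.univ : Set ↥Z.left) ⊆ ⋃ k, V k := by
    intro z _
    obtain ⟨i, y, hy⟩ := hsurj z
    obtain ⟨_, ⟨O, hO, rfl⟩, hyO, -⟩ :=
      ((B i).left.isBasis_affineOpens).exists_subset_of_mem_open (Set.mem_univ y) isOpen_univ
    exact Set.mem_iUnion.2 ⟨⟨i, ⟨O, hO⟩⟩, y, hyO, hy⟩
  obtain ⟨t, ht⟩ := isCompact_univ.elim_finite_subcover V hVo hVc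
  let W : ↥t → Over S := fun k => Over.mk ((k.1.2 : (B k.1.1).left.Opens).ι ≫ (B k.1.1).hom)
  let d : ∀ k : ↥t, W k ⟶ B k.1.1 := fun k => Over.homMk (k.1.2 : (B k.1.1).left.Opens).ι rfl
  have haff : ∀ k, IsAffine (W k).left := fun k => k.1.2.2
  have hfl : ∀ k : ↥t, Flat (d k ≫ b k.1.1).left := by
    intro k
    rw [Over.comp_left]
    haveI := hflat k.1.1
    haveI : Flat (d k).left := by
      change Flat (k.1.2 : (B k.1.1).left.Opens).ι
      infer_instance
    infer_instance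
  have hsj : ∀ z : ↥Z.left, ∃ k : ↥t, z ∈ Set.range (d k ≫ b k.1.1).left := by
    intro z
    have := ht (Set.mem_univ z)
    simp only [Set.mem_iUnion] at this
    obtain ⟨k, hk, y, hy, rfl⟩ := this
    refine ⟨⟨k, hk⟩, (⟨y, hy⟩ : (k.2 : (B k.1).left.Opens)), ?_⟩
    rw [Over.comp_left, Scheme.Hom.comp_apply]
    rfl
  obtain ⟨m, e, he⟩ := exists_stdFpqc_of_finite' W (fun k => d k ≫ b k.1.1) haff hfl hsj
  exact ⟨m, _, _, he, fun j => ⟨(e j).1.1, d (e j), rfl⟩⟩

end Groth.Agent.Helper16.AS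

namespace Groth.Agent.Helper16.AS

variable {S : Scheme.{u}}

/-- transitivity of refinement by standard coverings -/
theorem isStdRefinable_of_local {ι : Type u} {X : Sp S} {Xi : ι → Sp S} {g : ∀ i, Xi i ⟶ X}
    (h : ∀ (Z : Over S), IsAffine Z.left → ∀ (t : (yon S).obj Z ⟶ X),
      ∃ (m : ℕ) (W : Fin m → Over S) (c : ∀ j, W j ⟶ Z), StdFpqc Z m W c ∧
        ∀ j, ∃ (m' : ℕ) (W' : Fin m' → Over S) (c' : ∀ k, W' k ⟶ W j), StdFpqc (W j) m' W' c' ∧
          ∀ k, ∃ (i : ι) (l : (yon S).obj (W' k) ⟶ Xi i),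
            l ≫ g i = (yon S).map (c' k) ≫ (yon S).map (c j) ≫ t) :
    IsStdRefinable Xi g := by
  refine isStdRefinable_of_finite fun Z hZ t => ?_
  obtain ⟨m, W, c, hc, h2⟩ := h Z hZ t
  choose mm W' c' hc' hl' using h2
  refine ⟨Σ j : Fin m, Fin (mm j), inferInstance, fun r => W' r.1 r.2,
    fun r => c' r.1 r.2 ≫ c r.1, fun r => (hc' r.1).affine r.2, fun r => ?_, fun z => ?_,
    fun r => ?_⟩
  · rw [Over.comp_left]
    haveI := (hc' r.1).flat r.2
    haveI := hc.flat r.1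
    infer_instance
  · obtain ⟨j, w, hw⟩ := hc.surj z
    obtain ⟨k, w', hw'⟩ := (hc' j).surj w
    refine ⟨⟨j, k⟩, w', ?_⟩
    rw [Over.comp_left, Scheme.Hom.comp_apply, hw', hw]
  · obtain ⟨i, l, hl⟩ := hl' r.1 r.2
    exact ⟨i, l, by rw [hl, Functor.map_comp, Category.assoc]⟩

/-- refinement can be checked after base change to an etale surjective chart -/
theorem isStdRefinable_of_chart {ι : Type u} {X : Sp S} {Xi Ui : ι → Sp S} {g : ∀ i, Xi i ⟶ X}
    {U : Over S} (p : (yon S).obj U ⟶ X) (hpe : RepWith @Etale p) (hps : RepWith @Surjective p)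
    {q : ∀ i, Ui i ⟶ (yon S).obj U} {p' : ∀ i, Ui i ⟶ Xi i}
    (sq : ∀ i, IsPullback (q i) (p' i) p (g i)) (h : IsStdRefinable Ui q) :
    IsStdRefinable Xi g := by
  refine isStdRefinable_of_local fun Z hZ t => ?_
  have hrep := hpe.rep
  have sqZ := hrep.isPullback t
  have hee : Etale (hrep.snd t).left := hpe.property_snd t
  have hes : Surjective (hrep.snd t).left := hps.property_snd t
  haveI : CompactSpace Z.left := by
    haveI := hZ
    infer_instance
  obtain ⟨m, W, c, hc, hd⟩ := exists_finite_affine_refinement (ι := PUnit.{1})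
    (fun _ => hrep.pullback t) (fun _ => hrep.snd t) (fun _ => inferInstance)
    (fun _ => (hrep.snd t).left.isOpenMap) (fun z => by
      obtain ⟨y, rfl⟩ := hes.surj z
      exact ⟨PUnit.unit, y, rfl⟩)
  refine ⟨m, W, c, hc, fun j => ?_⟩
  obtain ⟨-, d, hd⟩ := hd j
  obtain ⟨m', W', c', hc', hl⟩ := h (W j) (hc.affine j) ((yon S).map d ≫ hrep.fst t)
  refine ⟨m', W', c', hc', fun k => ?_⟩
  obtain ⟨i, l, hl⟩ := hl k
  refine ⟨i, l ≫ p' i, ?_⟩
  rw [Category.assoc, ← (sq i).w, ← Category.assoc, hl, Category.assoc, Category.assoc, sqZ.w,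
    ← Category.assoc ((yon S).map d), ← Functor.map_comp, hd]

theorem isFpqcCover_iff_of_chart {ι : Type u} {X : Sp S} (hX : IsAlgSpace X) {Xi Ui : ι → Sp S}
    (hXi : ∀ i, IsAlgSpace (Xi i)) {g : ∀ i, Xi i ⟶ X}
    {U : Over S} (p : (yon S).obj U ⟶ X) (hpe : RepWith @Etale p) (hps : RepWith @Surjective p)
    {q : ∀ i, Ui i ⟶ (yon S).obj U} {p' : ∀ i, Ui i ⟶ Xi i}
    (sq : ∀ i, IsPullback (q i) (p' i) p (g i)) :
    IsFpqcCover Xi g ↔ IsFpqcCover Ui q := by
  constructor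
  · intro h
    exact isFpqcCover_of_isPullback hX (IsAlgSpace.yon_obj U) p hXi sq h
  · intro h
    rw [isFpqcCover_iff] at h ⊢
    refine ⟨fun i => ?_, isStdRefinable_of_chart p hpe hps sq h.2⟩
    exact locP_of_target_cover @Flat (g i) p hpe hps (p' i) (q i) (sq i).flip (h.1 i)

end Groth.Agent.Helper16.AS
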