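import Groth.Agent.Lib.Helper16.AlgSp.LocPDesc

/-!
# Flatness is fpqc local on the source (algebraic spaces)
-/

set_option autoImplicit false
universe u
open CategoryTheory CategoryTheory.Limits AlgebraicGeometry MorphismProperty Opposite
open AlgSp Groth.Agent.Helper15

namespace Groth.Agent.Helper16.AS

variable {S : Scheme.{u}}

/-- a family refined by standard fpqc coverings is jointly surjective on points -/
theorem IsStdRefinable.exists_point {ι : Type u} {X : Sp S} {Xi : ι → Sp S} {g : ∀ i, Xi i ⟶ X}
    (h : IsStdRefinable Xi g) (x : Points X) : ∃ i, x ∈ Set.range (Points.map (g i)) := by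
  obtain ⟨T, hT, t, pt, rfl⟩ := exists_affine_point x
  obtain ⟨m, W, c, hc, hl⟩ := h T hT t
  obtain ⟨j, w, hw⟩ := hc.exists_point pt
  obtain ⟨i, l, hl⟩ := hl j
  refine ⟨i, Points.map l w, ?_⟩
  rw [← Points.map_comp, hl, Points.map_comp, hw]

theorem isLocalOnSource_fpqc_locP_flat :
    IsLocalOnSource (IsFpqcCover (S := S)) (LocP @Flat) := by
  intro ι X Xi g hX hXi hcov Y f hY
  rw [isFpqcCover_iff] at hcov
  constructor
  · intro hf i
    exact locP_flat_comp (hXi i) hX hY (g i) f (hcov.1 i) hf
  · intro h
    obtain ⟨V₀, q₀, hq₀e, hq₀s⟩ := hY.atlas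
    have hE : IsAlgSpace (pullback f q₀) :=
      isAlgSpace_of_isPullback hY.diag hX (IsAlgSpace.yon_obj V₀) (IsPullback.of_hasPullback f q₀)
    obtain ⟨U₀, r, hre, hrs⟩ := hE.atlas
    obtain ⟨h₀, hh⟩ := (yon S).map_surjective (r ≫ pullback.snd f q₀)
    refine locP_of_charts goodP_flat srcEtLoc_flat f q₀ hq₀e hq₀s _ _
      (IsPullback.of_hasPullback f q₀) r hre hrs h₀ hh.symm ?_
    have hfstE : RepWith @Etale (pullback.fst f q₀) :=
      (RepWith @Etale).of_isPullback (IsPullback.of_hasPullback f q₀).flip hq₀e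
    have hae : RepWith @Etale (r ≫ pullback.fst f q₀) := (RepWith @Etale).comp_mem _ _ hre hfstE
    set a := r ≫ pullback.fst f q₀ with ha
    -- the base changes of the covering to `U₀`
    have hUi : ∀ i, IsAlgSpace (pullback a (g i)) := fun i =>
      isAlgSpace_of_isPullback hX.diag (IsAlgSpace.yon_obj U₀) (hXi i)
        (IsPullback.of_hasPullback a (g i))
    choose Wi s hse hss using fun i => (hUi i).atlas
    have hex : ∀ i, ∃ e : Wi i ⟶ U₀, (yon S).map e = s i ≫ pullback.fst a (g i) := fun i =>
      (yon S).map_surjective _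
    choose e he using hex
    have hflat : ∀ i, Flat (e i).left := by
      intro i
      have h1 : LocP @Flat (pullback.fst a (g i)) :=
        locP_flat_of_isPullback (hXi i) hX (IsAlgSpace.yon_obj U₀)
          (IsPullback.of_hasPullback a (g i)).flip (hcov.1 i)
      exact h1 (s i) (𝟙 _) (e i) (hse i) (repWith_id _ _) (by rw [he, Category.comp_id])
    have hsurj : ∀ u : U₀.left, ∃ i, u ∈ Set.range (e i).left := by
      intro u
      obtain ⟨i, xi, hxi⟩ := hcov.2.exists_point (Points.ofPt a u)
      rw [Points.ofPt_eq_map_ofScheme] at hxi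
      obtain ⟨y, hy1, hy2⟩ := exists_point_of_isPullback (IsPullback.of_hasPullback a (g i))
        (Points.ofScheme U₀ u) xi hxi.symm
      obtain ⟨w, rfl⟩ := surjective_ofPt (s i) (hss i) y
      refine ⟨i, w, ?_⟩
      apply (Points.schemeEquiv U₀).injective
      change Points.ofScheme U₀ ((e i).left w) = Points.ofScheme U₀ u
      rw [← hy1, Points.map_ofPt, ← he]
      exact (ofPt_comp_yon_map (e i) (𝟙 _) w).symm
    have hcomp : ∀ i, Flat ((e i).left ≫ h₀.left) := by
      intro i
      have hsnd : RepWith @Etale (pullback.snd a (g i)) :=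
        (RepWith @Etale).of_isPullback (IsPullback.of_hasPullback a (g i)) hae
      have := h i (s i ≫ pullback.snd a (g i)) q₀ (e i ≫ h₀)
        ((RepWith @Etale).comp_mem _ _ (hse i) hsnd) hq₀e ?_
      · rwa [Over.comp_left] at this
      · have e1 : pullback.snd a (g i) ≫ g i = pullback.fst a (g i) ≫ a :=
          pullback.condition.symm
        have e2 : a ≫ f = (yon S).map h₀ ≫ q₀ := by
          rw [ha, Category.assoc, pullback.condition, ← Category.assoc, ← hh]
        calc (s i ≫ pullback.snd a (g i)) ≫ g i ≫ f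
            = s i ≫ (pullback.snd a (g i) ≫ g i) ≫ f := by simp only [Category.assoc]
          _ = (s i ≫ pullback.fst a (g i)) ≫ a ≫ f := by rw [e1]; simp only [Category.assoc]
          _ = (yon S).map (e i ≫ h₀) ≫ q₀ := by
            rw [← he, e2, ← Category.assoc, ← Functor.map_comp]
    exact flat_of_flat_comp_of_jointly_surjective h₀.left (fun i => (e i).left) hflat hsurj hcomp

end Groth.Agent.Helper16.AS
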