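import Groth.Agent.Lib.Helper16.Alg.FlatUnram
import Groth.Agent.Lib.Helper16.AlgSp.FormalSp6

set_option autoImplicit false
universe u
open CategoryTheory CategoryTheory.Limits AlgebraicGeometry MorphismProperty
open AlgSp Groth.Agent.Helper15

namespace Groth.Agent.Helper16.AS

/-- A flat unramified morphism of schemes is formally etale. -/
theorem isFormallyEtaleHom_of_flat_unramified {U V : Scheme.{u}} (h : U ⟶ V)
    [LocallyOfFiniteType h] [FormallyUnramified h] [Flat h] : MoreMor.IsFormallyEtaleHom h := by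
  rw [Groth.Agent.Helper3.FormEt.isFormallyEtaleHom_iff]
  intro U' V' hU' hV' e
  have h1 : (h.appLE V' U' e).hom.FiniteType :=
    HasRingHomProperty.appLE (P := @LocallyOfFiniteType) h inferInstance ⟨V', hV'⟩ ⟨U', hU'⟩ e
  have h2 : (h.appLE V' U' e).hom.FormallyUnramified :=
    HasRingHomProperty.appLE (P := @FormallyUnramified) h inferInstance ⟨V', hV'⟩ ⟨U', hU'⟩ e
  have h3 : (h.appLE V' U' e).hom.Flat :=
    HasRingHomProperty.appLE (P := @Flat) h inferInstance ⟨V', hV'⟩ ⟨U', hU'⟩ e
  algebraize [(h.appLE V' U' e).hom]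
  exact Groth.Agent.Helper16.FlatUnram.formallyEtale_of_flat_of_formallyUnramified

variable {S : Scheme.{u}}

/-- S10626. -/
theorem isFormallyEtaleMor_of_unramified_flat {X Y : Sp S} (hX : IsAlgSpace X)
    (hY : IsAlgSpace Y) (f : X ⟶ Y)
    (h1 : LocP (@LocallyOfFiniteType ⊓ @FormallyUnramified) f) (h2 : LocP @Flat f) :
    IsFormallyEtaleMor f := by
  rw [isFormallyEtaleMor_iff_locP hX hY]
  intro U V a b h ha hb w
  obtain ⟨hlft, hun⟩ := h1 a b h ha hb w
  haveI : LocallyOfFiniteType h.left := hlft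
  haveI : FormallyUnramified h.left := hun
  haveI : Flat h.left := h2 a b h ha hb w
  exact isFormallyEtaleHom_of_flat_unramified h.left

end Groth.Agent.Helper16.AS
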