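import Groth.Prelude.Def_AlgSpInf
import Groth.Agent.Lib.Helper15.AlgSpBasic
import Groth.Agent.Lib.Helper3.FormEt

/-!
# Formally étale / unramified maps of fppf sheaves
-/

set_option autoImplicit false
universe u
open CategoryTheory CategoryTheory.Limits AlgebraicGeometry MorphismProperty Opposite
open AlgSp Groth.Agent.Helper15

namespace Groth.Agent.Helper16.AS

variable {S : Scheme.{u}}

/-- Maps out of a representable sheaf agree if they agree on a covering family. -/
theorem yon_hom_ext_of_cover {T : Over S} {G : Sp S} {ι : Type*} (V : ι → Over S)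
    (g : ∀ i, V i ⟶ T) (hcov : Sieve.ofArrows V g ∈ (J S) T) {l l' : (yon S).obj T ⟶ G}
    (h : ∀ i, (yon S).map (g i) ≫ l = (yon S).map (g i) ≫ l') : l = l' := by
  apply (yonEquiv (T := T) (F := G)).injective
  have hsep := ((isSheaf_iff_isSheaf_of_type _ _).1 G.cond).isSeparated
  refine (hsep _ hcov).ext ?_
  rintro Y f ⟨Z, u, _, ⟨i⟩, rfl⟩
  rw [op_comp, G.obj.map_comp]
  have h1 := GrothendieckTopology.uliftYonedaEquiv_naturality (J S) l (g i)
  have h2 := GrothendieckTopology.uliftYonedaEquiv_naturality (J S) l' (g i)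
  have h3 : (ConcreteCategory.hom (G.obj.map (g i).op)) (yonEquiv l) =
      (ConcreteCategory.hom (G.obj.map (g i).op)) (yonEquiv l') :=
    h1.trans ((congrArg yonEquiv (h i)).trans h2.symm)
  have := congrArg (G.obj.map u.op) h3
  simpa using this

section InfSq

variable {F G : Sp S} {a : F ⟶ G} (sq : InfSq a) {W : Over S} {fst : (yon S).obj W ⟶ F}
  {snd : W ⟶ sq.ptT'} (pb : IsPullback fst ((yon S).map snd) a sq.bot)

include pb in
/-- The section over `T` determined by the top arrow. -/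
theorem exists_section_of_isPullback :
    ∃ s : sq.ptT ⟶ W, (yon S).map s ≫ fst = sq.top ∧ s ≫ snd = sq.j := by
  obtain ⟨s, hs⟩ := (yon S).map_surjective (pb.lift sq.top ((yon S).map sq.j) sq.comm)
  refine ⟨s, ?_, (yon S).map_injective ?_⟩
  · rw [hs]; exact pb.lift_fst _ _ _
  · rw [Functor.map_comp, hs]; exact pb.lift_snd _ _ _

include pb in
/-- A lift of the square gives a section of the pulled back morphism. -/
theorem exists_section_of_lift {s : sq.ptT ⟶ W} (hs1 : (yon S).map s ≫ fst = sq.top)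
    (hs2 : s ≫ snd = sq.j) (l : (yon S).obj sq.ptT' ⟶ F)
    (hl1 : (yon S).map sq.j ≫ l = sq.top) (hl2 : l ≫ a = sq.bot) :
    ∃ m : sq.ptT' ⟶ W, sq.j ≫ m = s ∧ m ≫ snd = 𝟙 _ ∧ (yon S).map m ≫ fst = l := by
  obtain ⟨m, hm⟩ := (yon S).map_surjective (pb.lift l (𝟙 _) (by rw [hl2, Category.id_comp]))
  have hm1 : (yon S).map m ≫ fst = l := by rw [hm]; exact pb.lift_fst _ _ _
  have hm2 : (yon S).map m ≫ (yon S).map snd = 𝟙 _ := by rw [hm]; exact pb.lift_snd _ _ _
  refine ⟨m, (yon S).map_injective (pb.hom_ext ?_ ?_), (yon S).map_injective ?_, hm1⟩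
  · rw [Functor.map_comp, Category.assoc, hm1, hl1, hs1]
  · rw [Functor.map_comp, Category.assoc, hm2, Category.comp_id, ← Functor.map_comp, hs2]
  · rw [Functor.map_comp, hm2, (yon S).map_id]

include pb in
/-- A section of the pulled back morphism gives a lift of the square. -/
theorem lift_of_section {s : sq.ptT ⟶ W} (hs1 : (yon S).map s ≫ fst = sq.top)
    (m : sq.ptT' ⟶ W) (hm1 : sq.j ≫ m = s) (hm2 : m ≫ snd = 𝟙 _) :
    (yon S).map sq.j ≫ ((yon S).map m ≫ fst) = sq.top ∧ ((yon S).map m ≫ fst) ≫ a = sq.bot := by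
  refine ⟨?_, ?_⟩
  · rw [← Category.assoc, ← Functor.map_comp, hm1, hs1]
  · rw [Category.assoc, pb.w, ← Category.assoc, ← Functor.map_comp, hm2, (yon S).map_id,
      Category.id_comp]

include pb in
theorem hasUniq_of_isPullback (h : FormallyUnramified snd.left) : sq.HasUniq := by
  intro l l' h1 h2 h3 h4
  obtain ⟨s, hs1, hs2⟩ := exists_section_of_isPullback sq pb
  obtain ⟨m, hm1, hm2, rfl⟩ := exists_section_of_lift sq pb hs1 hs2 l h1 h2
  obtain ⟨m', hm1', hm2', rfl⟩ := exists_section_of_lift sq pb hs1 hs2 l' h3 h4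
  have hI : IsNilpotent (sq.j.left).ker := by
    refine ⟨2, ?_⟩
    have := Groth.Agent.Helper3.FormEt.ker_sq_specMap
      (CommRingCat.ofHom (Ideal.Quotient.mk sq.I)) (by simpa using sq.sq_zero)
    rw [pow_two]
    exact this
  have : IsClosedImmersion sq.j.left :=
    IsClosedImmersion.spec_of_surjective _ Ideal.Quotient.mk_surjective
  have : m.left = m'.left := by
    refine FormallyUnramified.hom_ext sq.j.left hI snd.left ?_ ?_
    · have e1 := congrArg CommaMorphism.left hm1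
      have e2 := congrArg CommaMorphism.left hm1'
      exact e1.trans e2.symm
    · have e1 := congrArg CommaMorphism.left hm2
      have e2 := congrArg CommaMorphism.left hm2'
      exact e1.trans e2.symm
  have : m = m' := Over.OverMorphism.ext this
  rw [this]

include pb in
theorem exists_over_section {s : sq.ptT ⟶ W} (hs2 : s ≫ snd = sq.j)
    (l0 : Spec (CommRingCat.of sq.A) ⟶ W.left)
    (h1 : Spec.map (CommRingCat.ofHom (Ideal.Quotient.mk sq.I)) ≫ l0 = s.left)
    (h2 : l0 ≫ snd.left = 𝟙 _) :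
    ∃ m : sq.ptT' ⟶ W, m.left = l0 ∧ sq.j ≫ m = s ∧ m ≫ snd = 𝟙 _ := by
  have hw : l0 ≫ W.hom = sq.ptT'.hom := by
    have := Over.w snd
    rw [← this, ← Category.assoc, h2]
    exact Category.id_comp _
  refine ⟨Over.homMk l0 hw, rfl, Over.OverMorphism.ext ?_, Over.OverMorphism.ext ?_⟩
  · exact h1
  · exact h2

include pb in
theorem hasLift_of_isPullback (h : MoreMor.IsFormallySmoothHom snd.left) : sq.HasLift := by
  obtain ⟨s, hs1, hs2⟩ := exists_section_of_isPullback sq pb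
  have hs2' : Spec.map (CommRingCat.ofHom (Ideal.Quotient.mk sq.I)) ≫ 𝟙 _ = s.left ≫ snd.left := by
    rw [Category.comp_id]
    exact (congrArg CommaMorphism.left hs2).symm
  obtain ⟨l0, h1, h2⟩ := h sq.A sq.I sq.sq_zero s.left (𝟙 _) hs2'
  obtain ⟨m, -, hm1, hm2⟩ := exists_over_section sq pb hs2 l0 h1 h2
  exact ⟨_, lift_of_section sq pb hs1 m hm1 hm2⟩

include pb in
theorem hasUniqLift_of_isPullback (h : MoreMor.IsFormallyEtaleHom snd.left) : sq.HasUniqLift := by
  obtain ⟨s, hs1, hs2⟩ := exists_section_of_isPullback sq pb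
  have hs2' : Spec.map (CommRingCat.ofHom (Ideal.Quotient.mk sq.I)) ≫ 𝟙 _ = s.left ≫ snd.left := by
    rw [Category.comp_id]
    exact (congrArg CommaMorphism.left hs2).symm
  obtain ⟨l0, ⟨h1, h2⟩, huniq⟩ := h sq.A sq.I sq.sq_zero s.left (𝟙 _) hs2'
  obtain ⟨m, hm0, hm1, hm2⟩ := exists_over_section sq pb hs2 l0 h1 h2
  refine ⟨_, lift_of_section sq pb hs1 m hm1 hm2, ?_⟩
  rintro l ⟨hl1, hl2⟩
  obtain ⟨m', hm1', hm2', rfl⟩ := exists_section_of_lift sq pb hs1 hs2 l hl1 hl2
  have : m'.left = l0 := huniq m'.left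
    ⟨congrArg CommaMorphism.left hm1', congrArg CommaMorphism.left hm2'⟩
  have : m' = m := Over.OverMorphism.ext (this.trans hm0.symm)
  rw [this]

end InfSq

theorem isFormallyUnramifiedMor_of_repWith {F G : Sp S} {a : F ⟶ G}
    (h : RepWith @FormallyUnramified a) : IsFormallyUnramifiedMor a := fun sq =>
  hasUniq_of_isPullback sq (h.1.isPullback sq.bot) (h.2 _ _ _ (h.1.isPullback sq.bot))

theorem isFormallyEtaleMor_of_repWith {F G : Sp S} {a : F ⟶ G}
    (h : RepWith @Etale a) : IsFormallyEtaleMor a := fun sq =>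
  hasUniqLift_of_isPullback sq (h.1.isPullback sq.bot)
    ((Groth.Agent.Helper3.FormEt.etale_iff _).1 (h.2 _ _ _ (h.1.isPullback sq.bot))).2

theorem InfSq.hasLift_of_hasUniqLift {F G : Sp S} {a : F ⟶ G} {sq : InfSq a}
    (h : sq.HasUniqLift) : sq.HasLift := h.exists

theorem InfSq.hasUniq_of_hasUniqLift {F G : Sp S} {a : F ⟶ G} {sq : InfSq a}
    (h : sq.HasUniqLift) : sq.HasUniq := fun l l' h1 h2 h3 h4 => h.unique ⟨h1, h2⟩ ⟨h3, h4⟩

theorem InfSq.hasUniqLift_iff {F G : Sp S} {a : F ⟶ G} {sq : InfSq a} :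
    sq.HasUniqLift ↔ sq.HasLift ∧ sq.HasUniq :=
  ⟨fun h => ⟨InfSq.hasLift_of_hasUniqLift h, InfSq.hasUniq_of_hasUniqLift h⟩,
   fun ⟨⟨l, h1, h2⟩, hu⟩ => ⟨l, ⟨h1, h2⟩, fun l' h' => hu l' l h'.1 h'.2 h1 h2⟩⟩

theorem isFormallyEtaleMor_iff {F G : Sp S} {a : F ⟶ G} :
    IsFormallyEtaleMor a ↔ IsFormallySmoothMor a ∧ IsFormallyUnramifiedMor a :=
  ⟨fun h => ⟨fun sq => InfSq.hasLift_of_hasUniqLift (h sq),
    fun sq => InfSq.hasUniq_of_hasUniqLift (h sq)⟩,
   fun h sq => InfSq.hasUniqLift_iff.2 ⟨h.1 sq, h.2 sq⟩⟩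

/-! ## Composition -/

section Comp

variable {F G H : Sp S} {a : F ⟶ G} {b : G ⟶ H}

/-- The square for `b` obtained from a square for `a ≫ b`. -/
noncomputable def sqCompRight (sq : InfSq (a ≫ b)) : InfSq b where
  A := sq.A
  I := sq.I
  sq_zero := sq.sq_zero
  str := sq.str
  top := sq.top ≫ a
  bot := sq.bot
  comm := by rw [Category.assoc]; exact sq.comm

/-- The square for `a` obtained from a square for `a ≫ b` and a lift for `b`. -/
noncomputable def sqCompLeft (sq : InfSq (a ≫ b)) (l : (yon S).obj sq.ptT' ⟶ G)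
    (hl : (yon S).map sq.j ≫ l = sq.top ≫ a) : InfSq a where
  A := sq.A
  I := sq.I
  sq_zero := sq.sq_zero
  str := sq.str
  top := sq.top
  bot := l
  comm := hl.symm

theorem isFormallySmoothMor_comp (ha : IsFormallySmoothMor a) (hb : IsFormallySmoothMor b) :
    IsFormallySmoothMor (a ≫ b) := by
  intro sq
  obtain ⟨l, hl1, hl2⟩ := hb (sqCompRight sq)
  obtain ⟨m, hm1, hm2⟩ := ha (sqCompLeft sq l hl1)
  exact ⟨m, hm1, by rw [← Category.assoc]; erw [hm2]; exact hl2⟩

theorem isFormallyUnramifiedMor_comp (ha : IsFormallyUnramifiedMor a)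
    (hb : IsFormallyUnramifiedMor b) : IsFormallyUnramifiedMor (a ≫ b) := by
  intro sq l l' h1 h2 h3 h4
  have e : l ≫ a = l' ≫ a :=
    hb (sqCompRight sq) (l ≫ a) (l' ≫ a)
      (by rw [← Category.assoc]; erw [h1]; rfl) (by rw [Category.assoc]; exact h2)
      (by rw [← Category.assoc]; erw [h3]; rfl) (by rw [Category.assoc]; exact h4)
  exact ha (sqCompLeft sq (l ≫ a) (by rw [← Category.assoc]; erw [h1])) l l' h1 rfl h3 e.symm

theorem isFormallyEtaleMor_comp (ha : IsFormallyEtaleMor a) (hb : IsFormallyEtaleMor b) :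
    IsFormallyEtaleMor (a ≫ b) :=
  isFormallyEtaleMor_iff.2
    ⟨isFormallySmoothMor_comp (isFormallyEtaleMor_iff.1 ha).1 (isFormallyEtaleMor_iff.1 hb).1,
     isFormallyUnramifiedMor_comp (isFormallyEtaleMor_iff.1 ha).2 (isFormallyEtaleMor_iff.1 hb).2⟩

end Comp

end Groth.Agent.Helper16.AS
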