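import Groth.Agent.Lib.Helper16.AlgSp.FormalSp

/-!
# Restricting infinitesimal lifting squares along ring maps; descent of uniqueness
-/

set_option autoImplicit false
universe u
open CategoryTheory CategoryTheory.Limits AlgebraicGeometry MorphismProperty Opposite
open AlgSp Groth.Agent.Helper15

namespace Groth.Agent.Helper16.AS

variable {S : Scheme.{u}}

section Restrict

variable {G H : Sp S} {b : G ⟶ H} (sq : InfSq b) {B : Type u} [CommRing B] (φ : sq.A →+* B)

/-- The extended ideal. -/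
def rI : Ideal B := sq.I.map φ

theorem rI_sq : (rI sq φ) ^ 2 = ⊥ := by
  rw [rI, ← Ideal.map_pow, sq.sq_zero, Ideal.map_bot]

/-- `Spec B` over `S`. -/
noncomputable abbrev rT' : Over S := Over.mk (Spec.map (CommRingCat.ofHom φ) ≫ sq.str)

/-- `Spec (B / I B)` over `S`. -/
noncomputable abbrev rT : Over S :=
  Over.mk (Spec.map (CommRingCat.ofHom (Ideal.Quotient.mk (rI sq φ))) ≫
    Spec.map (CommRingCat.ofHom φ) ≫ sq.str)

noncomputable abbrev rj : rT sq φ ⟶ rT' sq φ :=
  Over.homMk (Spec.map (CommRingCat.ofHom (Ideal.Quotient.mk (rI sq φ)))) rfl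

noncomputable abbrev rc : rT' sq φ ⟶ sq.ptT' :=
  Over.homMk (Spec.map (CommRingCat.ofHom φ)) rfl

noncomputable abbrev rcbar : rT sq φ ⟶ sq.ptT :=
  Over.homMk (Spec.map (CommRingCat.ofHom
    (Ideal.quotientMap (rI sq φ) φ Ideal.le_comap_map))) (by
    change _ ≫ (_ ≫ _) = _ ≫ _ ≫ _
    rw [← Category.assoc, ← Category.assoc, ← Spec.map_comp, ← Spec.map_comp,
      ← CommRingCat.ofHom_comp, ← CommRingCat.ofHom_comp, Ideal.quotientMap_comp_mk])

theorem rj_rc : rj sq φ ≫ rc sq φ = rcbar sq φ ≫ sq.j := by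
  apply Over.OverMorphism.ext
  change Spec.map _ ≫ Spec.map _ = Spec.map _ ≫ Spec.map _
  rw [← Spec.map_comp, ← Spec.map_comp,
      ← CommRingCat.ofHom_comp, ← CommRingCat.ofHom_comp, Ideal.quotientMap_comp_mk]

/-- A square over the restricted thickening. -/
noncomputable def sqOver {F' G' : Sp S} {f' : F' ⟶ G'} (top : (yon S).obj (rT sq φ) ⟶ F')
    (bot : (yon S).obj (rT' sq φ) ⟶ G')
    (comm : top ≫ f' = (yon S).map (rj sq φ) ≫ bot) : InfSq f' where
  A := B
  I := rI sq φ
  sq_zero := rI_sq sq φ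
  str := Spec.map (CommRingCat.ofHom φ) ≫ sq.str
  top := top
  bot := bot
  comm := comm

end Restrict

/-- Key step for descent of uniqueness. -/
theorem restrict_eq_of_lift {F G H : Sp S} {a : F ⟶ G} {b : G ⟶ H}
    (ha : IsFormallySmoothMor a) (hab : IsFormallyUnramifiedMor (a ≫ b)) (sq : InfSq b)
    {l l' : (yon S).obj sq.ptT' ⟶ G}
    (h1 : (yon S).map sq.j ≫ l = sq.top) (h2 : l ≫ b = sq.bot)
    (h3 : (yon S).map sq.j ≫ l' = sq.top) (h4 : l' ≫ b = sq.bot)
    {B : Type u} [CommRing B] (φ : sq.A →+* B) (m : (yon S).obj (rT' sq φ) ⟶ F)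
    (hm : m ≫ a = (yon S).map (rc sq φ) ≫ l) :
    (yon S).map (rc sq φ) ≫ l = (yon S).map (rc sq φ) ≫ l' := by
  have hjc : (yon S).map (rj sq φ) ≫ (yon S).map (rc sq φ) ≫ l =
      (yon S).map (rj sq φ) ≫ (yon S).map (rc sq φ) ≫ l' := by
    rw [← Category.assoc, ← Category.assoc, ← Functor.map_comp, rj_rc, Functor.map_comp,
      Category.assoc, Category.assoc, h1, h3]
  -- lift `l'` through `a`
  obtain ⟨m', hm1', hm2'⟩ : ∃ m' : (yon S).obj (rT' sq φ) ⟶ F,
      (yon S).map (rj sq φ) ≫ m' = (yon S).map (rj sq φ) ≫ m ∧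
        m' ≫ a = (yon S).map (rc sq φ) ≫ l' :=
    ha (sqOver sq φ ((yon S).map (rj sq φ) ≫ m)
      ((yon S).map (rc sq φ) ≫ l') (by rw [Category.assoc, hm, hjc]))
  -- both `m` and `m'` are lifts for `a ≫ b`
  have e1 : m ≫ a ≫ b = (yon S).map (rc sq φ) ≫ sq.bot := by
    rw [← Category.assoc, hm, Category.assoc, h2]
  have e2 : m' ≫ a ≫ b = (yon S).map (rc sq φ) ≫ sq.bot := by
    rw [← Category.assoc, hm2', Category.assoc, h4]
  have key : m = m' := hab (sqOver sq φ ((yon S).map (rj sq φ) ≫ m)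
    ((yon S).map (rc sq φ) ≫ sq.bot) (by rw [Category.assoc, e1])) m m' rfl e1 hm1' e2
  rw [← hm, key]
  exact hm2'

/-- Uniqueness of lifts descends along a representable étale surjective map. -/
theorem isFormallyUnramifiedMor_of_comp {F G H : Sp S} {a : F ⟶ G} {b : G ⟶ H}
    (ha : RepWith @Etale a) (ha' : RepWith @Surjective a)
    (hab : IsFormallyUnramifiedMor (a ≫ b)) : IsFormallyUnramifiedMor b := by
  intro sq l l' h1 h2 h3 h4
  have hrep := ha.1
  have pb := hrep.isPullback l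
  have hse : Etale (hrep.snd l).left := ha.2 _ _ _ pb
  have hss : Surjective (hrep.snd l).left := ha'.2 _ _ _ pb
  have hbasis : ∀ w : (hrep.pullback l).left, ∃ U : (hrep.pullback l).left.Opens,
      IsAffineOpen U ∧ w ∈ U := by
    intro w
    obtain ⟨_, ⟨U, hU, rfl⟩, hwU, -⟩ :=
      (hrep.pullback l).left.isBasis_affineOpens.exists_subset_of_mem_open (Set.mem_univ w)
        isOpen_univ
    exact ⟨U, hU, hwU⟩
  choose U hU hwU using hbasis
  let φ : ∀ w, CommRingCat.of sq.A ⟶ Γ((hrep.pullback l).left, U w) := fun w =>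
    Spec.preimage ((hU w).fromSpec ≫ (hrep.snd l).left)
  have hφ : ∀ w, Spec.map (φ w) = (hU w).fromSpec ≫ (hrep.snd l).left := fun w =>
    Spec.map_preimage _
  refine yon_hom_ext_of_cover (fun w => rT' sq (φ w).hom) (fun w => rc sq (φ w).hom) ?_ ?_
  · have hφe : ∀ w, Etale (rc sq (φ w).hom).left := by
      intro w
      change Etale (Spec.map (φ w))
      rw [hφ w]
      infer_instance
    refine ofArrows_mem_J _ _ (fun w => ?_) (fun w => ?_) (fun t => ?_)
    · have := hφe w; infer_instance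
    · have := hφe w; infer_instance
    · obtain ⟨w, rfl⟩ := hss.surj t
      have hw : w ∈ Set.range (hU w).fromSpec := by
        rw [(hU w).range_fromSpec]; exact hwU w
      obtain ⟨y, hy⟩ := hw
      refine ⟨w, y, ?_⟩
      change (Spec.map (φ w)) y = _
      rw [hφ w, Scheme.Hom.comp_apply, hy]
  · intro w
    let ιw : rT' sq (φ w).hom ⟶ hrep.pullback l := Over.homMk ((hU w).fromSpec) (by
      have := Over.w (hrep.snd l)
      change _ = Spec.map (φ w) ≫ sq.str
      rw [hφ w, Category.assoc]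
      exact congrArg _ this.symm)
    have hι : ιw ≫ hrep.snd l = rc sq (φ w).hom := by
      apply Over.OverMorphism.ext
      exact (hφ w).symm
    refine restrict_eq_of_lift (isFormallyEtaleMor_iff.1 (isFormallyEtaleMor_of_repWith ha)).1
      hab sq h1 h2 h3 h4 (φ w).hom ((yon S).map ιw ≫ hrep.fst l) ?_
    rw [Category.assoc, pb.w, ← Category.assoc, ← Functor.map_comp, hι]

end Groth.Agent.Helper16.AS
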