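import Groth.Agent.Lib.Helper16.AlgSp.FormalSp2
import Groth.Agent.Lib.Helper15.AlgSpFibre

/-!
# Formal unramifiedness on charts
-/

set_option autoImplicit false
universe u
open CategoryTheory CategoryTheory.Limits AlgebraicGeometry MorphismProperty Opposite
open AlgSp Groth.Agent.Helper15

namespace Groth.Agent.Helper16.AS

variable {S : Scheme.{u}}

/-- Cancellation: if `u ≫ b` is formally unramified then so is `u`. -/
theorem isFormallyUnramifiedMor_of_comp_right {F G H : Sp S} {u : F ⟶ G} {b : G ⟶ H}
    (h : IsFormallyUnramifiedMor (u ≫ b)) : IsFormallyUnramifiedMor u := by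
  intro sq l l' h1 h2 h3 h4
  let sq' : InfSq (u ≫ b) :=
    { A := sq.A, I := sq.I, sq_zero := sq.sq_zero, str := sq.str, top := sq.top,
      bot := sq.bot ≫ b
      comm := by rw [← Category.assoc, sq.comm, Category.assoc] }
  exact h sq' l l' h1 (by rw [← Category.assoc]; erw [h2]) h3
    (by rw [← Category.assoc]; erw [h4])

/-- A morphism of schemes whose associated map of sheaves is formally unramified is formally
unramified. -/
theorem formallyUnramified_of_isFormallyUnramifiedMor_yon_map {U V : Over S} (h : U ⟶ V)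
    (hh : IsFormallyUnramifiedMor ((yon S).map h)) : FormallyUnramified h.left := by
  refine FormallyUnramified.of_hom_ext _ fun R R' φ hφ hker g₁ g₂ e1 e2 => ?_
  have hw : g₂ ≫ U.hom = g₁ ≫ U.hom := by
    rw [← Over.w h, ← Category.assoc, ← e2, Category.assoc]
  -- the quotient presentation of `φ`
  let I : Ideal R := RingHom.ker φ.hom
  let e : (R ⧸ I) ≃+* R' := RingHom.quotientKerEquivOfSurjective hφ
  have hfac : CommRingCat.ofHom (Ideal.Quotient.mk I) ≫ CommRingCat.ofHom e.toRingHom = φ := by
    ext x
    exact RingHom.quotientKerEquivOfSurjective_apply_mk hφ x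
  have e1' : Spec.map (CommRingCat.ofHom (Ideal.Quotient.mk I)) ≫ g₁ =
      Spec.map (CommRingCat.ofHom (Ideal.Quotient.mk I)) ≫ g₂ := by
    rw [← hfac, Spec.map_comp, Category.assoc, Category.assoc] at e1
    have : IsIso (Spec.map (CommRingCat.ofHom e.toRingHom)) := by
      have : IsIso (CommRingCat.ofHom e.toRingHom) := (e.toCommRingCatIso).isIso_hom
      infer_instance
    exact (cancel_epi _).1 e1
  let G₁ : Over.mk (g₁ ≫ U.hom) ⟶ U := Over.homMk g₁ rfl
  let G₂ : Over.mk (g₁ ≫ U.hom) ⟶ U := Over.homMk g₂ hw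
  let sq : InfSq ((yon S).map h) :=
    { A := R, I := I, sq_zero := hker, str := g₁ ≫ U.hom
      top := (yon S).map (Over.homMk (Spec.map (CommRingCat.ofHom (Ideal.Quotient.mk I)) ≫ g₁)
        (by simp))
      bot := (yon S).map (Over.homMk (g₁ ≫ h.left) (by simp))
      comm := by
        rw [← Functor.map_comp, ← Functor.map_comp]
        congr 1 }
  have key : (yon S).map G₁ = (yon S).map G₂ := by
    refine hh sq ((yon S).map G₁) ((yon S).map G₂) ?_ ?_ ?_ ?_
    · rw [← Functor.map_comp]; congr 1
    · rw [← Functor.map_comp]; congr 1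
    · rw [← Functor.map_comp]; congr 1
      apply Over.OverMorphism.ext
      exact e1'.symm
    · rw [← Functor.map_comp]; congr 1
      apply Over.OverMorphism.ext
      exact e2.symm
  exact congrArg CommaMorphism.left ((yon S).map_injective key)

theorem isFormallyUnramifiedMor_yon_map {U V : Over S} (h : U ⟶ V)
    (hh : FormallyUnramified h.left) : IsFormallyUnramifiedMor ((yon S).map h) :=
  isFormallyUnramifiedMor_of_repWith ((repWith_yon_map_iff _ _).2 hh)

theorem isFormallyUnramifiedMor_of_repWith_etale {F G : Sp S} {a : F ⟶ G}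
    (h : RepWith @Etale a) : IsFormallyUnramifiedMor a :=
  (isFormallyEtaleMor_iff.1 (isFormallyEtaleMor_of_repWith h)).2

/-- One surjective chart diagram suffices. -/
theorem isFormallyUnramifiedMor_of_chart {F G : Sp S} (f : F ⟶ G) {U V : Over S}
    (a : (yon S).obj U ⟶ F) (b : (yon S).obj V ⟶ G) (h : U ⟶ V)
    (ha : RepWith @Etale a) (ha' : RepWith @Surjective a) (hb : RepWith @Etale b)
    (w : a ≫ f = (yon S).map h ≫ b) (hh : FormallyUnramified h.left) :
    IsFormallyUnramifiedMor f := by
  refine isFormallyUnramifiedMor_of_comp ha ha' ?_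
  rw [w]
  exact isFormallyUnramifiedMor_comp (isFormallyUnramifiedMor_yon_map h hh)
    (isFormallyUnramifiedMor_of_repWith_etale hb)

theorem isFormallyUnramifiedMor_iff_locP {X Y : Sp S} (hX : IsAlgSpace X) (hY : IsAlgSpace Y)
    (f : X ⟶ Y) : IsFormallyUnramifiedMor f ↔ LocP @FormallyUnramified f := by
  constructor
  · intro hf U V a b h ha hb w
    apply formallyUnramified_of_isFormallyUnramifiedMor_yon_map
    apply isFormallyUnramifiedMor_of_comp_right (b := b)
    rw [← w]
    exact isFormallyUnramifiedMor_comp (isFormallyUnramifiedMor_of_repWith_etale ha) hf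
  · intro hf
    obtain ⟨V, q, hqe, hqs⟩ := hY.atlas
    obtain ⟨U, p, α, hpe, hps, w⟩ := exists_chart_lift hX f q hqe hqs
    exact isFormallyUnramifiedMor_of_chart f p q α hpe hps hqe w (hf p q α hpe hqe w)

end Groth.Agent.Helper16.AS
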