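import Groth.Agent.Lib.Helper16.AlgSp.FormalSp3

/-!
# Good local lifts and their restriction
-/

set_option autoImplicit false
universe u
open CategoryTheory CategoryTheory.Limits AlgebraicGeometry MorphismProperty Opposite
open AlgSp Groth.Agent.Helper15

namespace Groth.Agent.Helper16.AS

variable {S : Scheme.{u}}

/-- Gluing maps out of a representable sheaf along a covering family. -/
theorem exists_glue_yon {T : Over S} {G : Sp S} {ι : Type*} (V : ι → Over S) (g : ∀ i, V i ⟶ T)
    (hcov : Sieve.ofArrows V g ∈ (J S) T) (x : ∀ i, (yon S).obj (V i) ⟶ G)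
    (hx : ∀ i j (Z : Over S) (p : Z ⟶ V i) (p' : Z ⟶ V j), p ≫ g i = p' ≫ g j →
      (yon S).map p ≫ x i = (yon S).map p' ≫ x j) :
    ∃ l : (yon S).obj T ⟶ G, ∀ i, (yon S).map (g i) ≫ l = x i := by
  have hsh := ((isSheaf_iff_isSheaf_of_type _ _).1 G.cond) _ hcov
  have hsh' : (Presieve.ofArrows V g).IsSheafFor G.obj :=
    (Presieve.isSheafFor_iff_generate _).2 hsh
  rw [Presieve.isSheafFor_arrows_iff] at hsh'
  obtain ⟨t, ht, -⟩ := hsh' (fun i => yonEquiv (x i)) (by
    intro i j Z p p' hpp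
    have h1 := GrothendieckTopology.uliftYonedaEquiv_naturality (J S) (x i) p
    have h2 := GrothendieckTopology.uliftYonedaEquiv_naturality (J S) (x j) p'
    exact h1.trans ((congrArg yonEquiv (hx i j Z p p' hpp)).trans h2.symm))
  refine ⟨yonEquiv.symm t, fun i => ?_⟩
  apply (yonEquiv (T := V i) (F := G)).injective
  have h1 := GrothendieckTopology.uliftYonedaEquiv_naturality (J S) (yonEquiv.symm t) (g i)
  rw [← h1, Equiv.apply_symm_apply]
  exact ht i

section Good

variable {G H : Sp S} {b : G ⟶ H} (sq : InfSq b)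

section

variable {B : Type u} [CommRing B] (φ : sq.A →+* B)

/-- The restricted square. -/
noncomputable def sqRestrict : InfSq b :=
  sqOver sq φ ((yon S).map (rcbar sq φ) ≫ sq.top) ((yon S).map (rc sq φ) ≫ sq.bot) (by
    rw [Category.assoc, sq.comm, ← Category.assoc, ← Functor.map_comp, ← rj_rc, Functor.map_comp,
      Category.assoc])

/-- `g` is a lift of the restricted square. -/
def IsGood (g : (yon S).obj (rT' sq φ) ⟶ G) : Prop :=
  (yon S).map (rj sq φ) ≫ g = (yon S).map (rcbar sq φ) ≫ sq.top ∧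
    g ≫ b = (yon S).map (rc sq φ) ≫ sq.bot

variable {sq φ} in
theorem IsGood.unique (hb : IsFormallyUnramifiedMor b) {g g' : (yon S).obj (rT' sq φ) ⟶ G}
    (hg : IsGood sq φ g) (hg' : IsGood sq φ g') : g = g' :=
  hb (sqRestrict sq φ) g g' hg.1 hg.2 hg'.1 hg'.2

end

section Restr

variable {B B' : Type u} [CommRing B] [CommRing B'] (φ : sq.A →+* B) (φ' : sq.A →+* B')
  (θ : B →+* B') (hθ : θ.comp φ = φ')

include hθ in
theorem rI_le_comap : rI sq φ ≤ (rI sq φ').comap θ := by
  subst hθ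
  rw [rI, rI, ← Ideal.map_map]
  exact Ideal.le_comap_map

/-- The restriction map on the big thickenings. -/
noncomputable def rr : rT' sq φ' ⟶ rT' sq φ :=
  Over.homMk (Spec.map (CommRingCat.ofHom θ)) (by
    subst hθ
    change _ ≫ _ ≫ _ = _ ≫ _
    rw [← Category.assoc, ← Spec.map_comp, ← CommRingCat.ofHom_comp])

/-- The restriction map on the small thickenings. -/
noncomputable def rrbar : rT sq φ' ⟶ rT sq φ :=
  Over.homMk (Spec.map (CommRingCat.ofHom
    (Ideal.quotientMap (rI sq φ') θ (rI_le_comap sq φ φ' θ hθ)))) (by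
    subst hθ
    change _ ≫ _ ≫ _ ≫ _ = _ ≫ _ ≫ _
    simp only [← Category.assoc, ← Spec.map_comp, ← CommRingCat.ofHom_comp]
    rw [← RingHom.comp_assoc, Ideal.quotientMap_comp_mk, RingHom.comp_assoc])

theorem rj_rr : rj sq φ' ≫ rr sq φ φ' θ hθ = rrbar sq φ φ' θ hθ ≫ rj sq φ := by
  apply Over.OverMorphism.ext
  change Spec.map _ ≫ Spec.map _ = Spec.map _ ≫ Spec.map _
  rw [← Spec.map_comp, ← Spec.map_comp,
      ← CommRingCat.ofHom_comp, ← CommRingCat.ofHom_comp, Ideal.quotientMap_comp_mk]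

theorem rr_rc : rr sq φ φ' θ hθ ≫ rc sq φ = rc sq φ' := by
  apply Over.OverMorphism.ext
  change Spec.map _ ≫ Spec.map _ = Spec.map _
  rw [← Spec.map_comp, ← CommRingCat.ofHom_comp, hθ]

theorem rrbar_rcbar : rrbar sq φ φ' θ hθ ≫ rcbar sq φ = rcbar sq φ' := by
  apply Over.OverMorphism.ext
  change Spec.map _ ≫ Spec.map _ = Spec.map _
  rw [← Spec.map_comp, ← CommRingCat.ofHom_comp]
  congr 2
  apply Ideal.Quotient.ringHom_ext
  ext x
  subst hθ
  simp [Ideal.quotientMap_mk]

variable {sq φ} in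
theorem IsGood.restrict {g : (yon S).obj (rT' sq φ) ⟶ G} (hg : IsGood sq φ g) :
    IsGood sq φ' ((yon S).map (rr sq φ φ' θ hθ) ≫ g) := by
  refine ⟨?_, ?_⟩
  · rw [← Category.assoc, ← Functor.map_comp, rj_rr, Functor.map_comp, Category.assoc, hg.1,
      ← Category.assoc, ← Functor.map_comp, rrbar_rcbar]
  · rw [Category.assoc, hg.2, ← Category.assoc, ← Functor.map_comp, rr_rc]

end Restr

end Good

end Groth.Agent.Helper16.AS
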