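import Groth.Agent.Lib.Helper16.AlgSp.FormalSp4
import Groth.Agent.Lib.Helper16.Alg.EtLift

/-!
# Descent of formal étaleness along a representable étale surjection
-/

set_option autoImplicit false
universe u
open CategoryTheory CategoryTheory.Limits AlgebraicGeometry MorphismProperty Opposite
open AlgSp Groth.Agent.Helper15

namespace Groth.Agent.Helper16.AS

variable {S : Scheme.{u}}

/-- Local existence of good lifts. -/
theorem exists_good_local {F G H : Sp S} {a : F ⟶ G} {b : G ⟶ H}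
    (hab : IsFormallySmoothMor (a ≫ b)) (sq : InfSq b)
    {W : Over S} {fst : (yon S).obj W ⟶ F} {snd : W ⟶ sq.ptT}
    (pbw : fst ≫ a = (yon S).map snd ≫ sq.top)
    {C : Type u} [CommRing C] (ψ : sq.A ⧸ sq.I →+* C) (hψ : ψ.Etale)
    (ιC : Spec (.of C) ⟶ W.left) (hι : ιC ≫ snd.left = Spec.map (CommRingCat.ofHom ψ)) :
    ∃ (E : CommRingCat.{u}) (φ : sq.A →+* E) (g : (yon S).obj (rT' sq φ) ⟶ G)
      (ε : Spec (.of C) ⟶ (rT sq φ).left),
      Etale (Spec.map (CommRingCat.ofHom φ)) ∧ IsGood sq φ g ∧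
        ε ≫ (rcbar sq φ).left = Spec.map (CommRingCat.ofHom ψ) ∧ IsIso ε := by
  letI : Algebra (sq.A ⧸ sq.I) C := ψ.toAlgebra
  letI : Algebra sq.A C := (ψ.comp (Ideal.Quotient.mk sq.I)).toAlgebra
  haveI : IsScalarTower sq.A (sq.A ⧸ sq.I) C := IsScalarTower.of_algebraMap_eq (fun x => rfl)
  haveI : Algebra.Etale (sq.A ⧸ sq.I) C := hψ
  obtain ⟨E, _, _, ρ, hE, hρ, hker⟩ := Groth.Agent.Helper16.Alg.exists_etale_lift
    (P := sq.A) (A := sq.A ⧸ sq.I) (B := C) Ideal.Quotient.mk_surjective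
  let φ : sq.A →+* E := algebraMap sq.A E
  have hker' : rI sq φ = RingHom.ker ρ.toRingHom := by
    rw [hker, rI]
    congr 1
    exact (Ideal.mk_ker (I := sq.I)).symm
  have hρφ : ∀ x : sq.A, ρ (φ x) = ψ (Ideal.Quotient.mk sq.I x) := fun x => ρ.commutes x
  let e : (E ⧸ rI sq φ) ≃+* C :=
    (Ideal.quotEquivOfEq hker').trans (RingHom.quotientKerEquivOfSurjective (f := ρ.toRingHom) hρ)
  have he : ∀ x : E, e (Ideal.Quotient.mk _ x) = ρ x := fun x => rfl
  -- ring identities
  have hid1 : e.symm.toRingHom.comp ψ =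
      Ideal.quotientMap (rI sq φ) φ Ideal.le_comap_map := by
    apply Ideal.Quotient.ringHom_ext
    ext x
    simp only [RingHom.coe_comp, Function.comp_apply, Ideal.quotientMap_mk]
    change e.symm (ψ (Ideal.Quotient.mk sq.I x)) = _
    rw [← hρφ, ← he, RingEquiv.symm_apply_apply]
  have hid2 : e.toRingHom.comp (Ideal.quotientMap (rI sq φ) φ Ideal.le_comap_map) = ψ := by
    rw [← hid1, ← RingHom.comp_assoc]
    ext x
    simp
  refine ⟨.of E, φ, ?_⟩
  -- the map `rT ⟶ W`
  let τ : rT sq φ ⟶ W := Over.homMk (Spec.map (CommRingCat.ofHom e.symm.toRingHom) ≫ ιC) (by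
    have hW := Over.w snd
    rw [Category.assoc, ← hW, ← Category.assoc ιC, hι]
    change _ ≫ _ ≫ _ ≫ _ = _ ≫ _ ≫ _
    simp only [← Category.assoc, ← Spec.map_comp, ← CommRingCat.ofHom_comp]
    rw [← RingHom.comp_assoc, hid1, Ideal.quotientMap_comp_mk])
  have hτ : τ ≫ snd = rcbar sq φ := by
    apply Over.OverMorphism.ext
    change (Spec.map _ ≫ ιC) ≫ snd.left = Spec.map _
    rw [Category.assoc, hι, ← Spec.map_comp, ← CommRingCat.ofHom_comp, hid1]
  have hcomm : ((yon S).map τ ≫ fst) ≫ (a ≫ b) =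
      (yon S).map (rj sq φ) ≫ (yon S).map (rc sq φ) ≫ sq.bot := by
    rw [Category.assoc, ← Category.assoc fst, pbw, Category.assoc, sq.comm, ← Category.assoc,
      ← Category.assoc, ← Category.assoc, ← Functor.map_comp, ← Functor.map_comp, hτ, ← rj_rc,
      Functor.map_comp, Category.assoc]
  obtain ⟨m, hm1, hm2⟩ : ∃ m : (yon S).obj (rT' sq φ) ⟶ F,
      (yon S).map (rj sq φ) ≫ m = (yon S).map τ ≫ fst ∧
        m ≫ a ≫ b = (yon S).map (rc sq φ) ≫ sq.bot :=
    hab (sqOver sq φ ((yon S).map τ ≫ fst) ((yon S).map (rc sq φ) ≫ sq.bot) hcomm)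
  refine ⟨m ≫ a, Spec.map (CommRingCat.ofHom e.toRingHom), ?_, ⟨?_, ?_⟩, ?_, ?_⟩
  · rw [HasRingHomProperty.Spec_iff (P := @Etale)]
    exact RingHom.etale_algebraMap.2 hE
  · rw [← Category.assoc, hm1, Category.assoc, pbw, ← Category.assoc, ← Functor.map_comp, hτ]
  · rw [Category.assoc, hm2]
  · change Spec.map _ ≫ Spec.map _ = _
    rw [← Spec.map_comp, ← CommRingCat.ofHom_comp, hid2]
  · have : IsIso (CommRingCat.ofHom e.toRingHom) := (e.toCommRingCatIso).isIso_hom
    infer_instance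

/-- Compatibility of good lifts on overlaps. -/
theorem good_compatible {G H : Sp S} {b : G ⟶ H} (hb : IsFormallyUnramifiedMor b) (sq : InfSq b)
    {E E' : CommRingCat.{u}} (φ : sq.A →+* E) (φ' : sq.A →+* E')
    {g : (yon S).obj (rT' sq φ) ⟶ G} {g' : (yon S).obj (rT' sq φ') ⟶ G}
    (hg : IsGood sq φ g) (hg' : IsGood sq φ' g') (Z : Over S) (p : Z ⟶ rT' sq φ)
    (p' : Z ⟶ rT' sq φ') (hpp : p ≫ rc sq φ = p' ≫ rc sq φ') :
    (yon S).map p ≫ g = (yon S).map p' ≫ g' := by
  have hbasis : ∀ z : Z.left, ∃ U : Z.left.Opens, IsAffineOpen U ∧ z ∈ U := by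
    intro z
    obtain ⟨_, ⟨U, hU, rfl⟩, hzU, -⟩ :=
      Z.left.isBasis_affineOpens.exists_subset_of_mem_open (Set.mem_univ z) isOpen_univ
    exact ⟨U, hU, hzU⟩
  choose U hU hzU using hbasis
  let θ : ∀ z, E ⟶ Γ(Z.left, U z) := fun z => Spec.preimage ((hU z).fromSpec ≫ p.left)
  let θ' : ∀ z, E' ⟶ Γ(Z.left, U z) := fun z => Spec.preimage ((hU z).fromSpec ≫ p'.left)
  have hθ : ∀ z, Spec.map (θ z) = (hU z).fromSpec ≫ p.left := fun z => Spec.map_preimage _
  have hθ' : ∀ z, Spec.map (θ' z) = (hU z).fromSpec ≫ p'.left := fun z => Spec.map_preimage _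
  have hpp' : p.left ≫ Spec.map (CommRingCat.ofHom φ) = p'.left ≫ Spec.map (CommRingCat.ofHom φ') :=
    congrArg CommaMorphism.left hpp
  have hθθ : ∀ z, (θ' z).hom.comp φ' = (θ z).hom.comp φ := by
    intro z
    have h1 : Spec.map (CommRingCat.ofHom ((θ' z).hom.comp φ')) =
        Spec.map (CommRingCat.ofHom ((θ z).hom.comp φ)) := by
      rw [CommRingCat.ofHom_comp, CommRingCat.ofHom_comp, Spec.map_comp, Spec.map_comp,
        CommRingCat.ofHom_hom, CommRingCat.ofHom_hom, hθ, hθ', Category.assoc, Category.assoc, hpp']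
    have h2 := Spec.map_injective h1
    exact congrArg CommRingCat.Hom.hom h2
  let κ : ∀ z, rT' sq ((θ z).hom.comp φ) ⟶ Z := fun z => Over.homMk ((hU z).fromSpec) (by
    have hZ := Over.w p
    change _ = Spec.map _ ≫ sq.str
    rw [← hZ, ← Category.assoc, ← hθ]
    change _ ≫ _ ≫ _ = _
    rw [← Category.assoc, ← CommRingCat.ofHom_hom (θ z), ← Spec.map_comp, ← CommRingCat.ofHom_comp])
  have hκ1 : ∀ z, κ z ≫ p = rr sq φ ((θ z).hom.comp φ) (θ z).hom rfl := by
    intro z
    apply Over.OverMorphism.ext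
    change (hU z).fromSpec ≫ p.left = Spec.map (CommRingCat.ofHom (θ z).hom)
    rw [CommRingCat.ofHom_hom, hθ]
  have hκ2 : ∀ z, κ z ≫ p' = rr sq φ' ((θ z).hom.comp φ) (θ' z).hom (hθθ z) := by
    intro z
    apply Over.OverMorphism.ext
    change (hU z).fromSpec ≫ p'.left = Spec.map (CommRingCat.ofHom (θ' z).hom)
    rw [CommRingCat.ofHom_hom, hθ']
  refine yon_hom_ext_of_cover (fun z => rT' sq ((θ z).hom.comp φ)) κ ?_ ?_
  · refine ofArrows_mem_J _ _ (fun z => ?_) (fun z => ?_) (fun z => ?_)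
    · change Flat (hU z).fromSpec; infer_instance
    · change LocallyOfFinitePresentation (hU z).fromSpec; infer_instance
    · have hz : z ∈ Set.range (hU z).fromSpec := by
        rw [(hU z).range_fromSpec]; exact hzU z
      obtain ⟨y, hy⟩ := hz
      exact ⟨z, y, hy⟩
  · intro z
    rw [← Category.assoc, ← Category.assoc, ← Functor.map_comp, ← Functor.map_comp, hκ1, hκ2]
    exact IsGood.unique hb (hg.restrict _ _ _) (hg'.restrict _ _ _)

/-- Formal étaleness descends along a representable étale surjective map. -/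
theorem isFormallyEtaleMor_of_comp {F G H : Sp S} {a : F ⟶ G} {b : G ⟶ H}
    (ha : RepWith @Etale a) (ha' : RepWith @Surjective a)
    (hab : IsFormallyEtaleMor (a ≫ b)) : IsFormallyEtaleMor b := by
  have hb : IsFormallyUnramifiedMor b :=
    isFormallyUnramifiedMor_of_comp ha ha' (isFormallyEtaleMor_iff.1 hab).2
  refine isFormallyEtaleMor_iff.2 ⟨fun sq => ?_, hb⟩
  have hrep := ha.1
  have pb := hrep.isPullback sq.top
  have hse : Etale (hrep.snd sq.top).left := ha.2 _ _ _ pb
  have hss : Surjective (hrep.snd sq.top).left := ha'.2 _ _ _ pb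
  have hbasis : ∀ w : (hrep.pullback sq.top).left, ∃ U : (hrep.pullback sq.top).left.Opens,
      IsAffineOpen U ∧ w ∈ U := by
    intro w
    obtain ⟨_, ⟨U, hU, rfl⟩, hwU, -⟩ :=
      (hrep.pullback sq.top).left.isBasis_affineOpens.exists_subset_of_mem_open (Set.mem_univ w)
        isOpen_univ
    exact ⟨U, hU, hwU⟩
  choose U hU hwU using hbasis
  let ψ : ∀ w, CommRingCat.of (sq.A ⧸ sq.I) ⟶ Γ((hrep.pullback sq.top).left, U w) := fun w =>
    Spec.preimage ((hU w).fromSpec ≫ (hrep.snd sq.top).left)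
  have hψ : ∀ w, Spec.map (ψ w) = (hU w).fromSpec ≫ (hrep.snd sq.top).left := fun w =>
    Spec.map_preimage _
  have hψe : ∀ w, (ψ w).hom.Etale := by
    intro w
    rw [← HasRingHomProperty.Spec_iff (P := @Etale), hψ]
    infer_instance
  have hloc := fun w => exists_good_local (isFormallyEtaleMor_iff.1 hab).1 sq pb.w (ψ w).hom
    (hψe w) (hU w).fromSpec (by rw [CommRingCat.ofHom_hom, hψ])
  choose E φ g ε hE hg hε hεiso using hloc
  -- the covering
  have hjsurj : Function.Surjective sq.j.left :=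
    Groth.Agent.Helper3.FormEt.specMap_surjective_of_ker_sq
      (CommRingCat.ofHom (Ideal.Quotient.mk sq.I)) Ideal.Quotient.mk_surjective
      (by simpa using sq.sq_zero)
  have hcov : Sieve.ofArrows (fun w => rT' sq (φ w)) (fun w => rc sq (φ w)) ∈ (J S) sq.ptT' := by
    refine ofArrows_mem_J _ _ (fun w => ?_) (fun w => ?_) (fun t' => ?_)
    · have := hE w; change Flat (Spec.map _); infer_instance
    · have := hE w; change LocallyOfFinitePresentation (Spec.map _); infer_instance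
    · obtain ⟨t, rfl⟩ := hjsurj t'
      obtain ⟨w, rfl⟩ := hss.surj t
      have hw : w ∈ Set.range (hU w).fromSpec := by
        rw [(hU w).range_fromSpec]; exact hwU w
      obtain ⟨y, hy⟩ := hw
      refine ⟨w, (rj sq (φ w)).left (ε w y), ?_⟩
      have h1 := congrArg CommaMorphism.left (rj_rc sq (φ w))
      have h2 : (rj sq (φ w)).left ≫ (rc sq (φ w)).left =
          (rcbar sq (φ w)).left ≫ sq.j.left := h1
      rw [← Scheme.Hom.comp_apply, h2, Scheme.Hom.comp_apply, ← Scheme.Hom.comp_apply (ε w),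
        hε w, CommRingCat.ofHom_hom, hψ, Scheme.Hom.comp_apply, hy]
  obtain ⟨l, hl⟩ := exists_glue_yon _ _ hcov g (fun w w' Z p p' hpp =>
    good_compatible hb sq (φ w) (φ w') (hg w) (hg w') Z p p' hpp)
  refine ⟨l, ?_, ?_⟩
  · -- restriction to `T`
    have hcovT : Sieve.ofArrows (fun w => rT sq (φ w)) (fun w => rcbar sq (φ w)) ∈
        (J S) sq.ptT := by
      have hrc : ∀ w, (rcbar sq (φ w)).left =
          inv (ε w) ≫ (hU w).fromSpec ≫ (hrep.snd sq.top).left := by
        intro w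
        rw [← hψ, ← CommRingCat.ofHom_hom (ψ w), ← hε w, IsIso.inv_hom_id_assoc]
      have hrce : ∀ w, Etale (rcbar sq (φ w)).left := by
        intro w
        rw [hrc w]
        infer_instance
      refine ofArrows_mem_J _ _ (fun w => ?_) (fun w => ?_) (fun t => ?_)
      · have := hrce w; infer_instance
      · have := hrce w; infer_instance
      · obtain ⟨w, rfl⟩ := hss.surj t
        have hw : w ∈ Set.range (hU w).fromSpec := by
          rw [(hU w).range_fromSpec]; exact hwU w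
        obtain ⟨y, hy⟩ := hw
        refine ⟨w, ε w y, ?_⟩
        rw [← Scheme.Hom.comp_apply, hε w, CommRingCat.ofHom_hom, hψ, Scheme.Hom.comp_apply, hy]
    refine yon_hom_ext_of_cover _ _ hcovT (fun w => ?_)
    rw [← Category.assoc, ← Functor.map_comp, ← rj_rc, Functor.map_comp, Category.assoc, hl,
      (hg w).1]
  · refine yon_hom_ext_of_cover _ _ hcov (fun w => ?_)
    rw [← Category.assoc, hl, (hg w).2]

end Groth.Agent.Helper16.AS
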