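import Groth.Agent.Lib.Helper16.AlgSp.FormalSp6

/-!
# Lifting along first order thickenings of algebraic spaces: charts
-/

set_option autoImplicit false
universe u
open CategoryTheory CategoryTheory.Limits AlgebraicGeometry MorphismProperty Opposite
open AlgSp Groth.Agent.Helper15

namespace Groth.Agent.Helper16.AS

variable {S : Scheme.{u}}

/-- On an affine étale chart of a first order thickening, the lifting problem becomes an
infinitesimal lifting square. -/
theorem exists_infSq_of_chart {T T' X Y : Sp S} {j : T ⟶ T'} (hj : IsFOThickMor j) (f : X ⟶ Y)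
    (a : T ⟶ X) (b : T' ⟶ Y) (w : a ≫ f = j ≫ b) (A : CommRingCat.{u}) (str : Spec A ⟶ S)
    (c : (yon S).obj (Over.mk str) ⟶ T') (hc : RepWith @Etale c) {W : Over S}
    {fst : (yon S).obj W ⟶ T} {snd : W ⟶ Over.mk str} (pb : IsPullback fst ((yon S).map snd) j c) :
    ∃ sq : InfSq f,
      (sq.HasLift → ∃ m : (yon S).obj (Over.mk str) ⟶ X,
        (yon S).map snd ≫ m = fst ≫ a ∧ m ≫ f = c ≫ b) ∧
      (sq.HasUniq → ∀ m m' : (yon S).obj (Over.mk str) ⟶ X,
        (yon S).map snd ≫ m = fst ≫ a → m ≫ f = c ≫ b →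
        (yon S).map snd ≫ m' = fst ≫ a → m' ≫ f = c ≫ b → m = m') := by
  have hthick : thick snd.left := hj.1.2 c fst snd pb
  have hsq0 : sqZero snd.left := hj.2 c fst snd (by change IsAffine (Spec A); infer_instance) hc pb
  have hcl : IsClosedImmersion snd.left := hthick.1
  obtain ⟨I, e, he⟩ := IsClosedImmersion.Spec_iff.1 hcl
  have hI : I ^ 2 = ⊥ := Groth.Agent.Helper3.FormEt.sq_eq_bot_of_ker I snd.left e he hsq0
  -- the iso `Spec (A/I) ≅ W` over `S`
  let ε : Over.mk (Spec.map (CommRingCat.ofHom (Ideal.Quotient.mk I)) ≫ str) ⟶ W :=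
    Over.homMk e.inv (by
      have hW := Over.w snd
      change e.inv ≫ W.hom = _
      rw [← hW, ← Category.assoc, he, Iso.inv_hom_id_assoc]
      rfl)
  have hεiso : IsIso ε := by
    have : IsIso ((Over.forget S).map ε) := by change IsIso e.inv; infer_instance
    exact isIso_of_reflects_iso ε (Over.forget S)
  let jj : Over.mk (Spec.map (CommRingCat.ofHom (Ideal.Quotient.mk I)) ≫ str) ⟶ Over.mk str :=
    Over.homMk (Spec.map (CommRingCat.ofHom (Ideal.Quotient.mk I))) rfl
  have hεsnd : ε ≫ snd = jj := by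
    apply Over.OverMorphism.ext
    change e.inv ≫ snd.left = _
    rw [he, Iso.inv_hom_id_assoc]
    rfl
  let sq : InfSq f :=
    { A := A, I := I, sq_zero := hI, str := str
      top := (yon S).map ε ≫ fst ≫ a
      bot := c ≫ b
      comm := by
        rw [Category.assoc, Category.assoc, w, ← Category.assoc fst, pb.w, Category.assoc,
          ← Category.assoc, ← Functor.map_comp, hεsnd] }
  have hcancel : ∀ m : (yon S).obj (Over.mk str) ⟶ X,
      (yon S).map jj ≫ m = (yon S).map ε ≫ fst ≫ a ↔ (yon S).map snd ≫ m = fst ≫ a := by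
    intro m
    rw [← hεsnd, Functor.map_comp, Category.assoc]
    have : IsIso ((yon S).map ε) := inferInstance
    exact cancel_epi _
  refine ⟨sq, ?_, ?_⟩
  · rintro ⟨m, hm1, hm2⟩
    exact ⟨m, (hcancel m).1 hm1, hm2⟩
  · intro hu m m' h1 h2 h3 h4
    exact hu m m' ((hcancel m).2 h1) h2 ((hcancel m').2 h3) h4

/-- Affine open charts of a scheme, as objects over `S`. -/
theorem exists_affine_charts (V : Over S) :
    ∃ (A : V.left → CommRingCat.{u}) (str : ∀ v, Spec (A v) ⟶ S)
      (ι : ∀ v, Over.mk (str v) ⟶ V),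
      (∀ v, IsOpenImmersion (ι v).left) ∧ (∀ v, v ∈ Set.range (ι v).left) := by
  have hbasis : ∀ v : V.left, ∃ U : V.left.Opens, IsAffineOpen U ∧ v ∈ U := by
    intro v
    obtain ⟨_, ⟨U, hU, rfl⟩, hvU, -⟩ :=
      V.left.isBasis_affineOpens.exists_subset_of_mem_open (Set.mem_univ v) isOpen_univ
    exact ⟨U, hU, hvU⟩
  choose U hU hvU using hbasis
  refine ⟨fun v => Γ(V.left, U v), fun v => (hU v).fromSpec ≫ V.hom,
    fun v => Over.homMk (hU v).fromSpec rfl, fun v => ?_, fun v => ?_⟩
  · change IsOpenImmersion (hU v).fromSpec; infer_instance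
  · change v ∈ Set.range (hU v).fromSpec
    rw [(hU v).range_fromSpec]; exact hvU v

/-- Maps out of an algebraic space agree if they agree on all affine étale charts. -/
theorem hom_ext_of_affine_charts {T' X : Sp S} (hT' : IsAlgSpace T') {l l' : T' ⟶ X}
    (h : ∀ (A : CommRingCat.{u}) (str : Spec A ⟶ S) (c : (yon S).obj (Over.mk str) ⟶ T'),
      RepWith @Etale c → c ≫ l = c ≫ l') : l = l' := by
  obtain ⟨V, p, hpe, hps⟩ := hT'.atlas
  have : Sheaf.IsLocallySurjective p :=
    isLocallySurjective_of_repWith p (repWith_mono (fun _ _ f hf => by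
      have : Etale f := hf; infer_instance) hpe)
      (repWith_mono (fun _ _ f hf => by have : Etale f := hf; infer_instance) hpe) hps
  rw [← cancel_epi p]
  obtain ⟨A, str, ι, hι, hcov⟩ := exists_affine_charts V
  refine yon_hom_ext_of_cover (fun v => Over.mk (str v)) ι ?_ (fun v => ?_)
  · refine ofArrows_mem_J _ _ (fun v => ?_) (fun v => ?_) (fun v => ?_)
    · have := hι v; infer_instance
    · have := hι v; infer_instance
    · obtain ⟨y, hy⟩ := hcov v
      exact ⟨v, y, hy⟩
  · rw [← Category.assoc, ← Category.assoc]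
    refine h (A v) (str v) _ ?_
    refine (RepWith @Etale).comp_mem _ _ ((repWith_yon_map_iff _ _).2 ?_) hpe
    have := hι v
    change Etale (ι v).left
    infer_instance

/-- Uniqueness of lifts along first order thickenings of algebraic spaces. -/
theorem lift_unique_of_foThick {T T' X Y : Sp S} (hT' : IsAlgSpace T') {j : T ⟶ T'}
    (hj : IsFOThickMor j) (f : X ⟶ Y) (hf : IsFormallyUnramifiedMor f) (a : T ⟶ X) (b : T' ⟶ Y)
    (w : a ≫ f = j ≫ b) (l l' : T' ⟶ X) (h1 : j ≫ l = a) (h2 : l ≫ f = b) (h3 : j ≫ l' = a)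
    (h4 : l' ≫ f = b) : l = l' := by
  refine hom_ext_of_affine_charts hT' (fun A str c hc => ?_)
  have hrep := hj.1.1
  have pb := hrep.isPullback c
  obtain ⟨sq, -, hu⟩ := exists_infSq_of_chart hj f a b w A str c hc pb
  refine hu (hf sq) (c ≫ l) (c ≫ l') ?_ ?_ ?_ ?_
  · rw [← Category.assoc, ← pb.w, Category.assoc, h1]
  · rw [Category.assoc, h2]
  · rw [← Category.assoc, ← pb.w, Category.assoc, h3]
  · rw [Category.assoc, h4]

end Groth.Agent.Helper16.AS
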