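import Groth.Agent.Lib.Helper16.AlgSp.FormalSp7
import Mathlib.CategoryTheory.Sites.RegularEpi

/-!
# Existence of lifts along first order thickenings of algebraic spaces
-/

set_option autoImplicit false
universe u
open CategoryTheory CategoryTheory.Limits AlgebraicGeometry MorphismProperty Opposite
open AlgSp Groth.Agent.Helper15

namespace Groth.Agent.Helper16.AS

variable {S : Scheme.{u}}

/-- Gluing maps out of a representable sheaf along a covering family (pullback form). -/
theorem exists_glue_yon_pullback {T : Over S} {G : Sp S} {ι : Type*} (V : ι → Over S)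
    (g : ∀ i, V i ⟶ T)
    (hcov : Sieve.ofArrows V g ∈ (J S) T) (x : ∀ i, (yon S).obj (V i) ⟶ G)
    (hx : ∀ i j, (yon S).map (pullback.fst (g i) (g j)) ≫ x i =
      (yon S).map (pullback.snd (g i) (g j)) ≫ x j) :
    ∃ l : (yon S).obj T ⟶ G, ∀ i, (yon S).map (g i) ≫ l = x i := by
  have hsh := ((isSheaf_iff_isSheaf_of_type _ _).1 G.cond) _ hcov
  have hsh' : (Presieve.ofArrows V g).IsSheafFor G.obj :=
    (Presieve.isSheafFor_iff_generate _).2 hsh
  rw [Presieve.isSheafFor_arrows_iff_pullbacks] at hsh'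
  obtain ⟨t, ht, -⟩ := hsh' (fun i => yonEquiv (x i)) (by
    intro i j
    have h1 := GrothendieckTopology.uliftYonedaEquiv_naturality (J S) (x i)
      (pullback.fst (g i) (g j))
    have h2 := GrothendieckTopology.uliftYonedaEquiv_naturality (J S) (x j)
      (pullback.snd (g i) (g j))
    exact h1.trans ((congrArg yonEquiv (hx i j)).trans h2.symm))
  refine ⟨yonEquiv.symm t, fun i => ?_⟩
  apply (yonEquiv (T := V i) (F := G)).injective
  have h1 := GrothendieckTopology.uliftYonedaEquiv_naturality (J S) (yonEquiv.symm t) (g i)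
  rw [← h1, Equiv.apply_symm_apply]
  exact ht i

/-- Descent of maps of sheaves along a locally surjective map. -/
theorem exists_desc_of_isLocallySurjective {F T' X : Sp S} (p : F ⟶ T')
    [Sheaf.IsLocallySurjective p] (m : F ⟶ X)
    (hm : ∀ (R : Over S) (s s' : (yon S).obj R ⟶ F), s ≫ p = s' ≫ p → s ≫ m = s' ≫ m) :
    ∃ l : T' ⟶ X, p ≫ l = m := by
  have : IsRegularEpi p := IsRegularEpiCategory.regularEpiOfEpi p
  have : EffectiveEpi p := inferInstance
  have key : ∀ {Z : Sp S} (g₁ g₂ : Z ⟶ F), g₁ ≫ p = g₂ ≫ p → g₁ ≫ m = g₂ ≫ m := by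
    intro Z g₁ g₂ hg
    apply hom_ext_yon
    intro R s
    rw [← Category.assoc, ← Category.assoc]
    apply hm
    rw [Category.assoc, Category.assoc, hg]
  exact ⟨EffectiveEpi.desc p m key, EffectiveEpi.fac p m key⟩

section LocalLift

variable {T T' X Y : Sp S} (j : T ⟶ T') (f : X ⟶ Y) (a : T ⟶ X) (b : T' ⟶ Y)

/-- `m` is a lift over the chart `c`. -/
def IsLocalLift {V : Over S} (c : (yon S).obj V ⟶ T') (m : (yon S).obj V ⟶ X) : Prop :=
  (∀ ⦃W : Over S⦄ (fst : (yon S).obj W ⟶ T) (snd : W ⟶ V),
    IsPullback fst ((yon S).map snd) j c → (yon S).map snd ≫ m = fst ≫ a) ∧ m ≫ f = c ≫ b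

variable {j f a b}

theorem IsLocalLift.restrict (hrep : Representable j) {V V₁ : Over S} (ι : V₁ ⟶ V)
    {c : (yon S).obj V ⟶ T'} {m : (yon S).obj V ⟶ X} (h : IsLocalLift j f a b c m) :
    IsLocalLift j f a b ((yon S).map ι ≫ c) ((yon S).map ι ≫ m) := by
  refine ⟨fun W₁ fst₁ snd₁ pb₁ => ?_, by rw [Category.assoc, h.2, Category.assoc]⟩
  have pb := hrep.isPullback c
  have hw : fst₁ ≫ j = ((yon S).map snd₁ ≫ (yon S).map ι) ≫ c := by
    rw [pb₁.w, Category.assoc]
  have e1 : pb.lift fst₁ ((yon S).map snd₁ ≫ (yon S).map ι) hw ≫ hrep.fst c = fst₁ :=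
    pb.lift_fst _ _ _
  have e2 : pb.lift fst₁ ((yon S).map snd₁ ≫ (yon S).map ι) hw ≫ (yon S).map (hrep.snd c) =
      (yon S).map snd₁ ≫ (yon S).map ι := pb.lift_snd _ _ _
  rw [← Category.assoc, ← e2, Category.assoc, h.1 _ _ pb, ← Category.assoc, e1]

theorem IsLocalLift.of_eq {V : Over S} {c c' : (yon S).obj V ⟶ T'} (hc : c = c')
    {m : (yon S).obj V ⟶ X} (h : IsLocalLift j f a b c m) : IsLocalLift j f a b c' m := by
  subst hc; exact h

/-- Local lifts on étale charts are unique. -/
theorem IsLocalLift.unique (hj : IsFOThickMor j) (hf : IsFormallyUnramifiedMor f)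
    (w : a ≫ f = j ≫ b) {V : Over S} {c : (yon S).obj V ⟶ T'} (hc : RepWith @Etale c)
    {m m' : (yon S).obj V ⟶ X} (h : IsLocalLift j f a b c m) (h' : IsLocalLift j f a b c m') :
    m = m' := by
  have hrep := hj.1.1
  obtain ⟨A, str, ι, hι, hcov⟩ := exists_affine_charts V
  refine yon_hom_ext_of_cover (fun v => Over.mk (str v)) ι ?_ (fun v => ?_)
  · refine ofArrows_mem_J _ _ (fun v => ?_) (fun v => ?_) (fun v => ?_)
    · have := hι v; infer_instance
    · have := hι v; infer_instance
    · obtain ⟨y, hy⟩ := hcov v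
      exact ⟨v, y, hy⟩
  · have hcv : RepWith @Etale ((yon S).map (ι v) ≫ c) := by
      refine (RepWith @Etale).comp_mem _ _ ((repWith_yon_map_iff _ _).2 ?_) hc
      have := hι v
      change Etale (ι v).left
      infer_instance
    have pb := hrep.isPullback ((yon S).map (ι v) ≫ c)
    obtain ⟨sq, -, hu⟩ := exists_infSq_of_chart hj f a b w (A v) (str v) _ hcv pb
    have r := h.restrict hrep (ι v)
    have r' := h'.restrict hrep (ι v)
    exact hu (hf sq) _ _ (r.1 _ _ pb) r.2 (r'.1 _ _ pb) r'.2

/-- Local lifts exist on affine étale charts. -/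
theorem exists_isLocalLift_affine (hj : IsFOThickMor j) (hf : IsFormallySmoothMor f)
    (w : a ≫ f = j ≫ b) (A : CommRingCat.{u}) (str : Spec A ⟶ S)
    (c : (yon S).obj (Over.mk str) ⟶ T') (hc : RepWith @Etale c) :
    ∃ m, IsLocalLift j f a b c m := by
  have hrep := hj.1.1
  have pb := hrep.isPullback c
  obtain ⟨sq, hl, -⟩ := exists_infSq_of_chart hj f a b w A str c hc pb
  obtain ⟨m, hm1, hm2⟩ := hl (hf sq)
  refine ⟨m, fun W fst snd pb' => ?_, hm2⟩
  have e1 : (pb'.isoIsPullback _ _ pb).hom ≫ hrep.fst c = fst := pb'.isoIsPullback_hom_fst _ _ pb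
  have e2 : (pb'.isoIsPullback _ _ pb).hom ≫ (yon S).map (hrep.snd c) = (yon S).map snd :=
    pb'.isoIsPullback_hom_snd _ _ pb
  rw [← e2, Category.assoc, hm1, ← Category.assoc, e1]

end LocalLift

section Global

variable {T T' X Y : Sp S} {j : T ⟶ T'} {f : X ⟶ Y} {a : T ⟶ X} {b : T' ⟶ Y}

/-- Local lifts exist on all étale scheme charts. -/
theorem exists_isLocalLift (hj : IsFOThickMor j) (hf : IsFormallyEtaleMor f)
    (w : a ≫ f = j ≫ b) {V : Over S} (c : (yon S).obj V ⟶ T') (hc : RepWith @Etale c) :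
    ∃ m, IsLocalLift j f a b c m := by
  have hrep := hj.1.1
  have hfs := (isFormallyEtaleMor_iff.1 hf).1
  have hfu := (isFormallyEtaleMor_iff.1 hf).2
  obtain ⟨A, str, ι, hι, hcov⟩ := exists_affine_charts V
  have hcv : ∀ v, RepWith @Etale ((yon S).map (ι v) ≫ c) := by
    intro v
    refine (RepWith @Etale).comp_mem _ _ ((repWith_yon_map_iff _ _).2 ?_) hc
    have := hι v
    change Etale (ι v).left
    infer_instance
  choose mv hmv using fun v =>
    exists_isLocalLift_affine hj hfs w (A v) (str v) ((yon S).map (ι v) ≫ c) (hcv v)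
  have hJ : Sieve.ofArrows (fun v => Over.mk (str v)) ι ∈ (J S) V := by
    refine ofArrows_mem_J _ _ (fun v => ?_) (fun v => ?_) (fun v => ?_)
    · have := hι v; infer_instance
    · have := hι v; infer_instance
    · obtain ⟨y, hy⟩ := hcov v
      exact ⟨v, y, hy⟩
  obtain ⟨m, hm⟩ := exists_glue_yon_pullback _ ι hJ mv (by
    intro v v'
    have hopen : IsOpenImmersion (pullback.fst (ι v) (ι v')).left := by
      have := hι v'
      exact MorphismProperty.of_isPullback (P := @IsOpenImmersion)
        ((IsPullback.of_hasPullback (ι v) (ι v')).map (Over.forget S)).flip (hι v')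
    have hce : RepWith @Etale ((yon S).map (pullback.fst (ι v) (ι v')) ≫
        (yon S).map (ι v) ≫ c) := by
      refine (RepWith @Etale).comp_mem _ _ ((repWith_yon_map_iff _ _).2 ?_) (hcv v)
      change Etale (pullback.fst (ι v) (ι v')).left
      infer_instance
    have heq : (yon S).map (pullback.snd (ι v) (ι v')) ≫ (yon S).map (ι v') ≫ c =
        (yon S).map (pullback.fst (ι v) (ι v')) ≫ (yon S).map (ι v) ≫ c := by
      rw [← Category.assoc, ← Category.assoc, ← Functor.map_comp, ← Functor.map_comp,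
        pullback.condition]
    exact IsLocalLift.unique hj hfu w hce ((hmv v).restrict hrep _)
      (((hmv v').restrict hrep _).of_eq heq))
  refine ⟨m, fun W fst snd pb => ?_, ?_⟩
  · -- check on the open cover of `W` pulled back from `V`
    refine yon_hom_ext_of_cover (fun v => pullback snd (ι v)) (fun v => pullback.fst snd (ι v))
      ?_ (fun v => ?_)
    · have hopen : ∀ v, IsOpenImmersion (pullback.fst snd (ι v)).left := fun v =>
        MorphismProperty.of_isPullback (P := @IsOpenImmersion)
          ((IsPullback.of_hasPullback snd (ι v)).map (Over.forget S)).flip (hι v)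
      refine ofArrows_mem_J _ _ (fun v => ?_) (fun v => ?_) (fun x => ?_)
      · have := hopen v; infer_instance
      · have := hopen v; infer_instance
      · obtain ⟨y, hy⟩ := hcov (snd.left x)
        obtain ⟨z, hz1, -⟩ := AlgebraicGeometry.Scheme.exists_preimage_of_isPullback
          ((IsPullback.of_hasPullback snd (ι (snd.left x))).map (Over.forget S)) x y hy.symm
        exact ⟨snd.left x, z, hz1⟩
    · have big := ((IsPullback.of_hasPullback snd (ι v)).map (yon S)).paste_horiz pb
      have := (hmv v).1 _ _ big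
      rw [← Category.assoc, ← Functor.map_comp, pullback.condition, Functor.map_comp,
        Category.assoc, hm v, this, Category.assoc]
  · refine yon_hom_ext_of_cover _ ι hJ (fun v => ?_)
    rw [← Category.assoc, hm v, (hmv v).2, Category.assoc]

/-- Existence and uniqueness of lifts along first order thickenings of algebraic spaces. -/
theorem existsUnique_lift_of_foThick (hT' : IsAlgSpace T') (hj : IsFOThickMor j)
    (hf : IsFormallyEtaleMor f) (w : a ≫ f = j ≫ b) :
    ∃! l : T' ⟶ X, j ≫ l = a ∧ l ≫ f = b := by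
  have hrep := hj.1.1
  have hfu := (isFormallyEtaleMor_iff.1 hf).2
  obtain ⟨V, p, hpe, hps⟩ := hT'.atlas
  have : Sheaf.IsLocallySurjective p :=
    isLocallySurjective_of_repWith p (repWith_mono etale_le_flat hpe)
      (repWith_mono (fun _ _ f hf => by have : Etale f := hf; infer_instance) hpe) hps
  obtain ⟨m, hm⟩ := exists_isLocalLift hj hf w p hpe
  -- descent
  obtain ⟨l, hl⟩ := exists_desc_of_isLocallySurjective p m (by
    intro R s s' hss
    have hp := hpe.1
    have pbp := hp.isPullback p
    obtain ⟨π₁, hπ₁⟩ := (yon S).map_surjective (hp.fst p)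
    obtain ⟨t, ht⟩ := (yon S).map_surjective (pbp.lift s s' hss)
    have ht1 : s = (yon S).map t ≫ (yon S).map π₁ := by
      rw [ht, hπ₁]; exact (pbp.lift_fst _ _ _).symm
    have ht2 : s' = (yon S).map t ≫ (yon S).map (hp.snd p) := by
      rw [ht]; exact (pbp.lift_snd _ _ _).symm
    have hπe : Etale π₁.left := by
      have := hpe.2 p ((yon S).map (hp.snd p)) π₁ (by rw [hπ₁]; exact pbp.flip)
      exact this
    have hce : RepWith @Etale ((yon S).map π₁ ≫ p) :=
      (RepWith @Etale).comp_mem _ _ ((repWith_yon_map_iff _ _).2 hπe) hpe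
    have heq : (yon S).map (hp.snd p) ≫ p = (yon S).map π₁ ≫ p := by
      rw [hπ₁]; exact pbp.w.symm
    have key := IsLocalLift.unique hj hfu w hce (hm.restrict hrep π₁)
      ((hm.restrict hrep (hp.snd p)).of_eq heq)
    rw [ht1, ht2, Category.assoc, Category.assoc, key])
  have hl1 : j ≫ l = a := by
    -- check on the pulled back atlas of `T`
    have pb := hrep.isPullback p
    have hsurj : Sheaf.IsLocallySurjective (hrep.fst p) :=
      isLocallySurjective_of_repWith _
        (repWith_mono etale_le_flat ((RepWith @Etale).of_isPullback pb.flip hpe))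
        (repWith_mono (fun _ _ f hf => by have : Etale f := hf; infer_instance)
          ((RepWith @Etale).of_isPullback pb.flip hpe))
        ((RepWith @Surjective).of_isPullback pb.flip hps)
    rw [← cancel_epi (hrep.fst p), ← Category.assoc, pb.w, Category.assoc, hl]
    exact hm.1 _ _ pb
  have hl2 : l ≫ f = b := by
    rw [← cancel_epi p, ← Category.assoc, hl]
    exact hm.2
  refine ⟨l, ⟨hl1, hl2⟩, fun l' hl' => ?_⟩
  exact lift_unique_of_foThick hT' hj f hfu a b w l' l hl'.1 hl'.2 hl1 hl2

end Global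

end Groth.Agent.Helper16.AS
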