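import Groth.Agent.Lib.Helper16.AlgSp.FlatSp

/-!
# Composition of fpqc coverings
-/

set_option autoImplicit false
universe u
open CategoryTheory CategoryTheory.Limits AlgebraicGeometry MorphismProperty Opposite
open AlgSp Groth.Agent.Helper15

namespace Groth.Agent.Helper16.AS

variable {S : Scheme.{u}}

/-- a finite family of affine flat jointly surjective morphisms gives a standard covering -/
theorem exists_stdFpqc_of_finite {Z : Over S} {κ : Type} [Finite κ] (W : κ → Over S)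
    (c : ∀ k, W k ⟶ Z) (haff : ∀ k, IsAffine (W k).left) (hflat : ∀ k, Flat (c k).left)
    (hsurj : ∀ z : ↥Z.left, ∃ k, z ∈ Set.range (c k).left) :
    ∃ (m : ℕ) (e : Fin m ≃ κ), StdFpqc Z m (fun j => W (e j)) (fun j => c (e j)) := by
  obtain ⟨m, ⟨e⟩⟩ := Finite.exists_equiv_fin κ
  refine ⟨m, e.symm, fun j => haff _, fun j => hflat _, fun z => ?_⟩
  exact (e.symm.surjective.exists).1 (hsurj z)

theorem isStdRefinable_of_finite {ι : Type u} {X : Sp S} {Xi : ι → Sp S} {g : ∀ i, Xi i ⟶ X}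
    (h : ∀ (Z : Over S), IsAffine Z.left → ∀ (t : (yon S).obj Z ⟶ X),
      ∃ (κ : Type) (_ : Finite κ) (W : κ → Over S) (c : ∀ k, W k ⟶ Z),
        (∀ k, IsAffine (W k).left) ∧ (∀ k, Flat (c k).left) ∧
        (∀ z : ↥Z.left, ∃ k, z ∈ Set.range (c k).left) ∧
        ∀ k, ∃ (i : _) (l : (yon S).obj (W k) ⟶ Xi i), l ≫ g i = (yon S).map (c k) ≫ t) :
    IsStdRefinable Xi g := by
  intro Z hZ t
  obtain ⟨κ, _, W, c, haff, hflat, hsurj, hl⟩ := h Z hZ t
  obtain ⟨m, e, he⟩ := exists_stdFpqc_of_finite W c haff hflat hsurj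
  exact ⟨m, _, _, he, fun j => hl (e j)⟩

theorem isStdRefinable_comp {ι : Type u} {X : Sp S} {Xi : ι → Sp S} {g : ∀ i, Xi i ⟶ X}
    {κ : ι → Type u} {Xij : ∀ i, κ i → Sp S} {gij : ∀ i j, Xij i j ⟶ Xi i}
    (h : IsStdRefinable Xi g) (hij : ∀ i, IsStdRefinable (Xij i) (gij i)) :
    IsStdRefinable (fun r : Σ i, κ i => Xij r.1 r.2) (fun r => gij r.1 r.2 ≫ g r.1) := by
  refine isStdRefinable_of_finite fun Z hZ t => ?_
  obtain ⟨m, W, c, hc, hl⟩ := h Z hZ t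
  choose i l hl using hl
  have h2 := fun j => hij (i j) (W j) (hc.affine j) (l j)
  choose mm W' c' hc' hl' using h2
  refine ⟨Σ j : Fin m, Fin (mm j), inferInstance, fun r => W' r.1 r.2,
    fun r => c' r.1 r.2 ≫ c r.1, fun r => (hc' r.1).affine r.2, fun r => ?_, fun z => ?_,
    fun r => ?_⟩
  · rw [Over.comp_left]
    haveI := (hc' r.1).flat r.2
    haveI := hc.flat r.1
    infer_instance
  · obtain ⟨j, w, hw⟩ := hc.surj z
    obtain ⟨k, w', hw'⟩ := (hc' j).surj w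
    refine ⟨⟨j, k⟩, w', ?_⟩
    rw [Over.comp_left, Scheme.Hom.comp_apply, hw', hw]
  · obtain ⟨j₂, l₂, hl₂⟩ := hl' r.1 r.2
    refine ⟨⟨i r.1, j₂⟩, l₂, ?_⟩
    rw [← Category.assoc, hl₂, Category.assoc, hl, Functor.map_comp, Category.assoc]

theorem isFpqcCover_comp {ι : Type u} {X : Sp S} (hX : IsAlgSpace X) {Xi : ι → Sp S}
    (hXi : ∀ i, IsAlgSpace (Xi i)) {g : ∀ i, Xi i ⟶ X}
    {κ : ι → Type u} {Xij : ∀ i, κ i → Sp S} (hXij : ∀ i j, IsAlgSpace (Xij i j))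
    {gij : ∀ i j, Xij i j ⟶ Xi i}
    (h : IsFpqcCover Xi g) (hij : ∀ i, IsFpqcCover (Xij i) (gij i)) :
    IsFpqcCover (fun r : Σ i, κ i => Xij r.1 r.2) (fun r => gij r.1 r.2 ≫ g r.1) := by
  rw [isFpqcCover_iff] at h ⊢
  refine ⟨fun r => locP_flat_comp (hXij r.1 r.2) (hXi r.1) hX _ _
    ((isFpqcCover_iff.1 (hij r.1)).1 r.2) (h.1 r.1),
    isStdRefinable_comp h.2 fun i => (isFpqcCover_iff.1 (hij i)).2⟩

end Groth.Agent.Helper16.AS
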