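import Groth.Agent.Lib.Helper16.AlgSp.FpqcQc

/-!
# Topology of standard fpqc coverings
-/

set_option autoImplicit false
universe u
open CategoryTheory CategoryTheory.Limits AlgebraicGeometry MorphismProperty Opposite
open AlgSp Groth.Agent.Helper15

namespace Groth.Agent.Helper16.AS

variable {S : Scheme.{u}}

section schemes

variable {Z : Scheme.{u}} {m : ℕ} (W : Fin m → Scheme.{u}) (c : ∀ j, W j ⟶ Z)

theorem compactSpace_sigma_of_forall [∀ j, CompactSpace (W j)] : CompactSpace (∐ W : Scheme.{u}) := by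
  refine ⟨?_⟩
  have h := (sigmaOpenCover W).iUnion_range
  rw [← h]
  haveI : Finite (sigmaOpenCover W).I₀ := inferInstanceAs (Finite (Fin m))
  refine isCompact_iUnion fun j => ?_
  haveI : CompactSpace ((sigmaOpenCover W).X j) := by
    change CompactSpace (W j)
    infer_instance
  exact isCompact_range ((sigmaOpenCover W).f j).continuous

theorem isQuotientMap_sigmaDesc [IsAffine Z] [∀ j, IsAffine (W j)] (hflat : ∀ j, Flat (c j))
    (hsurj : ∀ z : Z, ∃ j, z ∈ Set.range (c j)) :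
    Topology.IsQuotientMap (Sigma.desc c : (∐ W) ⟶ Z) := by
  haveI : CompactSpace (∐ W : Scheme.{u}) := compactSpace_sigma_of_forall W
  haveI : Flat (Sigma.desc c) := by
    rw [IsZariskiLocalAtSource.iff_of_openCover (P := @Flat) (sigmaOpenCover W)]
    intro (j : Fin m)
    change Flat (Sigma.ι W j ≫ Sigma.desc c)
    rw [Sigma.ι_desc]
    exact hflat j
  haveI : Surjective (Sigma.desc c) := by
    refine ⟨fun z => ?_⟩
    obtain ⟨j, w, hw⟩ := hsurj z
    refine ⟨Sigma.ι W j w, ?_⟩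
    rw [← Scheme.Hom.comp_apply, Sigma.ι_desc, hw]
  exact Flat.isQuotientMap_of_surjective _

theorem isClosed_iff_of_stdCover [IsAffine Z] [∀ j, IsAffine (W j)] (hflat : ∀ j, Flat (c j))
    (hsurj : ∀ z : Z, ∃ j, z ∈ Set.range (c j)) (B : Set Z) :
    IsClosed B ↔ ∀ j, IsClosed ((c j) ⁻¹' B) := by
  refine ⟨fun hB j => hB.preimage (c j).continuous, fun h => ?_⟩
  have hq := isQuotientMap_sigmaDesc W c hflat hsurj
  rw [← hq.isClosed_preimage]
  refine isClosed_of_openCover (sigmaOpenCover W) _ fun (j : Fin m) => ?_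
  have : (Sigma.ι W j) ⁻¹' ((Sigma.desc c : (∐ W) ⟶ Z) ⁻¹' B) = (c j) ⁻¹' B := by
    rw [← Set.preimage_comp]
    have h1 : (⇑(Sigma.desc c : (∐ W) ⟶ Z) ∘ ⇑(Sigma.ι W j)) = ⇑(c j) := by
      funext w
      simp only [Function.comp_apply]
      rw [← Scheme.Hom.comp_apply, Sigma.ι_desc]
    rw [h1]
  change IsClosed ((Sigma.ι W j) ⁻¹' ((Sigma.desc c : (∐ W) ⟶ Z) ⁻¹' B))
  rw [this]
  exact h j

theorem isOpen_iff_of_stdCover [IsAffine Z] [∀ j, IsAffine (W j)] (hflat : ∀ j, Flat (c j))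
    (hsurj : ∀ z : Z, ∃ j, z ∈ Set.range (c j)) (B : Set Z) :
    IsOpen B ↔ ∀ j, IsOpen ((c j) ⁻¹' B) := by
  rw [← isClosed_compl_iff, isClosed_iff_of_stdCover W c hflat hsurj]
  refine forall_congr' fun j => ?_
  rw [Set.preimage_compl, isClosed_compl_iff]

end schemes

end Groth.Agent.Helper16.AS
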