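import Groth.Agent.Lib.Helper15.AlgSpTop
import Groth.Agent.Lib.Helper16.Top.IrrLocFin

set_option autoImplicit false
universe u
open CategoryTheory CategoryTheory.Limits AlgebraicGeometry MorphismProperty Opposite TopologicalSpace
open AlgSp

namespace Groth.Agent.Helper16.AS
open Groth.Agent.Helper15

variable {S : Scheme.{u}}

theorem locallyFinite_irreducibleComponents {X : Sp S} (hX : IsLocNoethSp X)
    (T : Set (Points X)) :
    LocallyFinite (fun Z : ↥(irreducibleComponents ↥T) =>
      ((↑) : ↥T → Points X) '' (Z : Set ↥T)) := by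
  obtain ⟨U, p, hpe, hps, hN⟩ := hX
  haveI := hN
  intro x
  obtain ⟨u, rfl⟩ := surjective_ofPt p hps x
  obtain ⟨_, ⟨O, hO, rfl⟩, huO, -⟩ :=
    (U.left.isBasis_affineOpens).exists_subset_of_mem_open (Set.mem_univ u) isOpen_univ
  let O' : U.left.Opens := O
  haveI : IsNoetherianRing Γ(U.left, O') := IsLocallyNoetherian.component_noetherian ⟨O', hO⟩
  have hNO : NoetherianSpace ↥(O' : Set U.left) := noetherianSpace_of_isAffineOpen O' hO
  have hop := isOpenMap_ofPt_of_etale p hpe
  refine ⟨Points.ofPt p '' (O' : Set U.left), (hop _ O'.2).mem_nhds ⟨u, huO, rfl⟩, ?_⟩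
  apply Groth.Agent.Helper16.IrrLocFin.finite_components_meeting_image (Points.ofPt p)
    (Points.continuous_ofPt p) hop T (O' : Set U.left) O'.2
  haveI : NoetherianSpace ↥((O' : Set U.left) ∩ Points.ofPt p ⁻¹' T) :=
    (noetherianSpace_set_iff _).2 (fun t ht =>
      (noetherianSpace_set_iff (O' : Set U.left)).1 hNO t
        (ht.trans Set.inter_subset_left))
  exact NoetherianSpace.finite_irreducibleComponents

end Groth.Agent.Helper16.AS
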