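import Groth.Agent.Lib.Helper15.AlgSpTop
import Groth.Agent.Lib.Helper15.AlgSpDimEt
import Groth.Agent.Lib.Helper16.Top.JacImage

set_option autoImplicit false
universe u
open CategoryTheory CategoryTheory.Limits AlgebraicGeometry MorphismProperty Opposite TopologicalSpace
open AlgSp

namespace Groth.Agent.Helper16.AS
open Groth.Agent.Helper15

variable {S : Scheme.{u}}

theorem isClosed_singleton_image_of_etale_surjective {P W : Scheme.{u}} (f : P ⟶ W) [Etale f]
    [Surjective f] [JacobsonSpace P] (p : P) (hp : IsClosed ({p} : Set P)) :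
    IsClosed ({f p} : Set W) := by
  haveI : LocallyQuasiFinite f := locallyQuasiFinite_of_etale f
  exact Groth.Agent.Helper16.JacImage.isClosed_singleton_image f f.continuous f.isOpenMap
    (Flat.generalizingMap f) f.surjective (fun w => f.isDiscrete_preimage_singleton w) p hp

theorem exists_closedPoint_over {X : Sp S} (hXalg : IsAlgSpace X)
    (hX : EtaleLocally (fun U => JacobsonSpace ↥U) X)
    (x : Points X) (hx : HasAt (fun U u => IsClosed ({u} : Set ↥U)) X x) {W : Over S}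
    (g : (yon S).obj W ⟶ X) (hg : LocP @LocallyOfFiniteType g)
    (hxW : x ∈ Set.range (Points.ofPt g)) :
    ∃ w : ↥W.left, IsClosed ({w} : Set ↥W.left) ∧ Points.ofPt g w = x := by
  obtain ⟨U₀, a₀, ha₀e, ha₀s, hJ⟩ := hX
  haveI := hJ
  obtain ⟨U, a, u, hae, hau, hu⟩ := hx
  have hrep : Representable a := hae.rep
  have sq := hrep.isPullback' a₀
  haveI h1 : Etale (hrep.fst' a₀).left := ha₀e.property a _ _ sq.flip
  haveI h2 : Surjective (hrep.fst' a₀).left := ha₀s.property a _ _ sq.flip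
  haveI h3 : Etale (hrep.snd a₀).left := hae.property_snd a₀
  haveI : JacobsonSpace (hrep.pullback a₀).left :=
    LocallyOfFiniteType.jacobsonSpace (hrep.snd a₀).left
  have hF : IsClosed ((hrep.fst' a₀).left ⁻¹' {u}) := hu.preimage (hrep.fst' a₀).left.continuous
  obtain ⟨q₀, hq₀⟩ := (hrep.fst' a₀).left.surjective u
  obtain ⟨q, hqF, hqc⟩ := nonempty_inter_closedPoints ⟨q₀, hq₀⟩ hF.isLocallyClosed
  set u₀ := (hrep.snd a₀).left q with hu₀
  have hu₀c : IsClosed ({u₀} : Set U₀.left) :=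
    (hrep.snd a₀).left.closePoints_subset_preimage_closedPoints hqc
  have hu₀x : Points.ofPt a₀ u₀ = x := by
    rw [hu₀, ← ofPt_comp_yon_map, ← sq.w, ofPt_comp_yon_map, hqF, hau]
  obtain ⟨w₀, hw₀⟩ := hxW
  have hrepg : Representable g := hXalg.representable_from_yon g
  have sq' := hrepg.isPullback' a₀
  haveI h4 : Etale (hrepg.fst' a₀).left := ha₀e.property g _ _ sq'.flip
  haveI h5 : Surjective (hrepg.fst' a₀).left := ha₀s.property g _ _ sq'.flip
  haveI hlft : LocallyOfFiniteType (hrepg.snd a₀).left :=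
    hg ((yon S).map (hrepg.fst' a₀)) a₀ (hrepg.snd a₀) ((repWith_yon_map_iff _ _).2 h4) ha₀e sq'.w
  haveI : JacobsonSpace (hrepg.pullback a₀).left :=
    LocallyOfFiniteType.jacobsonSpace (hrepg.snd a₀).left
  obtain ⟨p₀, hp₀1, hp₀2⟩ := exists_of_ofPt_eq sq' w₀ u₀ (hw₀.trans hu₀x.symm)
  have hF' : IsClosed ((hrepg.snd a₀).left ⁻¹' {u₀}) :=
    hu₀c.preimage (hrepg.snd a₀).left.continuous
  obtain ⟨p, hpF, hpc⟩ := nonempty_inter_closedPoints ⟨p₀, hp₀2⟩ hF'.isLocallyClosed
  refine ⟨(hrepg.fst' a₀).left p,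
    isClosed_singleton_image_of_etale_surjective (hrepg.fst' a₀).left p hpc, ?_⟩
  rw [← ofPt_comp_yon_map, sq'.w, ofPt_comp_yon_map, hpF, hu₀x]

end Groth.Agent.Helper16.AS
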