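import Groth.Agent.Lib.Helper16.AlgSp.SmSp
import Groth.Agent.Lib.Helper16.AlgSp.LargestOpen

/-!
# Properties smooth local on source-and-target
-/

set_option autoImplicit false
universe u
open CategoryTheory CategoryTheory.Limits AlgebraicGeometry MorphismProperty Opposite
open AlgSp Groth.Agent.Helper15

namespace Groth.Agent.Helper16.AS

variable {S : Scheme.{u}}

theorem isEtaleMor_id (X : Sp S) : IsEtaleMor (𝟙 X) := fun U φ hφ => by rwa [Category.comp_id]

theorem locP_smooth_of_isEtaleMor {X Y : Sp S} (hY : IsAlgSpace Y) (f : X ⟶ Y)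
    (hf : IsEtaleMor f) : LocP @Smooth f :=
  locP_mono etale_le_smooth (locP_etale_of_isEtaleMor hY f hf)

theorem locP_smooth_id {X : Sp S} (hX : IsAlgSpace X) : LocP @Smooth (𝟙 X) :=
  locP_smooth_of_isEtaleMor hX _ (isEtaleMor_id X)

section SmoothST

variable {P : MorphismProperty (Sp S)}

theorem isLocalOnSource_sm_of_isSmoothLocalST (hP : IsSmoothLocalST P) :
    IsLocalOnSource (IsSmCover (S := S)) P := by
  intro ι X Xi g hX hXi hcov Y f hY
  constructor
  · intro hf i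
    exact hP.precomp (hXi i) hX hY (g i) f (hcov.1 i) hf
  · intro h
    rw [hP.locality hX hY f]
    intro x
    obtain ⟨i, v, hv⟩ := hcov.2 x
    exact ⟨Xi i, Y, g i, 𝟙 Y, g i ≫ f, v, hXi i, hY, hcov.1 i, locP_smooth_id hY,
      by rw [Category.comp_id], hv, h i⟩

theorem isLocalOnBase_sm_of_isSmoothLocalST (hP : IsSmoothLocalST P) :
    IsLocalOnBase (IsSmCover (S := S)) P := by
  intro ι Y Yi g hY hYi hcov X f hX Xi p q hXi sq
  constructor
  · intro hf i
    exact hP.baseChange hX hY (hXi i) (hYi i) f (g i) (p i) (q i) (sq i) (hcov.1 i) hf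
  · intro h
    rw [hP.locality hX hY f]
    intro x
    obtain ⟨i, y, hy⟩ := hcov.2 (Points.map f x)
    obtain ⟨v, hv1, hv2⟩ := exists_point_of_isPullback (sq i) x y hy.symm
    have hq : LocP @Smooth (q i) :=
      locP_of_isPullback goodP_smooth srcEtLoc_smooth (hYi i) hY hX (sq i).flip (hcov.1 i)
    exact ⟨Xi i, Yi i, q i, g i, p i, v, hXi i, hYi i, hq, hcov.1 i, (sq i).w, hv1, h i⟩

theorem postcomp_smooth_of_isSmoothLocalST (hP : IsSmoothLocalST P) {X Y Z : Sp S}
    (hX : IsAlgSpace X) (hY : IsAlgSpace Y) (hZ : IsAlgSpace Z) (f : X ⟶ Y) (g : Y ⟶ Z)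
    (hf : P f) (hg : LocP @Smooth g) : P (f ≫ g) := by
  rw [hP.locality hX hZ (f ≫ g)]
  intro x
  exact ⟨X, Y, 𝟙 X, g, f, x, hX, hY, locP_smooth_id hX, hg, by rw [Category.id_comp],
    by rw [Points.map_id], hf⟩

/-- the two-member covering `{f, 𝟙}` -/
theorem isCover_pair {C : MorphismProperty (Sp S)} {X Y : Sp S} (f : X ⟶ Y) (hf : C f)
    (hid : C (𝟙 Y)) :
    IsCover C (Sum.elim (fun _ : PUnit.{u+1} => X) (fun _ : PUnit.{u+1} => Y))
      (fun i => match i with
        | Sum.inl _ => f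
        | Sum.inr _ => 𝟙 Y) := by
  refine ⟨?_, fun y => ⟨Sum.inr PUnit.unit, y, by simp [Points.map_id]⟩⟩
  rintro (_ | _)
  · exact hf
  · exact hid

theorem isSmoothLocalST_of (h1 : IsLocalOnSource (IsSmCover (S := S)) P)
    (h2 : IsLocalOnBase (IsSmCover (S := S)) P)
    (h3 : ∀ ⦃X Y Z : Sp S⦄, IsAlgSpace X → IsAlgSpace Y → IsAlgSpace Z → ∀ (f : X ⟶ Y)
      (g : Y ⟶ Z), P f → LocP @Smooth g → P (f ≫ g)) : IsSmoothLocalST P where
  precomp := by
    intro X Y Z hX hY hZ f g hf hg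
    have hcov := isCover_pair (C := LocP @Smooth) f hf (locP_smooth_id hY)
    have := (h1 _ _ hY (by rintro (_ | _); exacts [hX, hY]) hcov g hZ).1 hg (Sum.inl PUnit.unit)
    exact this
  baseChange := by
    intro X Y X' Y' hX hY hX' hY' f g f' g' sq hg hf
    have hcov := isCover_pair (C := LocP @Smooth) g hg (locP_smooth_id hY)
    have := (h2 _ _ hY (by rintro (_ | _); exacts [hY', hY]) hcov f hX
      (Sum.elim (fun _ : PUnit.{u+1} => X') (fun _ : PUnit.{u+1} => X))
      (fun i => match i with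
        | Sum.inl _ => f'
        | Sum.inr _ => f)
      (fun i => match i with
        | Sum.inl _ => g'
        | Sum.inr _ => 𝟙 X)
      (by rintro (_ | _); exacts [hX', hX])
      (by
        rintro (_ | _)
        · exact sq
        · exact (IsPullback.of_horiz_isIso (fst := 𝟙 X) (snd := f) (f := f) (g := 𝟙 Y)
            ⟨by simp⟩))).1 hf (Sum.inl PUnit.unit)
    exact this
  locality := by
    intro X Y hX hY f
    constructor
    · intro hf x
      exact ⟨X, Y, 𝟙 X, 𝟙 Y, f, x, hX, hY, locP_smooth_id hX, locP_smooth_id hY,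
        by rw [Category.id_comp, Category.comp_id], by rw [Points.map_id], hf⟩
    · intro h
      obtain ⟨W, r, hre, hrs⟩ := hX.atlas
      choose U V a b k v hU hV ha hb hcomm hv hk using fun w : W.left => h (Points.ofPt r w)
      have hcov : IsSmCover U a := by
        refine ⟨ha, fun x => ?_⟩
        obtain ⟨w, rfl⟩ := surjective_ofPt r hrs x
        exact ⟨w, v w, hv w⟩
      rw [h1 U a hX hU hcov f hY]
      intro w
      rw [hcomm w]
      exact h3 (hU w) (hV w) hY (k w) (b w) (hk w) (hb w)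

end SmoothST

section EtSmST

variable {P : MorphismProperty (Sp S)}

theorem isPullback_id_self {X Y : Sp S} (f : X ⟶ Y) : IsPullback (𝟙 X) f f (𝟙 Y) :=
  IsPullback.of_horiz_isIso (fst := 𝟙 X) (snd := f) (f := f) (g := 𝟙 Y) ⟨by simp⟩

theorem isLocalOnSource_et_of_isEtaleSmoothLocalST (hP : IsEtaleSmoothLocalST P) :
    IsLocalOnSource (IsEtCover (S := S)) P := by
  intro ι X Xi g hX hXi hcov Y f hY
  constructor
  · intro hf i
    exact hP.precomp (hXi i) hX hY (g i) f (hcov.1 i) hf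
  · intro h
    rw [hP.locality hX hY f]
    intro x
    obtain ⟨i, v, hv⟩ := hcov.2 x
    exact ⟨Y, X, Xi i, 𝟙 Y, 𝟙 X, f, g i, v, hY, hX, hXi i, locP_smooth_id hY,
      isPullback_id_self f, hcov.1 i, by rw [Category.comp_id]; exact hv, h i⟩

theorem isLocalOnBase_sm_of_isEtaleSmoothLocalST (hP : IsEtaleSmoothLocalST P) :
    IsLocalOnBase (IsSmCover (S := S)) P := by
  intro ι Y Yi g hY hYi hcov X f hX Xi p q hXi sq
  constructor
  · intro hf i
    exact hP.baseChange hX hY (hXi i) (hYi i) f (g i) (p i) (q i) (sq i) (hcov.1 i) hf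
  · intro h
    rw [hP.locality hX hY f]
    intro x
    obtain ⟨i, y, hy⟩ := hcov.2 (Points.map f x)
    obtain ⟨v, hv1, hv2⟩ := exists_point_of_isPullback (sq i) x y hy.symm
    exact ⟨Yi i, Xi i, Xi i, g i, q i, p i, 𝟙 _, v, hYi i, hXi i, hXi i, hcov.1 i, sq i,
      isEtaleMor_id _, by rw [Category.id_comp]; exact hv1, by rw [Category.id_comp]; exact h i⟩

/-- the graph of `f` into `X ×_Z Y` is étale when `g : Y ⟶ Z` is étale -/
theorem isEtaleMor_graph {X Y Z : Sp S} (hX : IsAlgSpace X) (hY : IsAlgSpace Y)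
    (hZ : IsAlgSpace Z) (f : X ⟶ Y) (g : Y ⟶ Z) (hg : IsEtaleMor g) :
    IsAlgSpace (pullback (f ≫ g) g) ∧
      IsEtaleMor (pullback.lift (𝟙 X) f (by rw [Category.id_comp]) : X ⟶ pullback (f ≫ g) g) := by
  have sq := IsPullback.of_hasPullback (f ≫ g) g
  have hW : IsAlgSpace (pullback (f ≫ g) g) := isAlgSpace_of_isPullback hZ.diag hX hY sq
  refine ⟨hW, ?_⟩
  have hp : LocP @Etale (pullback.fst (f ≫ g) g) :=
    locP_of_isPullback goodP_etale srcEtLoc_etale hY hZ hX sq.flip
      (locP_etale_of_isEtaleMor hZ g hg)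
  have hid : LocP @Etale
      ((pullback.lift (𝟙 X) f (by rw [Category.id_comp]) : X ⟶ pullback (f ≫ g) g) ≫
        pullback.fst (f ≫ g) g) := by
    rw [pullback.lift_fst]
    exact locP_etale_of_isEtaleMor hX _ (isEtaleMor_id X)
  haveI := goodP_etale.bc
  haveI := goodP_etale.loc
  refine isEtaleMor_of_locP_etale hW _ (locP_of_comp (P := @Etale) (P' := @Etale) (Q := @Etale)
    ?_ hX _ (pullback.fst (f ≫ g) g) hid hp)
  intro A B C f' g' hfg hg'
  haveI : Etale (f' ≫ g') := hfg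
  haveI : Etale g' := hg'
  exact Etale.of_comp f' g'

theorem postcomp_etale_of_isEtaleSmoothLocalST (hP : IsEtaleSmoothLocalST P) {X Y Z : Sp S}
    (hX : IsAlgSpace X) (hY : IsAlgSpace Y) (hZ : IsAlgSpace Z) (f : X ⟶ Y) (g : Y ⟶ Z)
    (hf : P f) (hg : IsEtaleMor g) : P (f ≫ g) := by
  obtain ⟨hW, he⟩ := isEtaleMor_graph hX hY hZ f g hg
  rw [hP.locality hX hZ (f ≫ g)]
  intro x
  refine ⟨Y, pullback (f ≫ g) g, X, g, pullback.fst _ _, pullback.snd _ _,
    pullback.lift (𝟙 X) f (by rw [Category.id_comp]), x, hY, hW, hX,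
    locP_smooth_of_isEtaleMor hZ g hg, IsPullback.of_hasPullback _ _, he, ?_, ?_⟩
  · rw [pullback.lift_fst, Points.map_id]
  · rw [pullback.lift_snd]
    exact hf

theorem cancel_etale_of_isEtaleSmoothLocalST (hP : IsEtaleSmoothLocalST P) {X Y Z : Sp S}
    (hX : IsAlgSpace X) (hY : IsAlgSpace Y) (hZ : IsAlgSpace Z) (f : X ⟶ Y) (g : Y ⟶ Z)
    (hg : IsEtaleMor g) (hfg : P (f ≫ g)) : P f := by
  obtain ⟨hW, he⟩ := isEtaleMor_graph hX hY hZ f g hg
  have hq : P (pullback.snd (f ≫ g) g) :=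
    hP.baseChange hX hZ hW hY (f ≫ g) g (pullback.snd _ _) (pullback.fst _ _)
      (IsPullback.of_hasPullback _ _) (locP_smooth_of_isEtaleMor hZ g hg) hfg
  have := hP.precomp hX hW hY (pullback.lift (𝟙 X) f (by rw [Category.id_comp])) _ he hq
  rwa [pullback.lift_snd] at this

end EtSmST

end Groth.Agent.Helper16.AS
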