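import Groth.Agent.Lib.Helper15.AlgSpDimEt
import Groth.Agent.Lib.Helper9.TopDim
import Mathlib.RingTheory.KrullDimension.Field

set_option autoImplicit false
universe u
open CategoryTheory CategoryTheory.Limits AlgebraicGeometry MorphismProperty Opposite
open AlgSp

namespace Groth.Agent.Helper16.AS
open Groth.Agent.Helper15

/-- A scheme locally of finite type over a field with dimension `≤ 0` is discrete. -/
theorem discreteTopology_of_lft_field_of_dim_le_zero (k : Type u) [Field k] {U : Scheme.{u}}
    (g : U ⟶ Spec (CommRingCat.of k)) [LocallyOfFiniteType g]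
    (hd : topologicalKrullDim U ≤ 0) : DiscreteTopology U := by
  haveI : IsLocallyNoetherian U := LocallyOfFiniteType.isLocallyNoetherian g
  rw [discreteTopology_iff_isOpen_singleton]
  intro u
  obtain ⟨_, ⟨O, hO, rfl⟩, huO, -⟩ :=
    (U.isBasis_affineOpens).exists_subset_of_mem_open (Set.mem_univ u) isOpen_univ
  let O' : U.Opens := O
  haveI : IsNoetherianRing Γ(U, O') := IsLocallyNoetherian.component_noetherian ⟨O', hO⟩
  haveI : TopologicalSpace.NoetherianSpace O' := noetherianSpace_of_isAffineOpen O' hO
  haveI : Nonempty O' := ⟨⟨u, huO⟩⟩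
  have h1 : topologicalKrullDim O' ≤ 0 := (topologicalKrullDim_subspace_le U _).trans hd
  have h2 : topologicalKrullDim O' = 0 :=
    le_antisymm h1 Groth.Agent.Helper9.TopDim.dim_nonneg_of_nonempty
  obtain ⟨-, hdisc⟩ := Groth.Agent.Helper9.TopDim.dim_eq_zero_iff_finite_discrete.1 h2
  have h3 : IsOpen ({⟨u, huO⟩} : Set O') := isOpen_discrete _
  have h4 := O'.isOpenEmbedding'.isOpenMap _ h3
  convert h4 using 1
  exact (Set.image_singleton (f := Subtype.val) (a := (⟨u, huO⟩ : O'))).symm

theorem locP_lqf_field_iff (k : Type u) [Field k] {X : Sp (Spec (CommRingCat.of k))}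
    (p : X ⟶ (yon (Spec (CommRingCat.of k))).obj (Over.mk (𝟙 _))) :
    LocP (@LocallyQuasiFinite ⊓ @LocallyOfFiniteType : MorphismProperty Scheme.{u}) p ↔
      LocP @LocallyOfFiniteType p ∧ dim X ≤ 0 := by
  let one : Over (Spec (CommRingCat.of k)) := Over.mk (𝟙 _)
  have hone : IsTerminal ((yon (Spec (CommRingCat.of k))).obj one) :=
    IsTerminal.isTerminalObj (yon _) _ Over.mkIdTerminal
  constructor
  · intro h
    refine ⟨fun U V a b hh ha hb hc => (h a b hh ha hb hc).2, ?_⟩
    refine iSup_le (fun U => iSup_le (fun a => iSup_le (fun ha => ?_)))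
    let hU : U ⟶ one := Over.homMk U.hom
    have h1 := h a (𝟙 _) hU ha (repWith_id @Etale one) (hone.hom_ext _ _)
    haveI : LocallyQuasiFinite hU.left := h1.1
    refine (topologicalKrullDim_le_of_lqf hU.left).trans ?_
    have h2 : topologicalKrullDim (PrimeSpectrum k) = 0 := by
      rw [PrimeSpectrum.topologicalKrullDim_eq_ringKrullDim, ringKrullDim_eq_zero_of_field]
    exact h2.le
  · rintro ⟨hlft, hd⟩ U V a b h ha hb hc
    have h1 : LocallyOfFiniteType h.left := hlft a b h ha hb hc
    refine ⟨?_, h1⟩
    let hU : U ⟶ one := Over.homMk U.hom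
    have h2 : LocallyOfFiniteType hU.left :=
      hlft a (𝟙 _) hU ha (repWith_id @Etale one) (hone.hom_ext _ _)
    have hdU : topologicalKrullDim U.left ≤ 0 := by
      refine le_trans ?_ hd
      exact le_iSup_of_le U (le_iSup_of_le a (le_iSup_of_le ha le_rfl))
    haveI := h2
    haveI := discreteTopology_of_lft_field_of_dim_le_zero k hU.left hdU
    haveI := h1
    change LocallyQuasiFinite h.left
    rw [locallyQuasiFinite_iff_isDiscrete_preimage_singleton]
    intro x
    exact isDiscrete_iff_discreteTopology.mpr inferInstance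

end Groth.Agent.Helper16.AS
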