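import Groth.Agent.Lib.Helper16.AlgSp.FppfLoc

/-!
# Descent of open subsets along fpqc coverings
-/

set_option autoImplicit false
universe u
open CategoryTheory CategoryTheory.Limits AlgebraicGeometry MorphismProperty Opposite
open AlgSp Groth.Agent.Helper15

namespace Groth.Agent.Helper16.AS

variable {S : Scheme.{u}}

/-- a subset whose preimages under the members of a family refined by standard fpqc coverings
are open is open -/
theorem IsStdRefinable.isOpen_of_preimage {ι : Type u} {X : Sp S} {Xi : ι → Sp S}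
    {g : ∀ i, Xi i ⟶ X} (h : IsStdRefinable Xi g) (W : Set (Points X))
    (hW : ∀ i, IsOpen (Points.map (g i) ⁻¹' W)) : IsOpen W := by
  rw [isOpen_points_iff_affine]
  intro Z hZ t
  haveI := hZ
  obtain ⟨m, W', c, hc, hl⟩ := h Z hZ t
  have h1 : Points.ofPt t ⁻¹' W = (Points.schemeHomeo Z) ⁻¹' (Points.map t ⁻¹' W) := by
    ext z
    simp only [Set.mem_preimage]
    rw [Points.ofPt_eq_map_ofScheme]
    rfl
  rw [h1, (Points.schemeHomeo Z).isOpen_preimage, hc.isOpen_iff]
  intro j
  obtain ⟨i, l, hl⟩ := hl j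
  have h2 : Points.map ((yon S).map (c j)) ⁻¹' (Points.map t ⁻¹' W) =
      Points.map l ⁻¹' (Points.map (g i) ⁻¹' W) := by
    ext x
    simp only [Set.mem_preimage]
    rw [← Points.map_comp, ← Points.map_comp, hl]
  rw [h2]
  exact (hW i).preimage (Points.continuous_map l)

theorem existsUnique_open_of_stdRefinable {ι : Type u} {X : Sp S} {Xi : ι → Sp S}
    {g : ∀ i, Xi i ⟶ X} (h : IsStdRefinable Xi g)
    (Wi : ∀ i, Set (Points (Xi i))) (hW : ∀ i, IsOpen (Wi i))
    (hc : ∀ i j, Points.map (pullback.fst (g i) (g j)) ⁻¹' Wi i =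
      Points.map (pullback.snd (g i) (g j)) ⁻¹' Wi j) :
    ∃! W : TopologicalSpace.Opens (Points X),
      ∀ i, Points.map (g i) ⁻¹' (W : Set (Points X)) = Wi i := by
  have key : ∀ i, Points.map (g i) ⁻¹' (⋃ j, Points.map (g j) '' Wi j) = Wi i := by
    intro i
    ext x
    simp only [Set.mem_preimage, Set.mem_iUnion, Set.mem_image]
    constructor
    · rintro ⟨j, y, hy, hxy⟩
      obtain ⟨z, hz1, hz2⟩ := exists_point_of_isPullback
        (IsPullback.of_hasPullback (g i) (g j)) x y hxy.symm
      have : z ∈ Points.map (pullback.snd (g i) (g j)) ⁻¹' Wi j := by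
        rw [Set.mem_preimage, hz2]; exact hy
      rw [← hc i j, Set.mem_preimage, hz1] at this
      exact this
    · intro hx
      exact ⟨i, x, hx, rfl⟩
  have hopen : IsOpen (⋃ j, Points.map (g j) '' Wi j) :=
    h.isOpen_of_preimage _ fun i => by rw [key i]; exact hW i
  refine ⟨⟨_, hopen⟩, key, ?_⟩
  intro W' hW'
  apply TopologicalSpace.Opens.ext
  ext x
  obtain ⟨i, y, rfl⟩ := h.exists_point x
  change y ∈ Points.map (g i) ⁻¹' (W' : Set (Points X)) ↔
    y ∈ Points.map (g i) ⁻¹' (⋃ j, Points.map (g j) '' Wi j)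
  rw [hW' i, key i]

end Groth.Agent.Helper16.AS
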