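import Groth.Agent.Lib.Helper16.AlgSp.ProperSp2

/-!
# Properness via finite jointly surjective universally closed families
-/

set_option autoImplicit false
universe u
open CategoryTheory CategoryTheory.Limits AlgebraicGeometry MorphismProperty
open AlgSp Groth.Agent.Helper15

namespace Groth.Agent.Helper16.AS

variable {S : Scheme.{u}}

/-- Family version of `isUnivClosedMor_of_surjective_over`. -/
theorem isUnivClosedMor_of_jointly_surjective {ι : Type*} [Finite ι] {X : ι → Sp S} {Y B : Sp S}
    (t : ∀ k, X k ⟶ Y) (q : Y ⟶ B) (hp : ∀ k, IsUnivClosedMor (t k ≫ q))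
    (hsurj : ∀ y : Points Y, ∃ k x, Points.map (t k) x = y) : IsUnivClosedMor q := by
  intro Z YZ hZ g fstY sndY sqY
  have sqX : ∀ k, IsPullback (pullback.fst (t k) fstY) (pullback.snd (t k) fstY) (t k) fstY :=
    fun k => IsPullback.of_hasPullback _ _
  have big : ∀ k, IsPullback (pullback.fst (t k) fstY) (pullback.snd (t k) fstY ≫ sndY)
      (t k ≫ q) g := fun k => (sqX k).paste_vert sqY
  have hclosed : ∀ k, IsClosedMor (pullback.snd (t k) fstY ≫ sndY) :=
    fun k => hp k hZ g _ _ (big k)
  intro C hC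
  have : Points.map sndY '' C = ⋃ k,
      Points.map (pullback.snd (t k) fstY ≫ sndY) ''
        (Points.map (pullback.snd (t k) fstY) ⁻¹' C) := by
    ext z
    simp only [Set.mem_image, Set.mem_iUnion, Set.mem_preimage]
    constructor
    · rintro ⟨y, hy, rfl⟩
      obtain ⟨k, x, hx⟩ := hsurj (Points.map fstY y)
      obtain ⟨p, -, hp2⟩ := exists_point_of_isPullback (sqX k) x y hx
      exact ⟨k, p, by rw [hp2]; exact hy, by rw [Points.map_comp, hp2]⟩
    · rintro ⟨k, x, hx, rfl⟩
      exact ⟨_, hx, (Points.map_comp _ _ _).symm⟩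
  rw [this]
  exact isClosed_iUnion_of_finite fun k =>
    hclosed k _ (hC.preimage (Points.continuous_map _))

/-- Family version of `isQuasiCompactMor_of_surjective_comp`. -/
theorem isQuasiCompactMor_of_jointly_surjective {ι : Type*} [Finite ι] {R : ι → Sp S}
    {Z Y : Sp S} (hZ : IsAlgSpace Z) (hY : IsAlgSpace Y) (t : ∀ k, R k ⟶ Z) (g : Z ⟶ Y)
    (hsurj : ∀ y : Points Z, ∃ k x, Points.map (t k) x = y)
    (h : ∀ k, IsQuasiCompactMor (t k ≫ g)) : IsQuasiCompactMor g := by
  intro W W' hW hWqc w fst snd sq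
  have sqT : ∀ k, IsPullback (pullback.fst (t k) fst) (pullback.snd (t k) fst) (t k) fst :=
    fun k => IsPullback.of_hasPullback _ _
  have big : ∀ k, IsPullback (pullback.fst (t k) fst) (pullback.snd (t k) fst ≫ snd)
      (t k ≫ g) w := fun k => (sqT k).paste_vert sq
  have hqc : ∀ k, IsQuasiCompactSp (pullback (t k) fst) := fun k => h k hW hWqc w _ _ (big k)
  have hW' : IsAlgSpace W' := isAlgSpace_of_isPullback hY.diag hZ hW sq
  have hcpt : ∀ k, IsCompact (Set.range (Points.map (pullback.snd (t k) fst))) := fun k => by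
    haveI := compactSpace_points_of_isQuasiCompactSp (hqc k)
    exact isCompact_range (Points.continuous_map _)
  haveI : CompactSpace (Points W') := by
    refine ⟨?_⟩
    have : (Set.univ : Set (Points W')) =
        ⋃ k, Set.range (Points.map (pullback.snd (t k) fst)) := by
      ext y
      simp only [Set.mem_univ, Set.mem_iUnion, Set.mem_range, true_iff]
      obtain ⟨k, x, hx⟩ := hsurj (Points.map fst y)
      obtain ⟨p, -, hp2⟩ := exists_point_of_isPullback (sqT k) x y hx
      exact ⟨k, p, hp2⟩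
    rw [this]
    exact isCompact_iUnion hcpt
  exact isQuasiCompactSp_of_compactSpace_points hW'

/-- `s × s` is universally closed when `s` is. -/
theorem isUnivClosedMor_pullback_map {R Z B : Sp S} (hR : IsAlgSpace R) (hZ : IsAlgSpace Z)
    (hB : IsAlgSpace B) (s : R ⟶ Z) (g : Z ⟶ B) (hs : IsUnivClosedMor s) :
    IsUnivClosedMor (pullback.map (s ≫ g) (s ≫ g) g g s s (𝟙 B) (by simp) (by simp)) := by
  let m₁ : pullback (s ≫ g) (s ≫ g) ⟶ pullback g (s ≫ g) :=
    pullback.map (s ≫ g) (s ≫ g) g (s ≫ g) s (𝟙 R) (𝟙 B) (by simp) (by simp)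
  let m₂ : pullback g (s ≫ g) ⟶ pullback g g :=
    pullback.map g (s ≫ g) g g (𝟙 Z) s (𝟙 B) (by simp) (by simp)
  have e : pullback.map (s ≫ g) (s ≫ g) g g s s (𝟙 B) (by simp) (by simp) = m₁ ≫ m₂ := by
    apply pullback.hom_ext <;>
      simp only [m₁, m₂, Category.assoc, pullback.lift_fst, pullback.lift_snd,
        pullback.lift_snd_assoc, Category.comp_id]
  have sq₁ : IsPullback m₁ (pullback.fst (s ≫ g) (s ≫ g)) (pullback.fst g (s ≫ g)) s := by
    refine IsPullback.of_right (h₁₂ := pullback.snd g (s ≫ g)) (h₂₂ := g) (v₁₃ := s ≫ g) ?_ ?_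
      (IsPullback.of_hasPullback g (s ≫ g)).flip
    · have : m₁ ≫ pullback.snd g (s ≫ g) = pullback.snd (s ≫ g) (s ≫ g) := by
        dsimp only [m₁]
        rw [pullback.lift_snd, Category.comp_id]
      rw [this]
      exact (IsPullback.of_hasPullback (s ≫ g) (s ≫ g)).flip
    · simp only [m₁, pullback.lift_fst]
  have sq₂ : IsPullback m₂ (pullback.snd g (s ≫ g)) (pullback.snd g g) s := by
    refine IsPullback.of_right (h₁₂ := pullback.fst g g) (h₂₂ := g) (v₁₃ := g) ?_ ?_
      (IsPullback.of_hasPullback g g)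
    · have : m₂ ≫ pullback.fst g g = pullback.fst g (s ≫ g) := by
        dsimp only [m₂]
        rw [pullback.lift_fst, Category.comp_id]
      rw [this]
      exact (IsPullback.of_hasPullback g (s ≫ g))
    · simp only [m₂, pullback.lift_snd]
  have h₁ : IsUnivClosedMor m₁ := UnivSp.of_isPullback sq₁.flip hs
  have h₂ : IsUnivClosedMor m₂ := UnivSp.of_isPullback sq₂.flip hs
  rw [e]
  exact isUnivClosedMor_comp (isAlgSpace_pullback hZ hB hR _ _)
    (isAlgSpace_pullback hZ hB hZ _ _).diag m₁ m₂ h₁ h₂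

/-- Separatedness from a finite jointly surjective family of universally closed maps with
separated composites. -/
theorem isSeparatedMor_of_jointly_surjective {ι : Type*} [Finite ι] {R : ι → Sp S} {Z B : Sp S}
    (hR : ∀ k, IsAlgSpace (R k)) (hZ : IsAlgSpace Z) (hB : IsAlgSpace B)
    (s : ∀ k, R k ⟶ Z) (g : Z ⟶ B) (hs : ∀ k, IsUnivClosedMor (s k))
    (hsurj : ∀ y : Points Z, ∃ k x, Points.map (s k) x = y)
    (h : ∀ k, IsSeparatedMor (s k ≫ g)) : IsSeparatedMor g := by
  rw [(isSeparatedMor_iff_diagonal hZ g).1]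
  refine isUnivClosedMor_of_jointly_surjective s (pullback.diagonal g) (fun k => ?_) hsurj
  have hΔ : IsUnivClosedMor (pullback.diagonal (s k ≫ g)) :=
    ((isSeparatedMor_iff_diagonal (hR k) (s k ≫ g)).1).1 (h k)
  have hcomp : IsUnivClosedMor (pullback.diagonal (s k ≫ g) ≫
      pullback.map (s k ≫ g) (s k ≫ g) g g (s k) (s k) (𝟙 B) (by simp) (by simp)) :=
    isUnivClosedMor_comp (isAlgSpace_pullback (hR k) hB (hR k) _ _)
      (isAlgSpace_pullback hZ hB hZ _ _).diag _ _ hΔ
      (isUnivClosedMor_pullback_map (hR k) hZ hB (s k) g (hs k))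
  have e : pullback.diagonal (s k ≫ g) ≫
      pullback.map (s k ≫ g) (s k ≫ g) g g (s k) (s k) (𝟙 B) (by simp) (by simp) =
      s k ≫ pullback.diagonal g := by
    apply pullback.hom_ext
    · simp only [Category.assoc, pullback.lift_fst, pullback.diagonal_fst]
      rw [pullback.diagonal_fst_assoc, Category.comp_id]
    · simp only [Category.assoc, pullback.lift_snd, pullback.diagonal_snd]
      rw [pullback.diagonal_snd_assoc, Category.comp_id]
  rw [e] at hcomp
  exact hcomp

/-- Properness from a finite jointly surjective family of universally closed maps with proper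
composites. -/
theorem isProperMor_of_jointly_surjective {ι : Type*} [Finite ι] {R : ι → Sp S} {Z B : Sp S}
    (hR : ∀ k, IsAlgSpace (R k)) (hZ : IsAlgSpace Z) (hB : IsAlgSpace B)
    (s : ∀ k, R k ⟶ Z) (g : Z ⟶ B) (hs : ∀ k, IsUnivClosedMor (s k))
    (hsurj : ∀ y : Points Z, ∃ k x, Points.map (s k) x = y)
    (hg : LocP @LocallyOfFiniteType g)
    (h : ∀ k, IsProperMor (s k ≫ g)) : IsProperMor g :=
  ⟨isSeparatedMor_of_jointly_surjective hR hZ hB s g hs hsurj fun k => (h k).1,
   ⟨hg, isQuasiCompactMor_of_jointly_surjective hZ hB s g hsurj fun k => (h k).2.1.2⟩,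
   isUnivClosedMor_of_jointly_surjective s g (fun k => (h k).2.2) hsurj⟩

/-- If `s ≫ i'` is universally closed and `i'` is a monomorphism, `s` is universally closed. -/
theorem isUnivClosedMor_of_comp_mono {R Z Y : Sp S} (s : R ⟶ Z) (i' : Z ⟶ Y) [Mono i']
    (h : IsUnivClosedMor (s ≫ i')) : IsUnivClosedMor s := by
  have sq : IsPullback (𝟙 R) s (s ≫ i') i' := by
    have h1 : IsPullback s (𝟙 R) (𝟙 Z) s := IsPullback.id_vert s
    have h2 : IsPullback (𝟙 Z) (𝟙 Z) i' i' := (IsKernelPair.id_of_mono i')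
    have := h1.paste_horiz h2
    rw [Category.comp_id] at this
    exact this.flip
  exact UnivSp.of_isPullback sq h

/-- The reduced closed subspace on a closed subspace: a reduced algebraic space `R` with a closed
immersion `t : R ⟶ Z` which is surjective on points. -/
theorem exists_reduction {Z X : Sp S} (hX : IsAlgSpace X) (hZ : IsAlgSpace Z) (i : Z ⟶ X)
    (hi : RepWith @IsClosedImmersion i) :
    ∃ (R : Sp S) (t : R ⟶ Z), IsAlgSpace R ∧ IsReducedSp R ∧ RepWith @IsClosedImmersion t ∧
      RepWith @IsClosedImmersion (t ≫ i) ∧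
      Set.range (Points.map (t ≫ i)) = Set.range (Points.map i) := by
  have hT : IsClosed (Set.range (Points.map i)) :=
    (repWith_isClosedImmersion_iff_isClosed_range hX i
      (repWith_mono isClosedImmersion_le_isImmersion hi)).1 hi
  obtain ⟨R, r, hR, hr, hrange, hred⟩ := exists_isRedInduced hX _ hT
  obtain ⟨t, ht⟩ := (factors_iff_of_isReducedSp i hi hred r).2 (by rw [hrange])
  haveI : Mono i := mono_of_repWith isClosedImmersion_le_mono i hi
  have htc : RepWith @IsClosedImmersion t :=
    (permanence hZ t i).2 (by rw [ht]; exact hr) (isSeparatedMor_of_mono i)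
  exact ⟨R, t, hR, hred, htc, by rw [ht]; exact hr, by rw [ht, hrange]⟩

/-- Core of S10762/S10763. -/
theorem exists_closedSubspace_image_proper {X Y B Z : Sp S} (hX : IsAlgSpace X)
    (hY : IsAlgSpace Y) (hB : IsAlgSpace B) (hZ : IsAlgSpace Z)
    (a : X ⟶ B) (b : Y ⟶ B) (f : X ⟶ Y) (hcomm : f ≫ b = a)
    (hb : LocP @LocallyOfFiniteType b)
    (i : Z ⟶ X) (hi : RepWith @IsClosedImmersion i) (hZp : IsProperMor (i ≫ a))
    (huc : IsUnivClosedMor (i ≫ f)) :
    IsClosed (Points.map f '' Set.range (Points.map i)) ∧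
      ∃ (Z' : Sp S) (i' : Z' ⟶ Y), IsAlgSpace Z' ∧ RepWith @IsClosedImmersion i' ∧
        Set.range (Points.map i') = Points.map f '' Set.range (Points.map i) ∧
        IsProperMor (i' ≫ b) := by
  have hcl : IsClosed (Points.map f '' Set.range (Points.map i)) := by
    rw [← range_points_map_comp, ← Set.image_univ]
    exact isClosedMor_of_isUnivClosedMor hY (i ≫ f) huc _ isClosed_univ
  refine ⟨hcl, ?_⟩
  obtain ⟨Z', i', hZ', hi', hrange', hred'⟩ := exists_isRedInduced hY _ hcl
  obtain ⟨R, t, hR, hred, htc, htic, hrange⟩ := exists_reduction hX hZ i hi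
  have hrg : Set.range (Points.map (t ≫ i ≫ f)) = Points.map f '' Set.range (Points.map i) := by
    rw [← Category.assoc, range_points_map_comp, hrange]
  obtain ⟨s, hs⟩ := (factors_iff_of_isReducedSp i' hi' hred (t ≫ i ≫ f)).2
    (by rw [hrg, hrange'])
  haveI : Mono i' := mono_of_repWith isClosedImmersion_le_mono i' hi'
  have hsurj : IsSurjectiveMor s := by
    intro z'
    have : Points.map i' z' ∈ Set.range (Points.map (t ≫ i ≫ f)) := by
      rw [hrg, ← hrange']; exact ⟨z', rfl⟩
    obtain ⟨x, hx⟩ := this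
    refine ⟨x, (injOnFieldPts_of_mono i').injective_points_map ?_⟩
    rw [← Points.map_comp, hs, hx]
  have huc' : IsUnivClosedMor (s ≫ i') := by
    rw [hs]
    exact isUnivClosedMor_comp hZ hY.diag t (i ≫ f) (isProperMor_of_closedImmersion t htc).2.2 huc
  have hsuc : IsUnivClosedMor s := isUnivClosedMor_of_comp_mono s i' huc'
  have hprop : IsProperMor (s ≫ i' ≫ b) := by
    rw [← Category.assoc, hs, Category.assoc, Category.assoc, hcomm]
    exact isProperMor_comp hR hZ hB t (i ≫ a) (isProperMor_of_closedImmersion t htc) hZp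
  have hlft : LocP @LocallyOfFiniteType (i' ≫ b) :=
    locP_comp goodP_lft srcEtLoc_lft hZ' hY hB i' b
      (isProperMor_of_closedImmersion i' hi').2.1.1 hb
  refine ⟨Z', i', hZ', hi', hrange', ?_⟩
  exact isProperMor_of_jointly_surjective (ι := Unit) (R := fun _ => R) (fun _ => hR) hZ' hB
    (fun _ => s) (i' ≫ b) (fun _ => hsuc) (fun y => by
      obtain ⟨x, hx⟩ := hsurj y
      exact ⟨(), x, hx⟩) hlft (fun _ => hprop)

/-- Core of S10765. -/
theorem exists_closedSubspace_iUnion_proper {X Y : Sp S} (hX : IsAlgSpace X)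
    (hY : IsAlgSpace Y) (f : X ⟶ Y) (hf : LocP @LocallyOfFiniteType f) {ι : Type*} [Finite ι]
    (Z : ι → Sp S) (hZ : ∀ k, IsAlgSpace (Z k)) (i : ∀ k, Z k ⟶ X)
    (hi : ∀ k, RepWith @IsClosedImmersion (i k)) (hZp : ∀ k, IsProperMor (i k ≫ f)) :
    ∃ (W : Sp S) (j : W ⟶ X), IsAlgSpace W ∧ RepWith @IsClosedImmersion j ∧
      Set.range (Points.map j) = ⋃ k, Set.range (Points.map (i k)) ∧
      IsProperMor (j ≫ f) := by
  have hcl : IsClosed (⋃ k, Set.range (Points.map (i k))) :=
    isClosed_iUnion_of_finite fun k =>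
      (repWith_isClosedImmersion_iff_isClosed_range hX (i k)
        (repWith_mono isClosedImmersion_le_isImmersion (hi k))).1 (hi k)
  obtain ⟨W, j, hW, hj, hrangeW, hredW⟩ := exists_isRedInduced hX _ hcl
  choose R t hR hred htc htic hrange using fun k => exists_reduction hX (hZ k) (i k) (hi k)
  have hfac : ∀ k, ∃ s : R k ⟶ W, s ≫ j = t k ≫ i k := fun k =>
    (factors_iff_of_isReducedSp j hj (hred k) (t k ≫ i k)).2 (by
      rw [hrange k, hrangeW]
      exact Set.subset_iUnion (fun k => Set.range (Points.map (i k))) k)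
  choose s hs using hfac
  haveI : Mono j := mono_of_repWith isClosedImmersion_le_mono j hj
  have hsuc : ∀ k, IsUnivClosedMor (s k) := fun k => by
    apply isUnivClosedMor_of_comp_mono (s k) j
    rw [hs k]
    exact (isProperMor_of_closedImmersion _ (htic k)).2.2
  have hsurj : ∀ y : Points W, ∃ k x, Points.map (s k) x = y := by
    intro w
    have : Points.map j w ∈ ⋃ k, Set.range (Points.map (i k)) := by
      rw [← hrangeW]; exact ⟨w, rfl⟩
    obtain ⟨k, hk⟩ := Set.mem_iUnion.1 this
    rw [← hrange k] at hk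
    obtain ⟨x, hx⟩ := hk
    refine ⟨k, x, (injOnFieldPts_of_mono j).injective_points_map ?_⟩
    rw [← Points.map_comp, hs k, hx]
  have hprop : ∀ k, IsProperMor (s k ≫ j ≫ f) := fun k => by
    rw [← Category.assoc, hs k, Category.assoc]
    exact isProperMor_comp (hR k) (hZ k) hY (t k) (i k ≫ f)
      (isProperMor_of_closedImmersion _ (htc k)) (hZp k)
  have hlft : LocP @LocallyOfFiniteType (j ≫ f) :=
    locP_comp goodP_lft srcEtLoc_lft hW hX hY j f
      (isProperMor_of_closedImmersion j hj).2.1.1 hf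
  exact ⟨W, j, hW, hj, hrangeW,
    isProperMor_of_jointly_surjective hR hW hY s (j ≫ f) hsuc hsurj hlft hprop⟩

end Groth.Agent.Helper16.AS
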