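import Groth.Agent.Lib.Helper16.Sch.RedDVR2
import Groth.Agent.Lib.Helper16.AlgSp.BCSp
import Groth.Agent.Lib.Helper15.AlgSpRedStalk
import Groth.Agent.Lib.Helper4.FinCondLib
import Groth.Prelude.Def_AlgSp4

set_option autoImplicit false
set_option linter.style.haveILetI false
universe u

open IsLocalRing AlgebraicGeometry CategoryTheory Limits MorphismProperty Opposite
open AlgSp Groth.Agent.Helper15

noncomputable section

namespace Groth.Agent.Helper16.SpFib

variable (R : Type u) [CommRing R] [IsLocalRing R]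

/-- `Spec κ(closed point of Spec R) ≅ Spec (R/m)` -/
def specResidueIso :
    Spec ((Spec (CommRingCat.of R)).residueField (closedPoint R)) ≅
      Spec (CommRingCat.of (ResidueField R)) :=
  Scheme.Spec.mapIso (IsLocalRing.ResidueField.mapEquiv
    (stalkClosedPointIso (CommRingCat.of R)).commRingCatIsoToRingEquiv.symm).toCommRingCatIso.op

lemma specResidueIso_hom_comp :
    (specResidueIso R).hom ≫ Spec.map (CommRingCat.ofHom (residue R)) =
      (Spec (CommRingCat.of R)).fromSpecResidueField (closedPoint R) := by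
  rw [Scheme.fromSpecResidueField, ← Spec_stalkClosedPointIso, ← Spec.map_comp]
  change Spec.map _ ≫ Spec.map _ = _
  rw [← Spec.map_comp]
  congr 1

variable {R} in
/-- the comparison map from the scheme-theoretic fibre over the closed point to the pullback along
`Spec (R/m) → Spec R` -/
def fiberClosedPointMap {Y : Scheme.{u}} (g : Y ⟶ Spec (CommRingCat.of R)) :
    g.fiber (closedPoint R) ⟶ pullback g (Spec.map (CommRingCat.ofHom (residue R))) :=
  pullback.map g ((Spec (CommRingCat.of R)).fromSpecResidueField (closedPoint R))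
    g (Spec.map (CommRingCat.ofHom (residue R))) (𝟙 _) (specResidueIso R).hom (𝟙 _)
    (by rw [Category.comp_id, Category.id_comp])
    (by rw [specResidueIso_hom_comp, Category.comp_id])

variable {R} in
instance {Y : Scheme.{u}} (g : Y ⟶ Spec (CommRingCat.of R)) : IsIso (fiberClosedPointMap g) := by
  unfold fiberClosedPointMap
  haveI : IsIso (specResidueIso R).hom := inferInstance
  haveI : IsIso (𝟙 Y) := inferInstance
  haveI : IsIso (𝟙 (Spec (CommRingCat.of R))) := inferInstance
  exact pullback.map_isIso _ _ _ _ _ _ _ _ _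

variable {R} in
lemma isReduced_fiber_closedPoint {Y : Scheme.{u}} (g : Y ⟶ Spec (CommRingCat.of R))
    (h : IsReduced (pullback g (Spec.map (CommRingCat.ofHom (residue R))))) :
    IsReduced (g.fiber (closedPoint R)) :=
  isReduced_of_isOpenImmersion (fiberClosedPointMap g)

end Groth.Agent.Helper16.SpFib

namespace Groth.Agent.Helper16.RedDVRSp

variable {S : Scheme.{u}}

/-- `h_S` is terminal. -/
def isTerminalYonOne : IsTerminal ((yon S).obj (Over.mk (𝟙 S))) :=
  IsTerminal.isTerminalObj (yon S) _ Over.mkIdTerminal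

/-- The structure morphism of an `S`-scheme. -/
def toOne (T : Over S) : T ⟶ Over.mk (𝟙 S) := Over.homMk T.hom (Category.comp_id _)

lemma isPullback_prod (X : Sp S) (T : Over S) (s : X ⟶ (yon S).obj (Over.mk (𝟙 S)))
    (k : T ⟶ Over.mk (𝟙 S)) :
    IsPullback (prod.fst : X ⨯ (yon S).obj T ⟶ X) prod.snd s ((yon S).map k) := by
  have h := IsPullback.of_is_product' (prodIsProd X ((yon S).obj T)) (isTerminalYonOne (S := S))
  rwa [isTerminalYonOne.hom_ext (isTerminalYonOne.from X) s,
    isTerminalYonOne.hom_ext (isTerminalYonOne.from ((yon S).obj T)) ((yon S).map k)] at h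

/-- A fibre `X ×_{h_S} h_T` is the product. -/
def isoProd {X X' : Sp S} {T : Over S} {s : X ⟶ (yon S).obj (Over.mk (𝟙 S))}
    {k : T ⟶ Over.mk (𝟙 S)} {fst : X' ⟶ X} {snd : X' ⟶ (yon S).obj T}
    (hpb : IsPullback fst snd s ((yon S).map k)) : X' ≅ X ⨯ (yon S).obj T :=
  hpb.isoIsPullback _ _ (isPullback_prod X T s k)

/-- The chart of a fibre induced by a chart. -/
def fibChart {X X' : Sp S} {T : Over S} {s : X ⟶ (yon S).obj (Over.mk (𝟙 S))}
    {k : T ⟶ Over.mk (𝟙 S)} {fst : X' ⟶ X} {snd : X' ⟶ (yon S).obj T}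
    (hpb : IsPullback fst snd s ((yon S).map k)) {U : Over S} (p : (yon S).obj U ⟶ X) :
    (yon S).obj (U ⨯ T) ⟶ X' :=
  AS.bcChart p T ≫ (isoProd hpb).inv

lemma repWith_fibChart (P : MorphismProperty Scheme.{u}) {X X' : Sp S} {T : Over S}
    {s : X ⟶ (yon S).obj (Over.mk (𝟙 S))}
    {k : T ⟶ Over.mk (𝟙 S)} {fst : X' ⟶ X} {snd : X' ⟶ (yon S).obj T}
    (hpb : IsPullback fst snd s ((yon S).map k)) {U : Over S} (p : (yon S).obj U ⟶ X)
    (hp : RepWith P p) : RepWith P (fibChart hpb p) := by
  unfold fibChart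
  rw [(RepWith P).cancel_right_of_respectsIso]
  exact AS.repWith_bcChart P p hp T

theorem isReduced_prod_of_isReducedSp {X X' : Sp S} {T : Over S}
    {s : X ⟶ (yon S).obj (Over.mk (𝟙 S))}
    {k : T ⟶ Over.mk (𝟙 S)} {fst : X' ⟶ X} {snd : X' ⟶ (yon S).obj T}
    (hpb : IsPullback fst snd s ((yon S).map k)) {U : Over S} (p : (yon S).obj U ⟶ X)
    (hp : RepWith @Etale p) (h : IsReducedSp X') : IsReduced (pullback U.hom T.hom) := by
  haveI : IsReduced (U ⨯ T).left :=
    AS.isReduced_of_etale_of_isReducedSp h (fibChart hpb p) (repWith_fibChart _ hpb p hp)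
  exact isReduced_of_isOpenImmersion (Over.prodLeftIsoPullback U T).inv

theorem isReducedSp_of_isReduced_prod {X X' : Sp S} {T : Over S}
    {s : X ⟶ (yon S).obj (Over.mk (𝟙 S))}
    {k : T ⟶ Over.mk (𝟙 S)} {fst : X' ⟶ X} {snd : X' ⟶ (yon S).obj T}
    (hpb : IsPullback fst snd s ((yon S).map k)) {U : Over S} (p : (yon S).obj U ⟶ X)
    (hpe : RepWith @Etale p) (hps : RepWith @Surjective p)
    (h : IsReduced (pullback U.hom T.hom)) : IsReducedSp X' := by
  haveI : IsReduced (U ⨯ T).left :=
    isReduced_of_isOpenImmersion (Over.prodLeftIsoPullback U T).hom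
  exact ⟨_, fibChart hpb p, repWith_fibChart _ hpb p hpe, repWith_fibChart _ hpb p hps,
    inferInstance⟩

end Groth.Agent.Helper16.RedDVRSp
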