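import Groth.Agent.Lib.Helper16.AlgSp.RedDVRSp

set_option autoImplicit false
set_option linter.style.haveILetI false
universe u

open IsLocalRing AlgebraicGeometry CategoryTheory Limits MorphismProperty Opposite
open AlgSp Groth.Agent.Helper15

noncomputable section

namespace Groth.Agent.Helper16.RedDVRSp

variable {S : Scheme.{u}}

/-- The locus of points of an algebraic space with reduced local rings (in etale charts). -/
def redLocus (X : Sp S) : Set (Points X) :=
  {x | HasAt (fun U u => _root_.IsReduced ↥(U.presheaf.stalk u)) X x}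

theorem isOpen_redLocus {X : Sp S} {U : Over S} (p : (yon S).obj U ⟶ X)
    (hpe : RepWith @Etale p) (hps : RepWith @Surjective p) [IsLocallyNoetherian U.left] :
    IsOpen (redLocus X) := by
  rw [isOpen_iff_forall_mem_open]
  intro x hx
  obtain ⟨u, rfl⟩ := surjective_ofPt p hps x
  have hu : _root_.IsReduced (U.left.presheaf.stalk u) :=
    hasAt_forall_chart etInv_isReduced_stalk _ hx U p u hpe rfl
  obtain ⟨W, huW, hW⟩ := Groth.Agent.Helper4.FinCondLib.exists_reduced_nhd U.left u
  refine ⟨Points.ofPt p '' (W : Set U.left), ?_, isOpenMap_ofPt_of_etale p hpe _ W.isOpen,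
    ⟨u, huW, rfl⟩⟩
  rintro _ ⟨w, hw, rfl⟩
  exact ⟨U, p, w, hpe, rfl, hW w hw⟩

theorem isReducedSp_of_redLocus_eq_univ {X : Sp S} (hX : IsAlgSpace X)
    (h : redLocus X = Set.univ) : IsReducedSp X := by
  rw [isReducedSp_iff_forall_hasAt hX]
  intro x
  have : x ∈ redLocus X := by rw [h]; trivial
  exact this

/-- An open subset of the points of a space closed over a local base which contains the closed
fibre is everything. -/
theorem eq_univ_of_isOpen_of_closedFibre {R : Type u} [CommRing R] [IsLocalRing R]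
    {X : Sp (Spec (CommRingCat.of R))}
    (s : X ⟶ (yon (Spec (CommRingCat.of R))).obj (Over.mk (𝟙 _)))
    (hcl : IsClosedMap (Points.map s)) (V : Set (Points X)) (hV : IsOpen V)
    (hsp : ∀ x, Points.map s x = Points.ofScheme (Over.mk (𝟙 (Spec (CommRingCat.of R))))
      (closedPoint R) → x ∈ V) : V = Set.univ := by
  by_contra hne
  obtain ⟨z, hz⟩ : ∃ z, z ∉ V := by
    by_contra h
    push_neg at h
    exact hne (Set.eq_univ_of_forall h)
  have hcl' : IsClosed (Points.map s '' Vᶜ) := hcl _ hV.isClosed_compl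
  let T1 : Over (Spec (CommRingCat.of R)) := Over.mk (𝟙 _)
  obtain ⟨t, ht⟩ := (Points.schemeHomeo T1).surjective (Points.map s z)
  have hspec : t ⤳ closedPoint R := IsLocalRing.specializes_closedPoint t
  have hspec' : Points.schemeHomeo T1 t ⤳ Points.schemeHomeo T1 (closedPoint R) :=
    hspec.map (Points.schemeHomeo T1).continuous
  have hmem : Points.schemeHomeo T1 (closedPoint R) ∈ Points.map s '' Vᶜ :=
    hspec'.mem_closed hcl' ⟨z, hz, ht.symm⟩
  obtain ⟨z', hz', hz'eq⟩ := hmem
  exact hz' (hsp z' hz'eq)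

lemma isClosedMap_of_isUnivClosedMor {X Y : Sp S} (hY : IsAlgSpace Y) (s : X ⟶ Y)
    (h : IsUnivClosedMor s) : IsClosedMap (Points.map s) :=
  h hY (𝟙 _) (𝟙 _) s (IsPullback.of_horiz_isIso ⟨by rw [Category.id_comp, Category.comp_id]⟩)

end Groth.Agent.Helper16.RedDVRSp

namespace Groth.Agent.Helper16.RedDVRSp

theorem isOpenImmersion_Spec_fractionRing (R : Type u) [CommRing R] [IsDomain R]
    [IsDiscreteValuationRing R] :
    IsOpenImmersion (Spec.map (CommRingCat.ofHom (algebraMap R (FractionRing R)))) := by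
  obtain ⟨ϖ, hϖ⟩ := IsDiscreteValuationRing.exists_irreducible R
  haveI : IsLocalization.Away ϖ (FractionRing R) := by
    refine (IsLocalization.iff_of_le_of_exists_dvd (Submonoid.powers ϖ) (nonZeroDivisors R)
      ?_ ?_).2 inferInstance
    · rintro _ ⟨n, rfl⟩
      exact pow_mem (mem_nonZeroDivisors_of_ne_zero hϖ.ne_zero) n
    · intro r hr
      have hr0 : r ≠ 0 := nonZeroDivisors.ne_zero hr
      obtain ⟨n, u, rfl⟩ := IsDiscreteValuationRing.eq_unit_mul_pow_irreducible hr0 hϖ
      exact ⟨ϖ ^ n, ⟨n, rfl⟩, Dvd.intro_left (↑u⁻¹) (by rw [← mul_assoc, Units.inv_mul, one_mul])⟩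
  exact IsOpenImmersion.of_isLocalization ϖ

variable (R : Type u) [CommRing R] [IsDomain R] [IsDiscreteValuationRing R]

theorem isReducedSp_of_proper_flat_dvr
    {X : AlgSp.Space (Spec (CommRingCat.of R))}
    (s : X.obj ⟶ (AlgSp.yon (Spec (CommRingCat.of R))).obj (Over.mk (𝟙 _)))
    (hs1 : AlgSp.IsProperMor s) (hs2 : AlgSp.LocP @Flat s)
    {X0 : AlgSp.Sp (Spec (CommRingCat.of R))} {fst : X0 ⟶ X.obj}
    {snd : X0 ⟶ (AlgSp.yon (Spec (CommRingCat.of R))).obj
        (Over.mk (Spec.map (CommRingCat.ofHom (IsLocalRing.residue R))))}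
    {k : Over.mk (Spec.map (CommRingCat.ofHom (IsLocalRing.residue R))) ⟶ Over.mk (𝟙 _)}
    (hpb : IsPullback fst snd s ((AlgSp.yon (Spec (CommRingCat.of R))).map k))
    (h0 : IsReducedSp X0) : IsReducedSp X.obj := by
  obtain ⟨U, p, hpe, hps⟩ := X.property.atlas
  let one : Over (Spec (CommRingCat.of R)) := Over.mk (𝟙 _)
  have hone : IsTerminal ((AlgSp.yon (Spec (CommRingCat.of R))).obj one) := isTerminalYonOne
  let h : U ⟶ one := Over.homMk U.hom
  haveI hflat : Flat U.hom :=
    hs2 p (𝟙 _) h hpe (AlgSp.repWith_id @Etale one) (hone.hom_ext _ _)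
  haveI hlft : LocallyOfFiniteType U.hom :=
    hs1.2.1.1 p (𝟙 _) h hpe (AlgSp.repWith_id @Etale one) (hone.hom_ext _ _)
  haveI : IsLocallyNoetherian U.left := LocallyOfFiniteType.isLocallyNoetherian U.hom
  have hred0 : IsReduced (pullback U.hom (Spec.map (CommRingCat.ofHom (IsLocalRing.residue R)))) :=
    isReduced_prod_of_isReducedSp hpb p hpe h0
  have hfib : IsReduced (U.hom.fiber (closedPoint R)) :=
    SpFib.isReduced_fiber_closedPoint U.hom hred0
  apply isReducedSp_of_redLocus_eq_univ X.property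
  apply eq_univ_of_isOpen_of_closedFibre s
    (isClosedMap_of_isUnivClosedMor (IsAlgSpace.yon_obj _) s hs1.2.2) _
    (isOpen_redLocus p hpe hps)
  intro x hx
  obtain ⟨u, rfl⟩ := surjective_ofPt p hps x
  rw [Points.map_ofPt, hone.hom_ext (p ≫ s) ((AlgSp.yon _).map h), ofPt_yon_map] at hx
  have hu : U.hom u = closedPoint R := (Points.schemeEquiv one).injective hx
  obtain ⟨x', rfl⟩ : ∃ x', U.hom.fiberι _ x' = u := by
    have : u ∈ Set.range (U.hom.fiberι (closedPoint R)) := by
      rw [Scheme.Hom.range_fiberι]; exact hu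
    exact this
  exact ⟨U, p, _, hpe, rfl, RedDVR.isReduced_stalk_of_mem_specialFibre U.hom hfib x'⟩

theorem isReducedSp_genericFibre
    {X : AlgSp.Space (Spec (CommRingCat.of R))}
    (s : X.obj ⟶ (AlgSp.yon (Spec (CommRingCat.of R))).obj (Over.mk (𝟙 _)))
    (hred : IsReducedSp X.obj)
    {Xη : AlgSp.Sp (Spec (CommRingCat.of R))} {fst : Xη ⟶ X.obj}
    {snd : Xη ⟶ (AlgSp.yon (Spec (CommRingCat.of R))).obj
        (Over.mk (Spec.map (CommRingCat.ofHom (algebraMap R (FractionRing R)))))}
    {k : Over.mk (Spec.map (CommRingCat.ofHom (algebraMap R (FractionRing R)))) ⟶ Over.mk (𝟙 _)}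
    (hpb : IsPullback fst snd s ((AlgSp.yon (Spec (CommRingCat.of R))).map k)) :
    IsReducedSp Xη := by
  obtain ⟨U, p, hpe, hps⟩ := X.property.atlas
  haveI : IsReduced U.left := AS.isReduced_of_etale_of_isReducedSp hred p hpe
  haveI := isOpenImmersion_Spec_fractionRing R
  apply isReducedSp_of_isReduced_prod hpb p hpe hps
  exact isReduced_of_isOpenImmersion
    (pullback.fst U.hom (Spec.map (CommRingCat.ofHom (algebraMap R (FractionRing R)))))

end Groth.Agent.Helper16.RedDVRSp
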