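import Groth.Agent.Lib.Helper16.AlgSp.SrcLoc
import Groth.Agent.S0565
import Groth.Agent.S0065

set_option autoImplicit false
universe u
open CategoryTheory CategoryTheory.Limits AlgebraicGeometry MorphismProperty Opposite TopologicalSpace
open AlgSp

namespace Groth.Agent.Helper16.AS
open Groth.Agent.Helper15

variable {S : Scheme.{u}}

/-- regular locally Noetherian scheme -/
abbrev RegSch : Scheme.{u} → Prop :=
  fun U => IsLocallyNoetherian U ∧ ∀ u : ↥U, IsRegularLocalRing ↥(U.presheaf.stalk u)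

theorem regSch_of_etale_of_etaleLocally {X : Sp S} (hX : EtaleLocally RegSch X) {U : Over S}
    (a : (yon S).obj U ⟶ X) (ha : RepWith @Etale a) : RegSch U.left := by
  obtain ⟨U₀, p₀, hp₀e, hp₀s, hN, hreg⟩ := hX
  haveI := hN
  haveI hUN : IsLocallyNoetherian U.left :=
    isLocallyNoetherian_of_etale_of_isLocNoethSp ⟨U₀, p₀, hp₀e, hp₀s, hN⟩ a ha
  refine ⟨hUN, fun u => ?_⟩
  obtain ⟨u₀, hu₀⟩ := surjective_ofPt p₀ hp₀s (Points.ofPt a u)
  have hrep := ha.rep
  have sq := hrep.isPullback' p₀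
  haveI h1 : Etale (hrep.fst' p₀).left := hp₀e.property a _ _ sq.flip
  haveI h2 : Etale (hrep.snd p₀).left := ha.property_snd p₀
  obtain ⟨w, hw1, hw2⟩ := exists_of_ofPt_eq sq u u₀ hu₀.symm
  have h3 : IsRegularLocalRing ((hrep.pullback p₀).left.presheaf.stalk w) := by
    rw [Groth.Agent.S0065.result (hrep.snd p₀).left w]
    exact hreg _
  rw [Groth.Agent.S0065.result (hrep.fst' p₀).left w] at h3
  rw [← hw1]
  exact h3

theorem isRegularLocalRing_stalk_of_flat {W V : Scheme.{u}} (h : W ⟶ V) [Flat h]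
    [IsLocallyNoetherian V] (w : W) (hw : IsRegularLocalRing (W.presheaf.stalk w)) :
    IsRegularLocalRing (V.presheaf.stalk (h w)) := by
  letI : Algebra (V.presheaf.stalk (h w)) (W.presheaf.stalk w) := (h.stalkMap w).hom.toAlgebra
  haveI : IsLocalHom (algebraMap (V.presheaf.stalk (h w)) (W.presheaf.stalk w)) :=
    inferInstanceAs (IsLocalHom (h.stalkMap w).hom)
  haveI : Module.Flat (V.presheaf.stalk (h w)) (W.presheaf.stalk w) :=
    (Flat.stalkMap h w)
  exact Groth.Agent.S0565.result (V.presheaf.stalk (h w)) (W.presheaf.stalk w)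

theorem etaleLocally_regular_of_fppf_surjective {X Y : Sp S} (hXa : IsAlgSpace X)
    (hYa : IsAlgSpace Y) (f : X ⟶ Y)
    (hfp : LocP @LocallyOfFinitePresentation f) (hfl : LocP @Flat f)
    (hs : IsSurjectiveMor f) (hX : EtaleLocally RegSch X) : EtaleLocally RegSch Y := by
  obtain ⟨V, q, hqe, hqs⟩ := hYa.atlas
  have sqE := IsPullback.of_hasPullback f q
  have hE : IsAlgSpace (pullback f q) :=
    isAlgSpace_of_isPullback hYa.diag hXa (IsAlgSpace.yon_obj V) sqE
  obtain ⟨U', r, hre, hrs⟩ := hE.atlas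
  obtain ⟨h₀, hh⟩ := (yon S).map_surjective (r ≫ pullback.snd f q)
  have hfstE : RepWith @Etale (pullback.fst f q) :=
    (RepWith @Etale).of_isPullback sqE.flip hqe
  have hae : RepWith @Etale (r ≫ pullback.fst f q) := repWith_etale_comp _ _ hre hfstE
  have hcomm : (r ≫ pullback.fst f q) ≫ f = (yon S).map h₀ ≫ q := by
    rw [Category.assoc, pullback.condition, ← Category.assoc, hh]
  obtain ⟨hU'N, hU'reg⟩ := regSch_of_etale_of_etaleLocally hX (r ≫ pullback.fst f q) hae
  haveI := hU'N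
  haveI : Flat h₀.left := hfl _ q h₀ hae hqe hcomm
  haveI : LocallyOfFinitePresentation h₀.left := hfp _ q h₀ hae hqe hcomm
  haveI : Surjective h₀.left := by
    refine ⟨fun v => ?_⟩
    obtain ⟨x, hx⟩ := hs (Points.ofPt q v)
    rw [Points.ofPt_eq_map_ofScheme] at hx
    obtain ⟨y, hy1, hy2⟩ := exists_point_of_isPullback sqE x (Points.ofScheme V v) hx
    obtain ⟨w, rfl⟩ := surjective_ofPt r hrs y
    refine ⟨w, ?_⟩
    apply (Points.schemeEquiv V).injective
    change Points.ofScheme V (h₀.left w) = Points.ofScheme V v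
    rw [← hy2, Points.map_ofPt, ← hh]
    exact (ofPt_comp_yon_map h₀ (𝟙 _) w).symm
  haveI hVN : IsLocallyNoetherian V.left := isLocallyNoetherian_of_flat_open_surjective h₀.left
  refine ⟨V, q, hqe, hqs, hVN, fun v => ?_⟩
  obtain ⟨w, rfl⟩ := h₀.left.surjective v
  exact isRegularLocalRing_stalk_of_flat h₀.left w (hU'reg w)

end Groth.Agent.Helper16.AS
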