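import Groth.Agent.Lib.Helper16.AlgSp.CartSp
import Groth.Agent.Lib.Helper16.Sch.RelCart

set_option autoImplicit false
set_option linter.style.haveILetI false
universe u
open CategoryTheory CategoryTheory.Limits AlgebraicGeometry MorphismProperty
open AlgSp Groth.Agent.Helper15

namespace Groth.Agent.Helper16.AS

variable {S : Scheme.{u}}

/-- A base change of an effective Cartier divisor is effective Cartier as soon as there is an
etale surjective chart of the new space, mapping to the chart of the divisor, on which the inverse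
image ideal is effective Cartier. -/
theorem isEffCartierSub_of_chart {X' X D D' : Sp S} (g' : X' ⟶ X) (i : D ⟶ X)
    (hi : RepWith @IsClosedImmersion i) {V : Over S} (φ : (yon S).obj V ⟶ X)
    (I : V.left.IdealSheafData) (fst₀ : (yon S).obj (subOver I) ⟶ D)
    (sq₀ : IsPullback fst₀ ((yon S).map (subOverι I)) i φ)
    (k : D' ⟶ D) (i' : D' ⟶ X') (hD' : IsPullback k i' i g') {U : Over S}
    (c : (yon S).obj U ⟶ X') (hce : RepWith @Etale c) (hcs : RepWith @Surjective c) (h : U ⟶ V)
    (comm : c ≫ g' = (yon S).map h ≫ φ) (hI' : BlowUp.IsEffCartierIdeal (I.comap h.left)) :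
    IsEffCartierSub i' := by
  refine ⟨(RepWith _).of_isPullback hD' hi, ?_⟩
  obtain ⟨k₀, sqk⟩ := exists_isPullback_yon_comap h I
  have big : IsPullback ((yon S).map k₀ ≫ fst₀) ((yon S).map (subOverι (I.comap h.left))) i
      ((yon S).map h ≫ φ) := sqk.paste_horiz sq₀
  have hw : ((yon S).map k₀ ≫ fst₀) ≫ i =
      ((yon S).map (subOverι (I.comap h.left)) ≫ c) ≫ g' := by
    rw [Category.assoc _ _ g', comm]
    exact big.w
  refine ⟨U, c, I.comap h.left, hD'.lift _ _ hw, hce, hcs, ?_, hI'⟩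
  refine IsPullback.of_right ?_ (hD'.lift_snd _ _ hw) hD'
  rw [hD'.lift_fst, comm]
  exact big

/-- S10797: base change of a relative effective Cartier divisor (flat over the base). -/
theorem isEffCartierSub_baseChange_of_flat_over_base {X Y D Y' X' D' : Sp S}
    (hY : IsAlgSpace Y) (hY' : IsAlgSpace Y')
    (f : X ⟶ Y) (i : D ⟶ X) (hD : IsEffCartierSub i) (hflat : LocP @Flat (i ≫ f))
    (g : Y' ⟶ Y) (g' : X' ⟶ X) (f' : X' ⟶ Y') (hX' : IsPullback g' f' f g)
    (k : D' ⟶ D) (i' : D' ⟶ X') (hD' : IsPullback k i' i g') : IsEffCartierSub i' := by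
  obtain ⟨hi, V, φ, I, fst₀, hφe, hφs, sq₀, hI⟩ := hD
  obtain ⟨W, q, hqe, hqs⟩ := hY.atlas
  obtain ⟨V₁, ε, π₁, sqV₁, hεe, hεs⟩ : ∃ (V₁ : Over S) (ε : V₁ ⟶ V) (π₁ : V₁ ⟶ W),
      IsPullback ((yon S).map π₁) ((yon S).map ε) q (φ ≫ f) ∧ Etale ε.left ∧
        Surjective ε.left := by
    have hq := hqe.rep
    obtain ⟨π₁, hπ₁⟩ := (yon S).map_surjective (hq.fst (φ ≫ f))
    exact ⟨_, hq.snd (φ ≫ f), π₁, by rw [hπ₁]; exact hq.isPullback (φ ≫ f),
      hqe.property_snd (φ ≫ f), hqs.property_snd (φ ≫ f)⟩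
  have hcomm₁ : ((yon S).map ε ≫ φ) ≫ f = (yon S).map π₁ ≫ q := by
    rw [Category.assoc]; exact sqV₁.w.symm
  have hψe : RepWith @Etale ((yon S).map ε ≫ φ) :=
    (RepWith @Etale).comp_mem _ _ ((repWith_yon_map_iff _ ε).2 hεe) hφe
  have hψs : RepWith @Surjective ((yon S).map ε ≫ φ) :=
    (RepWith @Surjective).comp_mem _ _ ((repWith_yon_map_iff _ ε).2 hεs) hφs
  -- the base change of `Y'` to `W`
  have hYW : IsAlgSpace (pullback g q) := isAlgSpace_pullback hY' hY (IsAlgSpace.yon_obj W) g q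
  obtain ⟨W'', b, hbe, hbs⟩ := hYW.atlas
  obtain ⟨γ, hγ⟩ := (yon S).map_surjective (b ≫ pullback.snd g q)
  have sqU := IsPullback.of_hasPullback π₁ γ
  have sqUY := sqU.map (yon S)
  -- the chart
  have hcw : ((yon S).map (pullback.fst π₁ γ) ≫ (yon S).map ε ≫ φ) ≫ f =
      ((yon S).map (pullback.snd π₁ γ) ≫ b ≫ pullback.fst g q) ≫ g := by
    rw [Category.assoc, hcomm₁, ← Category.assoc, sqUY.w, Category.assoc, hγ]
    simp only [Category.assoc, pullback.condition]
  have sqPa := IsPullback.of_hasPullback ((yon S).map ε ≫ φ) g'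
  have hmw : (pullback.snd ((yon S).map ε ≫ φ) g' ≫ f') ≫ g =
      (pullback.fst ((yon S).map ε ≫ φ) g' ≫ (yon S).map π₁) ≫ q := by
    rw [Category.assoc, ← hX'.w, ← Category.assoc, ← pullback.condition, Category.assoc, hcomm₁,
      Category.assoc]
  have star : IsPullback (pullback.lift _ _ hmw) (pullback.fst ((yon S).map ε ≫ φ) g')
      (pullback.snd g q) ((yon S).map π₁) := by
    refine IsPullback.of_right ?_ (pullback.lift_snd _ _ _) (IsPullback.of_hasPullback g q)
    rw [pullback.lift_fst]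
    have := sqPa.flip.paste_horiz hX'.flip
    rwa [hcomm₁] at this
  have hcaw : (yon S).map (pullback.fst π₁ γ) ≫ (yon S).map ε ≫ φ =
      hX'.lift _ _ hcw ≫ g' := (hX'.lift_fst _ _ hcw).symm
  have hp : pullback.lift _ _ hcaw ≫ pullback.lift _ _ hmw =
      (yon S).map (pullback.snd π₁ γ) ≫ b := by
    apply pullback.hom_ext
    · rw [Category.assoc, pullback.lift_fst, ← Category.assoc, pullback.lift_snd,
        hX'.lift_snd, Category.assoc]
    · rw [Category.assoc, pullback.lift_snd, ← Category.assoc, pullback.lift_fst, sqUY.w,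
        Category.assoc, hγ]
  have sqL : IsPullback (pullback.lift _ _ hcaw) ((yon S).map (pullback.snd π₁ γ))
      (pullback.lift _ _ hmw) b := by
    refine IsPullback.of_right ?_ hp star.flip
    rw [pullback.lift_fst, ← hγ]
    exact sqUY
  have hc_eq : hX'.lift _ _ hcw = pullback.lift _ _ hcaw ≫ pullback.snd _ _ :=
    (pullback.lift_snd _ _ hcaw).symm
  have hce : RepWith @Etale (hX'.lift _ _ hcw) := by
    rw [hc_eq]
    exact (RepWith @Etale).comp_mem _ _ ((RepWith @Etale).of_isPullback sqL.flip hbe)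
      ((RepWith @Etale).of_isPullback sqPa hψe)
  have hcs : RepWith @Surjective (hX'.lift _ _ hcw) := by
    rw [hc_eq]
    exact (RepWith @Surjective).comp_mem _ _ ((RepWith @Surjective).of_isPullback sqL.flip hbs)
      ((RepWith @Surjective).of_isPullback sqPa hψs)
  -- flatness of the divisor in the chart over `W`
  obtain ⟨k₁, sqk₁⟩ := exists_isPullback_yon_comap ε I
  have big₁ : IsPullback ((yon S).map k₁ ≫ fst₀) ((yon S).map (subOverι (I.comap ε.left))) i
      ((yon S).map ε ≫ φ) := sqk₁.paste_horiz sq₀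
  have hae : RepWith @Etale ((yon S).map k₁ ≫ fst₀) := (RepWith @Etale).of_isPullback big₁.flip hψe
  haveI hfl : Flat ((I.comap ε.left).subschemeι ≫ π₁.left) := by
    have := hflat ((yon S).map k₁ ≫ fst₀) q (subOverι (I.comap ε.left) ≫ π₁) hae hqe (by
      rw [← Category.assoc, big₁.w, Category.assoc, hcomm₁, Functor.map_comp, Category.assoc])
    exact this
  have hI₁ : BlowUp.IsEffCartierIdeal (I.comap ε.left) :=
    Groth.Agent.Helper16.EffC.isEffCartierIdeal_comap_of_flat ε.left I hI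
  have hI₂ : BlowUp.IsEffCartierIdeal (I.comap (pullback.fst π₁ γ ≫ ε).left) := by
    rw [Over.comp_left, Scheme.IdealSheafData.comap_comp]
    exact Groth.Agent.Helper16.EffC.isEffCartierIdeal_comap_of_flat_subscheme
      (show IsPullback (pullback.fst π₁ γ).left (pullback.snd π₁ γ).left π₁.left γ.left from
        sqU.map (Over.forget S)) (I.comap ε.left) hI₁
  refine isEffCartierSub_of_chart g' i hi φ I fst₀ sq₀ k i' hD' (hX'.lift _ _ hcw) hce hcs
    (pullback.fst π₁ γ ≫ ε) ?_ hI₂
  rw [hX'.lift_fst, Functor.map_comp, Category.assoc]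

end Groth.Agent.Helper16.AS
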