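import Groth.Agent.Lib.Helper16.AlgSp.StdIso

/-!
# Openness is fppf local on the source
-/

set_option autoImplicit false
universe u
open CategoryTheory CategoryTheory.Limits AlgebraicGeometry MorphismProperty Opposite
open AlgSp Groth.Agent.Helper15

namespace Groth.Agent.Helper16.AS

variable {S : Scheme.{u}}

theorem isOpenMor_comp {X Y Z : Sp S} (f : X ⟶ Y) (g : Y ⟶ Z) (hf : IsOpenMor f)
    (hg : IsOpenMor g) : IsOpenMor (f ≫ g) := by
  intro U hU
  have : Points.map (f ≫ g) '' U = Points.map g '' (Points.map f '' U) := by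
    rw [Set.image_image]
    apply Set.image_congr
    intro x _
    exact Points.map_comp _ _ _
  rw [this]
  exact hg _ (hf _ hU)

theorem isOpenMor_of_cover {ι : Type u} {X Y : Sp S} (f : X ⟶ Y) {Xi : ι → Sp S}
    (g : ∀ i, Xi i ⟶ X) (hsurj : ∀ x : Points X, ∃ i, x ∈ Set.range (Points.map (g i)))
    (h : ∀ i, IsOpenMor (g i ≫ f)) : IsOpenMor f := by
  intro U hU
  have : Points.map f '' U = ⋃ i, Points.map (g i ≫ f) '' (Points.map (g i) ⁻¹' U) := by
    ext y
    simp only [Set.mem_image, Set.mem_iUnion, Set.mem_preimage]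
    constructor
    · rintro ⟨x, hx, rfl⟩
      obtain ⟨i, xi, rfl⟩ := hsurj x
      exact ⟨i, xi, hx, Points.map_comp _ _ _⟩
    · rintro ⟨i, xi, hxi, rfl⟩
      exact ⟨_, hxi, (Points.map_comp _ _ _).symm⟩
  rw [this]
  exact isOpen_iUnion fun i => h i _ (hU.preimage (Points.continuous_map _))

theorem isUnivOpenMor_comp {X Y W : Sp S} (hY : IsAlgSpace Y) (hW : Representable (Limits.diag W))
    (f : X ⟶ Y) (g : Y ⟶ W) (hf : IsUnivOpenMor f) (hg : IsUnivOpenMor g) :
    IsUnivOpenMor (f ≫ g) := by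
  intro Z Z' hZ t fstZ sndZ sqZ
  have sqY : IsPullback (pullback.fst g t) (pullback.snd g t) g t := IsPullback.of_hasPullback _ _
  have hYZ : IsAlgSpace (pullback g t) := isAlgSpace_of_isPullback hW hY hZ sqY
  have hw : (fstZ ≫ f) ≫ g = sndZ ≫ t := by rw [Category.assoc, sqZ.w]
  have sqL : IsPullback fstZ (sqY.lift _ _ hw) f (pullback.fst g t) := by
    refine IsPullback.of_bot ?_ (sqY.lift_fst _ _ hw).symm sqY
    rw [sqY.lift_snd]
    exact sqZ
  have h1 : IsOpenMor (sqY.lift _ _ hw) := hf hYZ _ _ _ sqL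
  have h2 : IsOpenMor (pullback.snd g t) := hg hZ t _ _ sqY
  have e : sndZ = sqY.lift _ _ hw ≫ pullback.snd g t := (sqY.lift_snd _ _ hw).symm
  rw [e]
  exact isOpenMor_comp _ _ h1 h2

theorem isLocalOnSource_fppf_isOpenMor :
    IsLocalOnSource (IsFppfCover (S := S)) IsOpenMor := by
  intro ι X Xi g hX hXi hcov Y f hY
  constructor
  · intro hf i
    refine isOpenMor_comp _ _ ?_ hf
    exact isOpenMor_of_isUnivOpenMor hX (g i)
      (isUnivOpenMor_of_flat_lfp (hXi i) hX (g i) (hcov.1 i).1 (hcov.1 i).2)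
  · intro h
    exact isOpenMor_of_cover f g hcov.2 h

theorem isLocalOnSource_fppf_isUnivOpenMor :
    IsLocalOnSource (IsFppfCover (S := S)) IsUnivOpenMor := by
  intro ι X Xi g hX hXi hcov Y f hY
  constructor
  · intro hf i
    exact isUnivOpenMor_comp hX hY.diag (g i) f
      (isUnivOpenMor_of_flat_lfp (hXi i) hX (g i) (hcov.1 i).1 (hcov.1 i).2) hf
  · intro h Z Z' hZ t fstZ sndZ sqZ
    refine isOpenMor_of_cover sndZ (Xi := fun i => pullback (g i) fstZ)
      (fun i => pullback.snd (g i) fstZ) ?_ ?_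
    · intro z'
      obtain ⟨i, xi, hxi⟩ := hcov.2 (Points.map fstZ z')
      obtain ⟨w, -, hw⟩ := exists_point_of_isPullback
        (IsPullback.of_hasPullback (g i) fstZ) xi z' hxi
      exact ⟨i, w, hw⟩
    · intro i
      exact h i hZ t _ _ ((IsPullback.of_hasPullback (g i) fstZ).paste_vert sqZ)

end Groth.Agent.Helper16.AS
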