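import Groth.Agent.Lib.Helper16.AlgSp.StdRef

/-!
# Descent of `RepWith P` along families refined by standard fpqc coverings
-/

set_option autoImplicit false
universe u
open CategoryTheory CategoryTheory.Limits AlgebraicGeometry MorphismProperty Opposite
open AlgSp Groth.Agent.Helper15

namespace Groth.Agent.Helper16.AS

variable {S : Scheme.{u}}

section schemes

variable {Z : Scheme.{u}} {m : ℕ} (W : Fin m → Scheme.{u}) (c : ∀ j, W j ⟶ Z)

theorem fpqc_sigmaDesc [IsAffine Z] [∀ j, IsAffine (W j)] (hflat : ∀ j, Flat (c j))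
    (hsurj : ∀ z : Z, ∃ j, z ∈ Set.range (c j)) :
    (@Surjective ⊓ @Flat ⊓ @QuasiCompact : MorphismProperty Scheme.{u})
      (Sigma.desc c : (∐ W) ⟶ Z) := by
  haveI : CompactSpace (∐ W : Scheme.{u}) := compactSpace_sigma_of_forall W
  refine ⟨⟨?_, ?_⟩, ?_⟩
  · refine ⟨fun z => ?_⟩
    obtain ⟨j, w, hw⟩ := hsurj z
    refine ⟨Sigma.ι W j w, ?_⟩
    rw [← Scheme.Hom.comp_apply, Sigma.ι_desc, hw]
  · rw [IsZariskiLocalAtSource.iff_of_openCover (P := @Flat) (sigmaOpenCover W)]
    intro (j : Fin m)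
    change Flat (Sigma.ι W j ≫ Sigma.desc c)
    rw [Sigma.ι_desc]
    exact hflat j
  · exact (inferInstance : QuasiCompact (Sigma.desc c : (∐ W) ⟶ Z))

/-- A property of morphisms of schemes which is Zariski local on the target and satisfies fpqc
descent descends along a standard fpqc covering of an affine scheme. -/
theorem property_of_stdCover (P : MorphismProperty Scheme.{u}) [P.IsStableUnderBaseChange]
    [IsZariskiLocalAtTarget P] [P.DescendsAlong (@Surjective ⊓ @Flat ⊓ @QuasiCompact)]
    [IsAffine Z] [∀ j, IsAffine (W j)] (hflat : ∀ j, Flat (c j))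
    (hsurj : ∀ z : Z, ∃ j, z ∈ Set.range (c j)) {V : Scheme.{u}} (v : V ⟶ Z)
    (h : ∀ j, P (pullback.snd v (c j))) : P v := by
  let p : ∐ W ⟶ Z := Sigma.desc c
  have hp := fpqc_sigmaDesc W c hflat hsurj
  refine of_pullback_snd_of_descendsAlong (P := P) hp ?_
  rw [IsZariskiLocalAtTarget.iff_of_openCover (P := P) (sigmaOpenCover W)]
  intro (j : Fin m)
  change P (pullback.snd (pullback.snd v p) (Sigma.ι W j))
  have e : Sigma.ι W j ≫ p = c j := Sigma.ι_desc _ _
  have h' : P (pullback.snd v (Sigma.ι W j ≫ p)) := by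
    rw [e]; exact h j
  rw [← pullbackLeftPullbackSndIso_hom_snd]
  exact (P.cancel_left_of_respectsIso _ _).2 h'

/-- variant with arbitrary pullback squares -/
theorem property_of_stdCover' (P : MorphismProperty Scheme.{u}) [P.IsStableUnderBaseChange]
    [IsZariskiLocalAtTarget P] [P.DescendsAlong (@Surjective ⊓ @Flat ⊓ @QuasiCompact)]
    [IsAffine Z] [∀ j, IsAffine (W j)] (hflat : ∀ j, Flat (c j))
    (hsurj : ∀ z : Z, ∃ j, z ∈ Set.range (c j)) {V : Scheme.{u}} (v : V ⟶ Z)
    {V' : Fin m → Scheme.{u}} {a : ∀ j, V' j ⟶ V} {b : ∀ j, V' j ⟶ W j}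
    (sq : ∀ j, IsPullback (a j) (b j) v (c j)) (h : ∀ j, P (b j)) : P v := by
  refine property_of_stdCover W c P hflat hsurj v fun j => ?_
  have : pullback.snd v (c j) = (sq j).isoPullback.inv ≫ b j := by
    rw [IsPullback.isoPullback_inv_snd]
  rw [this]
  exact (P.cancel_left_of_respectsIso _ _).2 (h j)

end schemes

/-- Descent of `RepWith P` for a representable morphism along a family refined by standard
fpqc coverings. -/
theorem repWith_of_stdRefinable (P : MorphismProperty Scheme.{u}) [P.IsStableUnderBaseChange]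
    [IsZariskiLocalAtTarget P] [P.DescendsAlong (@Surjective ⊓ @Flat ⊓ @QuasiCompact)]
    {ι : Type u} {X Y : Sp S} {f : X ⟶ Y} (hrep : Representable f) {Yi Xi : ι → Sp S}
    {g : ∀ i, Yi i ⟶ Y} {p : ∀ i, Xi i ⟶ Yi i} {q : ∀ i, Xi i ⟶ X}
    (sq : ∀ i, IsPullback (q i) (p i) f (g i)) (hcov : IsStdRefinable Yi g)
    (hp : ∀ i, RepWith P (p i)) : RepWith P f := by
  refine repWith_of_forall_affine hrep P ?_
  intro T V hT t fst snd sqT
  obtain ⟨m, W, c, hc, hl⟩ := hcov T hT t
  haveI := hc.affine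
  have key : ∀ j, P (pullback.snd snd (c j)).left := by
    intro j
    obtain ⟨i, l, hl⟩ := hl j
    have sq' : IsPullback ((yon S).map (pullback.fst snd (c j)))
        ((yon S).map (pullback.snd snd (c j))) ((yon S).map snd) ((yon S).map (c j)) :=
      (IsPullback.of_hasPullback snd (c j)).map (yon S)
    obtain ⟨u, hu⟩ := isPullback_lift_of_cover (sq i) sqT hl sq'
    exact (hp i).property l u _ hu
  refine property_of_stdCover' (fun j => (W j).left) (fun j => (c j).left) P hc.flat hc.surj
    snd.left (V' := fun j => (pullback snd (c j)).left)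
    (a := fun j => (pullback.fst snd (c j)).left) (b := fun j => (pullback.snd snd (c j)).left)
    (fun j => (IsPullback.of_hasPullback snd (c j)).map (Over.forget S)) key

end Groth.Agent.Helper16.AS
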