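import Groth.Agent.Lib.Helper16.AlgSp.StdDesc

/-!
# Open immersions, isomorphisms and monomorphisms are fpqc local on the base
-/

set_option autoImplicit false
universe u
open CategoryTheory CategoryTheory.Limits AlgebraicGeometry MorphismProperty Opposite
open AlgSp Groth.Agent.Helper15

namespace Groth.Agent.Helper16.AS

variable {S : Scheme.{u}}

/-- etaleness of the base changes to a family refined by standard fpqc coverings implies
etaleness, if the base changes are representable etale -/
theorem isEtaleMor_of_stdRefinable {ι : Type u} {X Y : Sp S} (hY : IsAlgSpace Y) {f : X ⟶ Y}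
    {Yi Xi : ι → Sp S} {g : ∀ i, Yi i ⟶ Y} {p : ∀ i, Xi i ⟶ Yi i} {q : ∀ i, Xi i ⟶ X}
    (sq : ∀ i, IsPullback (q i) (p i) f (g i)) (hcov : IsStdRefinable Yi g)
    (hp : ∀ i, RepWith @Etale (p i)) : IsEtaleMor f := by
  intro U φ hφ
  have hrep : Representable (φ ≫ f) := hY.representable_from_yon _
  refine repWith_of_stdRefinable @Etale hrep (Xi := fun i => pullback φ (q i))
    (p := fun i => pullback.snd φ (q i) ≫ p i) (q := fun i => pullback.fst φ (q i))
    (fun i => (IsPullback.of_hasPullback φ (q i)).paste_vert (sq i)) hcov ?_
  intro i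
  exact (RepWith @Etale).comp_mem _ _
    ((RepWith @Etale).of_isPullback (IsPullback.of_hasPullback φ (q i)) hφ) (hp i)

theorem isLocalOnBase_std_repWith_isOpenImmersion :
    IsLocalOnBase (IsStdRefinable (S := S)) (RepWith @IsOpenImmersion) := by
  intro ι Y Yi g hY hYi hcov X f hX Xi p q hXi sq
  constructor
  · intro hf i
    exact (RepWith @IsOpenImmersion).of_isPullback (sq i) hf
  · intro hp
    have het : IsEtaleMor f := isEtaleMor_of_stdRefinable hY sq hcov
      fun i => repWith_mono isOpenImmersion_le_etale (hp i)
    have hinj : IsUnivInjectiveMor f := by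
      rw [isLocalOnBase_std_isUnivInjectiveMor Yi g hY hYi hcov f hX Xi p q hXi sq]
      intro i
      haveI : Mono (p i) := mono_of_repWith isOpenImmersion_le_mono (p i) (hp i)
      exact (injOnFieldPts_of_mono (p i)).isUnivInjectiveMor
    exact repWith_isOpenImmersion_of_isEtaleMor_univInjective hX hY f het hinj

theorem isLocalOnBase_std_isomorphisms :
    IsLocalOnBase (IsStdRefinable (S := S)) (MorphismProperty.isomorphisms (Sp S)) := by
  intro ι Y Yi g hY hYi hcov X f hX Xi p q hXi sq
  constructor
  · intro hf i
    haveI : IsIso f := hf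
    exact (sq i).isIso_snd_of_isIso
  · intro hp
    have h1 : RepWith @IsOpenImmersion f := by
      rw [isLocalOnBase_std_repWith_isOpenImmersion Yi g hY hYi hcov f hX Xi p q hXi sq]
      intro i
      haveI : IsIso (p i) := hp i
      exact repWith_of_isIso _ (p i)
    have h2 : RepWith @Surjective f := by
      refine repWith_of_stdRefinable @Surjective h1.rep sq hcov ?_
      intro i
      haveI : IsIso (p i) := hp i
      exact repWith_of_isIso _ (p i)
    exact isIso_of_repWith_isOpenImmersion_surjective f h1 h2

theorem isLocalOnBase_std_monomorphisms :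
    IsLocalOnBase (IsStdRefinable (S := S)) (MorphismProperty.monomorphisms (Sp S)) := by
  refine isLocalOnBase_congr ?_ (isLocalOnBase_std_diagonal _ isLocalOnBase_std_isomorphisms)
  intro X Y f _ _
  exact pullback.isIso_diagonal_iff f

end Groth.Agent.Helper16.AS
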