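import Groth.Agent.Lib.Helper16.AlgSp.ThickTop
import Groth.Agent.Lib.Helper15.AlgSpOpen

/-!
# Open subspaces of thickenings
-/

set_option autoImplicit false
universe u
open CategoryTheory CategoryTheory.Limits AlgebraicGeometry MorphismProperty
open AlgSp Groth.Agent.Helper15

namespace Groth.Agent.Helper16.AS

variable {S : Scheme.{u}}

/-- Open subspaces with the same points are isomorphic. -/
theorem exists_iso_of_range_eq {U₁ U₂ X : Sp S} (j₁ : U₁ ⟶ X) (j₂ : U₂ ⟶ X)
    (h₁ : RepWith @IsOpenImmersion j₁) (h₂ : RepWith @IsOpenImmersion j₂)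
    (h : Set.range (Points.map j₁) = Set.range (Points.map j₂)) :
    ∃ e : U₁ ≅ U₂, e.hom ≫ j₂ = j₁ := by
  obtain ⟨g, hg⟩ := (factors_through_open_iff j₂ h₂ j₁).2 h.le
  obtain ⟨g', hg'⟩ := (factors_through_open_iff j₁ h₁ j₂).2 h.ge
  haveI : Mono j₁ := mono_of_repWith isOpenImmersion_le_mono j₁ h₁
  haveI : Mono j₂ := mono_of_repWith isOpenImmersion_le_mono j₂ h₂
  refine ⟨⟨g, g', ?_, ?_⟩, hg⟩
  · rw [← cancel_mono j₁, Category.assoc, hg', hg, Category.id_comp]
  · rw [← cancel_mono j₂, Category.assoc, hg, hg', Category.id_comp]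

theorem isOpen_range_of_open {U X : Sp S} (hX : IsAlgSpace X) (u : U ⟶ X)
    (hu : RepWith @IsOpenImmersion u) : IsOpen (Set.range (Points.map u)) := by
  obtain ⟨W, q, hqe, hqs⟩ := hX.atlas
  have ho : IsOpenMor u := isOpenMor_of_repWith u (P := @IsOpenImmersion)
    (fun φ hφ => by haveI : IsOpenImmersion φ := hφ; exact φ.isOpenEmbedding.isOpenMap) hu q
    hqe hqs
  rw [← Set.image_univ]
  exact ho _ isOpen_univ

/-- S10583, existence. -/
theorem exists_open_of_thick {X X' U : Sp S} (hX : IsAlgSpace X) (hX' : IsAlgSpace X')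
    (i : X ⟶ X') (hi : IsThickMor i) (u : U ⟶ X) (hu : RepWith @IsOpenImmersion u) :
    ∃ (U' : Sp S) (u' : U' ⟶ X') (k : U ⟶ U'), IsAlgSpace U' ∧
      RepWith @IsOpenImmersion u' ∧ IsPullback u k i u' := by
  have hi' := isHomeomorph_points_of_thick hX' i hi
  have hV : IsOpen (Points.map i '' Set.range (Points.map u)) :=
    hi'.isOpenMap _ (isOpen_range_of_open hX u hu)
  obtain ⟨U', u', hU', hu', hr⟩ := exists_open_subspace_of_isOpen hX' _ hV
  have sq : IsPullback (pullback.fst i u') (pullback.snd i u') i u' :=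
    IsPullback.of_hasPullback _ _
  have h1 : RepWith @IsOpenImmersion (pullback.fst i u') :=
    (RepWith @IsOpenImmersion).of_isPullback sq.flip hu'
  have hrange : Set.range (Points.map (pullback.fst i u')) = Set.range (Points.map u) := by
    rw [range_map_of_isPullback sq.flip, hr, Set.preimage_image_eq _ hi'.injective]
  obtain ⟨e, he⟩ := exists_iso_of_range_eq u (pullback.fst i u') hu h1 hrange.symm
  refine ⟨U', u', e.hom ≫ pullback.snd i u', hU', hu', ?_⟩
  exact IsPullback.of_iso_pullback ⟨by rw [Category.assoc, ← sq.w, ← Category.assoc, he]⟩ e he rfl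

/-- S10583, uniqueness. -/
theorem open_of_thick_unique {X X' U U₁ U₂ : Sp S} (hX' : IsAlgSpace X')
    (i : X ⟶ X') (hi : IsThickMor i) (u : U ⟶ X)
    (u₁ : U₁ ⟶ X') (u₂ : U₂ ⟶ X') (k₁ : U ⟶ U₁) (k₂ : U ⟶ U₂)
    (h₁ : RepWith @IsOpenImmersion u₁) (sq₁ : IsPullback u k₁ i u₁)
    (h₂ : RepWith @IsOpenImmersion u₂) (sq₂ : IsPullback u k₂ i u₂) :
    ∃ e : U₁ ≅ U₂, e.hom ≫ u₂ = u₁ := by
  have hi' := isHomeomorph_points_of_thick hX' i hi
  have key : ∀ {U₀ : Sp S} (u₀ : U₀ ⟶ X') (k₀ : U ⟶ U₀), IsPullback u k₀ i u₀ →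
      Set.range (Points.map u₀) = Points.map i '' Set.range (Points.map u) := by
    intro U₀ u₀ k₀ sq₀
    rw [range_map_of_isPullback sq₀.flip, Set.image_preimage_eq _ hi'.surjective]
  exact exists_iso_of_range_eq u₁ u₂ h₁ h₂ (by rw [key u₁ k₁ sq₁, key u₂ k₂ sq₂])

end Groth.Agent.Helper16.AS
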