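import Groth.Agent.Lib.Helper16.AlgSp.ThickTop

/-!
# Morphisms of thickenings: separatedness
-/

set_option autoImplicit false
universe u
open CategoryTheory CategoryTheory.Limits AlgebraicGeometry MorphismProperty
open AlgSp Groth.Agent.Helper15

namespace Groth.Agent.Helper16.AS

variable {S : Scheme.{u}}

instance thick_isStableUnderComposition : (thick.{u}).IsStableUnderComposition where
  comp_mem f g hf hg := ⟨MorphismProperty.comp_mem _ f g hf.1 hg.1,
    MorphismProperty.comp_mem _ f g hf.2 hg.2⟩

instance thick_containsIdentities : (thick.{u}).ContainsIdentities where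
  id_mem X := ⟨inferInstanceAs (IsClosedImmersion (𝟙 X)), inferInstanceAs (Surjective (𝟙 X))⟩

instance thick_isMultiplicative : (thick.{u}).IsMultiplicative where

variable {X X' Y Y' : Sp S} {i : X ⟶ X'} {j : Y ⟶ Y'} {f : X ⟶ Y} {f' : X' ⟶ Y'}

/-- The map `X ×_Y X ⟶ X' ×_{Y'} X'` induced by a morphism of thickenings is a thickening. -/
theorem isThickMor_pullback_map (hi : IsThickMor i) (hj : IsThickMor j) (w : i ≫ f' = f ≫ j) :
    IsThickMor (pullback.map f f f' f' i i j w.symm w.symm) := by
  haveI : Mono j := mono_of_repWith isClosedImmersion_le_mono j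
    (repWith_mono thick_le_isClosedImmersion hj)
  have h1 : IsThickMor (pullback.map (i ≫ f') (i ≫ f') f' f' i i (𝟙 Y') (by simp) (by simp)) :=
    (RepWith thick).pullbackMap hi hi rfl rfl
  have sq : IsPullback (pullback.fst f f) (pullback.snd f f) (i ≫ f') (i ≫ f') := by
    rw [w]
    exact isPullback_comp_mono j (IsPullback.of_hasPullback f f)
  have e : pullback.map f f f' f' i i j w.symm w.symm =
      sq.isoPullback.hom ≫
        pullback.map (i ≫ f') (i ≫ f') f' f' i i (𝟙 Y') (by simp) (by simp) := by
    apply pullback.hom_ext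
    · simp only [Category.assoc, pullback.lift_fst]
      rw [← Category.assoc, sq.isoPullback_hom_fst]
    · simp only [Category.assoc, pullback.lift_snd]
      rw [← Category.assoc, sq.isoPullback_hom_snd]
  rw [e]
  exact (RepWith thick).comp_mem _ _ (repWith_of_isIso _ _) h1

/-- S10589. -/
theorem thickening_mor_separated_iff (hX : IsAlgSpace X) (hX' : IsAlgSpace X')
    (hY : IsAlgSpace Y) (hY' : IsAlgSpace Y') (hi : IsThickMor i) (hj : IsThickMor j)
    (w : i ≫ f' = f ≫ j) :
    (IsSeparatedMor f ↔ IsSeparatedMor f') ∧
    (IsQuasiSeparatedMor f ↔ IsQuasiSeparatedMor f') := by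
  have hm := isThickMor_pullback_map hi hj w
  have wΔ : i ≫ pullback.diagonal f' =
      pullback.diagonal f ≫ pullback.map f f f' f' i i j w.symm w.symm := by
    apply pullback.hom_ext
    · simp only [Category.assoc, pullback.lift_fst, pullback.diagonal_fst]
      rw [pullback.diagonal_fst_assoc, Category.comp_id]
    · simp only [Category.assoc, pullback.lift_snd, pullback.diagonal_snd]
      rw [pullback.diagonal_snd_assoc, Category.comp_id]
  have key := thickening_mor_topological_iff hX hX' (isAlgSpace_pullback hX hY hX f f)
    (isAlgSpace_pullback hX' hY' hX' f' f') hi hm wΔ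
  constructor
  · rw [(isSeparatedMor_iff_diagonal hX f).1, (isSeparatedMor_iff_diagonal hX' f').1]
    exact key.2.2.1
  · change RepWith @QuasiCompact (pullback.diagonal f) ↔
      RepWith @QuasiCompact (pullback.diagonal f')
    rw [repWith_quasiCompact_iff _ (diagonal_properties hX f).1,
      repWith_quasiCompact_iff _ (diagonal_properties hX' f').1]
    exact key.2.1

end Groth.Agent.Helper16.AS
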