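import Groth.Agent.Lib.Helper16.AlgSp.ProperSp2
import Groth.Prelude.Def_AlgSpInf

/-!
# Morphisms of thickenings: topological properties
-/

set_option autoImplicit false
universe u
open CategoryTheory CategoryTheory.Limits AlgebraicGeometry MorphismProperty
open AlgSp Groth.Agent.Helper15

namespace Groth.Agent.Helper16.AS

variable {S : Scheme.{u}}

theorem thick_le_isClosedImmersion : (thick.{u}) ≤ @IsClosedImmersion := fun _ _ _ h => h.1

theorem thick_le_surjective : (thick.{u}) ≤ @Surjective := fun _ _ _ h => h.2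

/-- A thickening of an algebraic space induces a homeomorphism on points. -/
theorem isHomeomorph_points_of_thick {P T : Sp S} (hT : IsAlgSpace T) (a : P ⟶ T)
    (ha : IsThickMor a) : IsHomeomorph (Points.map a) := by
  have hcl : RepWith @IsClosedImmersion a := repWith_mono thick_le_isClosedImmersion ha
  have hsu : RepWith @Surjective a := repWith_mono thick_le_surjective ha
  haveI : Mono a := mono_of_repWith isClosedImmersion_le_mono a hcl
  obtain ⟨W, q, hqe, hqs⟩ := hT.atlas
  have hc : IsClosedMor a := isClosedMor_of_repWith a (P := @IsClosedImmersion)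
    (fun φ hφ => by haveI : IsClosedImmersion φ := hφ; exact φ.isClosedMap) hcl q hqe hqs
  refine (isHomeomorph_iff_continuous_isClosedMap_bijective).2
    ⟨Points.continuous_map a, hc, (injOnFieldPts_of_mono a).injective_points_map,
      isSurjectiveMor_of_repWith_surjective a hsu⟩

/-- Topological properties of the vertical maps of a commutative square whose horizontal maps are
homeomorphisms on points agree. -/
theorem square_top {P P' Z Z' : Sp S} {a : P ⟶ P'} {b : Z ⟶ Z'} {p : P ⟶ Z} {q : P' ⟶ Z'}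
    (w : a ≫ q = p ≫ b) (ha : IsHomeomorph (Points.map a)) (hb : IsHomeomorph (Points.map b)) :
    (IsClosedMor p ↔ IsClosedMor q) ∧ (IsOpenMor p ↔ IsOpenMor q) ∧
    (Function.Injective (Points.map p) ↔ Function.Injective (Points.map q)) ∧
    (Function.Surjective (Points.map p) ↔ Function.Surjective (Points.map q)) := by
  have hw : Points.map q ∘ Points.map a = Points.map b ∘ Points.map p := by
    funext x
    simp only [Function.comp_apply]
    rw [← Points.map_comp, ← Points.map_comp, w]
  let ea := ha.homeomorph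
  let eb := hb.homeomorph
  have hq : Points.map q = eb ∘ Points.map p ∘ ea.symm := by
    funext x
    obtain ⟨y, rfl⟩ := ea.surjective x
    simp only [Function.comp_apply, Homeomorph.symm_apply_apply]
    exact congrFun hw y
  have hp : Points.map p = eb.symm ∘ Points.map q ∘ ea := by
    funext x
    simp only [Function.comp_apply]
    rw [eq_comm, eb.symm_apply_eq]
    exact congrFun hw x
  refine ⟨⟨fun h => ?_, fun h => ?_⟩, ⟨fun h => ?_, fun h => ?_⟩, ⟨fun h => ?_, fun h => ?_⟩,
    ⟨fun h => ?_, fun h => ?_⟩⟩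
  · change IsClosedMap (Points.map q)
    rw [hq]
    exact eb.isClosedMap.comp (IsClosedMap.comp h ea.symm.isClosedMap)
  · change IsClosedMap (Points.map p)
    rw [hp]
    exact eb.symm.isClosedMap.comp (IsClosedMap.comp h ea.isClosedMap)
  · change IsOpenMap (Points.map q)
    rw [hq]
    exact eb.isOpenMap.comp (IsOpenMap.comp h ea.symm.isOpenMap)
  · change IsOpenMap (Points.map p)
    rw [hp]
    exact eb.symm.isOpenMap.comp (IsOpenMap.comp h ea.isOpenMap)
  · rw [hq]
    exact eb.injective.comp (h.comp ea.symm.injective)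
  · rw [hp]
    exact eb.symm.injective.comp (h.comp ea.injective)
  · rw [hq]
    exact eb.surjective.comp (h.comp ea.symm.surjective)
  · rw [hp]
    exact eb.symm.surjective.comp (h.comp ea.surjective)

section Mor

variable {X X' Y Y' : Sp S} {i : X ⟶ X'} {j : Y ⟶ Y'} {f : X ⟶ Y} {f' : X' ⟶ Y'}

/-- Comparison square for a base change of `f'`. -/
theorem exists_square_up (hX : IsAlgSpace X) (hX' : IsAlgSpace X') (hY : IsAlgSpace Y)
    (hY' : IsAlgSpace Y') (hi : IsThickMor i) (hj : IsThickMor j) (w : i ≫ f' = f ≫ j)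
    {Z' P' : Sp S} (hZ' : IsAlgSpace Z') (g' : Z' ⟶ Y') (fst' : P' ⟶ X') (snd' : P' ⟶ Z')
    (sq' : IsPullback fst' snd' f' g') :
    ∃ (Z P : Sp S) (g : Z ⟶ Y) (fst : P ⟶ X) (snd : P ⟶ Z) (a : P ⟶ P') (k : Z ⟶ Z'),
      IsAlgSpace Z ∧ IsAlgSpace P ∧ IsAlgSpace P' ∧ IsPullback fst snd f g ∧ IsThickMor a ∧
        IsThickMor k ∧ a ≫ snd' = snd ≫ k := by
  have sqZ : IsPullback (pullback.fst j g') (pullback.snd j g') j g' :=
    IsPullback.of_hasPullback _ _
  have sqP : IsPullback (pullback.fst f (pullback.fst j g')) (pullback.snd f (pullback.fst j g'))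
      f (pullback.fst j g') := IsPullback.of_hasPullback _ _
  have big : IsPullback (pullback.fst f (pullback.fst j g'))
      (pullback.snd f (pullback.fst j g') ≫ pullback.snd j g') (i ≫ f') g' := by
    rw [w]
    exact sqP.paste_vert sqZ
  have hw : (pullback.fst f (pullback.fst j g') ≫ i) ≫ f' =
      (pullback.snd f (pullback.fst j g') ≫ pullback.snd j g') ≫ g' := by
    rw [Category.assoc]
    exact big.w
  have sqa : IsPullback (pullback.fst f (pullback.fst j g')) (sq'.lift _ _ hw) i fst' := by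
    refine IsPullback.of_bot ?_ (sq'.lift_fst _ _ hw).symm sq'
    rw [sq'.lift_snd]
    exact big
  have hZ : IsAlgSpace (pullback j g') := isAlgSpace_pullback hY hY' hZ' _ _
  exact ⟨_, _, _, _, _, sq'.lift _ _ hw, pullback.snd j g', hZ,
    isAlgSpace_pullback hX hY hZ _ _, isAlgSpace_of_isPullback hY'.diag hX' hZ' sq', sqP,
    (RepWith thick).of_isPullback sqa hi, (RepWith thick).of_isPullback sqZ hj,
    sq'.lift_snd _ _ hw⟩

/-- Comparison square for a base change of `f`. -/
theorem exists_square_down (hX : IsAlgSpace X) (hX' : IsAlgSpace X') (hY : IsAlgSpace Y)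
    (hY' : IsAlgSpace Y') (hi : IsThickMor i) (hj : IsThickMor j) (w : i ≫ f' = f ≫ j)
    {Z P : Sp S} (hZ : IsAlgSpace Z) (g : Z ⟶ Y) (fst : P ⟶ X) (snd : P ⟶ Z)
    (sq : IsPullback fst snd f g) :
    ∃ (P' : Sp S) (fst' : P' ⟶ X') (snd' : P' ⟶ Z) (a : P ⟶ P'),
      IsAlgSpace P ∧ IsAlgSpace P' ∧ IsPullback fst' snd' f' (g ≫ j) ∧ IsThickMor a ∧
        a ≫ snd' = snd := by
  haveI : Mono j := mono_of_repWith isClosedImmersion_le_mono j
    (repWith_mono thick_le_isClosedImmersion hj)
  have sq' : IsPullback (pullback.fst f' (g ≫ j)) (pullback.snd f' (g ≫ j)) f' (g ≫ j) :=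
    IsPullback.of_hasPullback _ _
  have big : IsPullback fst snd (i ≫ f') (g ≫ j) := by
    rw [w]
    exact isPullback_comp_mono j sq
  have hw : (fst ≫ i) ≫ f' = snd ≫ g ≫ j := by
    rw [Category.assoc]
    exact big.w
  have sqa : IsPullback fst (sq'.lift _ _ hw) i (pullback.fst f' (g ≫ j)) := by
    refine IsPullback.of_bot ?_ (sq'.lift_fst _ _ hw).symm sq'
    rw [sq'.lift_snd]
    exact big
  exact ⟨_, _, _, sq'.lift _ _ hw, isAlgSpace_of_isPullback hY.diag hX hZ sq,
    isAlgSpace_pullback hX' hY' hZ _ _, sq', (RepWith thick).of_isPullback sqa hi,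
    sq'.lift_snd _ _ hw⟩

/-- Universal topological properties transfer along morphisms of thickenings. -/
theorem univSp_iff_of_thick (hX : IsAlgSpace X) (hX' : IsAlgSpace X') (hY : IsAlgSpace Y)
    (hY' : IsAlgSpace Y') (hi : IsThickMor i) (hj : IsThickMor j) (w : i ≫ f' = f ≫ j)
    (Q₀ : MorphismProperty (Sp S))
    (hQ : ∀ {P P' Z Z' : Sp S} {a : P ⟶ P'} {b : Z ⟶ Z'} {p : P ⟶ Z} {q : P' ⟶ Z'},
      a ≫ q = p ≫ b → IsHomeomorph (Points.map a) → IsHomeomorph (Points.map b) →
        (Q₀ p ↔ Q₀ q)) :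
    UnivSp Q₀ f ↔ UnivSp Q₀ f' := by
  constructor
  · intro h Z' P' hZ' g' fst' snd' sq'
    obtain ⟨Z, P, g, fst, snd, a, k, hZ, hP, hP', sq, ha, hk, hak⟩ :=
      exists_square_up hX hX' hY hY' hi hj w hZ' g' fst' snd' sq'
    exact (hQ hak (isHomeomorph_points_of_thick hP' a ha)
      (isHomeomorph_points_of_thick hZ' k hk)).1 (h hZ g fst snd sq)
  · intro h Z P hZ g fst snd sq
    obtain ⟨P', fst', snd', a, hP, hP', sq', ha, hak⟩ :=
      exists_square_down hX hX' hY hY' hi hj w hZ g fst snd sq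
    have hid : IsHomeomorph (Points.map (𝟙 Z)) := by
      have : Points.map (𝟙 Z) = id := funext fun x => Points.map_id x
      rw [this]
      exact IsHomeomorph.id
    exact (hQ (b := 𝟙 Z) (by rw [hak, Category.comp_id])
      (isHomeomorph_points_of_thick hP' a ha) hid).2 (h hZ (g ≫ j) fst' snd' sq')

theorem isQuasiCompactSp_of_isHomeomorph {P P' : Sp S} (hP : IsAlgSpace P) (a : P ⟶ P')
    (ha : IsHomeomorph (Points.map a)) (h : IsQuasiCompactSp P') : IsQuasiCompactSp P := by
  haveI := compactSpace_points_of_isQuasiCompactSp h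
  haveI : CompactSpace (Points P) := ha.homeomorph.symm.compactSpace
  exact isQuasiCompactSp_of_compactSpace_points hP

theorem isQuasiCompactMor_iff_of_thick (hX : IsAlgSpace X) (hX' : IsAlgSpace X')
    (hY : IsAlgSpace Y) (hY' : IsAlgSpace Y') (hi : IsThickMor i) (hj : IsThickMor j)
    (w : i ≫ f' = f ≫ j) : IsQuasiCompactMor f ↔ IsQuasiCompactMor f' := by
  constructor
  · intro h Z' P' hZ' hZ'qc g' fst' snd' sq'
    obtain ⟨Z, P, g, fst, snd, a, k, hZ, hP, hP', sq, ha, hk, hak⟩ :=
      exists_square_up hX hX' hY hY' hi hj w hZ' g' fst' snd' sq'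
    have hZqc : IsQuasiCompactSp Z :=
      isQuasiCompactSp_of_isHomeomorph hZ k (isHomeomorph_points_of_thick hZ' k hk) hZ'qc
    have hPqc : IsQuasiCompactSp P := h hZ hZqc g fst snd sq
    exact isQuasiCompactSp_of_surjective hP' a
      (isHomeomorph_points_of_thick hP' a ha).surjective hPqc
  · intro h Z P hZ hZqc g fst snd sq
    obtain ⟨P', fst', snd', a, hP, hP', sq', ha, hak⟩ :=
      exists_square_down hX hX' hY hY' hi hj w hZ g fst snd sq
    exact isQuasiCompactSp_of_isHomeomorph hP a (isHomeomorph_points_of_thick hP' a ha)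
      (h hZ hZqc (g ≫ j) fst' snd' sq')

/-- S10587. -/
theorem thickening_mor_topological_iff (hX : IsAlgSpace X) (hX' : IsAlgSpace X')
    (hY : IsAlgSpace Y) (hY' : IsAlgSpace Y') (hi : IsThickMor i) (hj : IsThickMor j)
    (w : i ≫ f' = f ≫ j) :
    (IsSurjectiveMor f ↔ IsSurjectiveMor f') ∧
    (IsQuasiCompactMor f ↔ IsQuasiCompactMor f') ∧
    (IsUnivClosedMor f ↔ IsUnivClosedMor f') ∧
    (IsUnivInjectiveMor f ↔ IsUnivInjectiveMor f') ∧
    (IsUnivOpenMor f ↔ IsUnivOpenMor f') := by
  refine ⟨?_, isQuasiCompactMor_iff_of_thick hX hX' hY hY' hi hj w, ?_, ?_, ?_⟩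
  · exact (square_top w (isHomeomorph_points_of_thick hX' i hi)
      (isHomeomorph_points_of_thick hY' j hj)).2.2.2
  · exact univSp_iff_of_thick hX hX' hY hY' hi hj w IsClosedMor
      fun w' ha hb => (square_top w' ha hb).1
  · exact univSp_iff_of_thick hX hX' hY hY' hi hj w
      (fun _ _ f => Function.Injective (Points.map f))
      fun w' ha hb => (square_top w' ha hb).2.2.1
  · exact univSp_iff_of_thick hX hX' hY hY' hi hj w IsOpenMor
      fun w' ha hb => (square_top w' ha hb).2.1

end Mor

end Groth.Agent.Helper16.AS
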