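import Groth.Agent.Lib.Helper16.AlgSp.ThickTop
import Groth.Agent.Lib.Helper16.AlgSp.SrcEtLocal
import Groth.Agent.Lib.Helper16.Sch.ThickUnram

set_option autoImplicit false
set_option linter.style.haveILetI false
universe u
open CategoryTheory CategoryTheory.Limits AlgebraicGeometry MorphismProperty
open AlgSp Groth.Agent.Helper15

namespace Groth.Agent.Helper16.AS

variable {S : Scheme.{u}}

variable {X X' Y Y' : Sp S} {i : X ⟶ X'} {j : Y ⟶ Y'} {f : X ⟶ Y} {f' : X' ⟶ Y'}

/-- A chart of `f'` restricts, along a cartesian morphism of thickenings, to a chart of `f`, with a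
cartesian square of schemes whose base is a thickening. -/
theorem exists_chart_down (hi : IsThickMor i) (hj : IsThickMor j) (w : i ≫ f' = f ≫ j)
    (hcart : IsPullback i f f' j) {U' V' : Over S} (a' : (yon S).obj U' ⟶ X')
    (b' : (yon S).obj V' ⟶ Y') (h' : U' ⟶ V') (ha' : RepWith @Etale a') (hb' : RepWith @Etale b')
    (comm' : a' ≫ f' = (yon S).map h' ≫ b') :
    ∃ (U V : Over S) (a : (yon S).obj U ⟶ X) (b : (yon S).obj V ⟶ Y) (h : U ⟶ V) (i₀ : U ⟶ U')
      (j₀ : V ⟶ V'), RepWith @Etale a ∧ RepWith @Etale b ∧ a ≫ f = (yon S).map h ≫ b ∧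
        IsPullback i₀.left h.left h'.left j₀.left ∧ IsClosedImmersion j₀.left ∧
          Surjective j₀.left := by
  have hjr := hj.rep
  have hir := hi.rep
  have sqV := hjr.isPullback b'
  have sqU := hir.isPullback a'
  have hthick : thick (hjr.snd b').left := hj.property_snd b'
  have hw : (hir.fst a' ≫ f) ≫ j = ((yon S).map (hir.snd a') ≫ (yon S).map h') ≫ b' := by
    rw [Category.assoc, ← w, ← Category.assoc, sqU.w, Category.assoc, comm', Category.assoc]
  obtain ⟨h, hh⟩ := (yon S).map_surjective (sqV.lift _ _ hw)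
  have hfst : (yon S).map h ≫ hjr.fst b' = hir.fst a' ≫ f := by rw [hh, sqV.lift_fst]
  have hsnd : (yon S).map h ≫ (yon S).map (hjr.snd b') =
      (yon S).map (hir.snd a') ≫ (yon S).map h' := by rw [hh, sqV.lift_snd]
  have bigU : IsPullback (hir.fst a' ≫ f) ((yon S).map (hir.snd a')) j (a' ≫ f') :=
    sqU.paste_horiz hcart.flip
  have sqY : IsPullback ((yon S).map h) ((yon S).map (hir.snd a')) ((yon S).map (hjr.snd b'))
      ((yon S).map h') := by
    refine IsPullback.of_right ?_ hsnd sqV
    rw [hfst, ← comm']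
    exact bigU
  have sqO : IsPullback h (hir.snd a') (hjr.snd b') h' :=
    IsPullback.of_map (yon S) ((yon S).map_injective (by
      simpa only [Functor.map_comp] using sqY.w)) sqY
  refine ⟨_, _, hir.fst a', hjr.fst b', h, hir.snd a', hjr.snd b',
    (RepWith @Etale).of_isPullback sqU.flip ha', (RepWith @Etale).of_isPullback sqV.flip hb',
    hfst.symm, ?_, hthick.1, hthick.2⟩
  exact (sqO.map (Over.forget S)).flip

/-- Along a cartesian morphism of thickenings with `f'` locally of finite type: a property which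
lifts along thickenings of schemes lifts from `f` to `f'`. -/
theorem locP_of_thick_cart {P : MorphismProperty Scheme.{u}}
    (hP : ∀ {U U' V V' : Scheme.{u}} {i₀ : U ⟶ U'} {h : U ⟶ V} {h' : U' ⟶ V'} {j₀ : V ⟶ V'},
      IsPullback i₀ h h' j₀ → IsClosedImmersion j₀ → Surjective j₀ → LocallyOfFiniteType h' →
        P h → P h')
    (hi : IsThickMor i) (hj : IsThickMor j) (w : i ≫ f' = f ≫ j) (hcart : IsPullback i f f' j)
    (hft' : LocP @LocallyOfFiniteType f') (hf : LocP P f) : LocP P f' := by
  intro U' V' a' b' h' ha' hb' comm'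
  obtain ⟨U, V, a, b, h, i₀, j₀, hae, hbe, comm, sq, hc, hs⟩ :=
    exists_chart_down hi hj w hcart a' b' h' ha' hb' comm'
  exact hP sq hc hs (hft' a' b' h' ha' hb' comm') (hf a b h hae hbe comm)

end Groth.Agent.Helper16.AS
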