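import Groth.Agent.Lib.Helper16.AlgSp.LocPEngine
import Groth.Agent.Lib.Helper16.Sch.UnramLocus
import Groth.Agent.Lib.Helper15.AlgSpAtNbhd

set_option autoImplicit false
set_option linter.style.haveILetI false
universe u
open CategoryTheory CategoryTheory.Limits AlgebraicGeometry MorphismProperty Opposite
open AlgSp Groth.Agent.Helper15

noncomputable section

namespace Groth.Agent.Helper16.UnramSp

open Groth.Agent.Helper16.AS

variable {S : Scheme.{u}}

/-- Compatible chart diagrams for a morphism and a base change of it. -/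
theorem exists_compatible_charts {P : MorphismProperty Scheme.{u}} {X Y X' Y' : Sp S}
    (hX : IsAlgSpace X) (hY : IsAlgSpace Y) (hY' : IsAlgSpace Y')
    {f : X ⟶ Y} {g : Y' ⟶ Y} {f' : X' ⟶ Y'} {g' : X' ⟶ X} (sq' : IsPullback g' f' f g)
    (hf : LocP P f) :
    ∃ (V₀ U₀ V₀' : Over S) (q : (yon S).obj V₀ ⟶ Y) (a : (yon S).obj U₀ ⟶ X) (h₀ : U₀ ⟶ V₀)
      (ν : V₀' ⟶ V₀) (q' : (yon S).obj V₀' ⟶ Y') (a' : (yon S).obj (pullback h₀ ν) ⟶ X'),
      RepWith @Etale q ∧ RepWith @Etale a ∧ a ≫ f = (yon S).map h₀ ≫ q ∧ P h₀.left ∧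
      RepWith @Etale q' ∧ RepWith @Etale a' ∧ RepWith @Surjective a' ∧
      a' ≫ f' = (yon S).map (pullback.snd h₀ ν) ≫ q' ∧
      a' ≫ g' = (yon S).map (pullback.fst h₀ ν) ≫ a := by
  obtain ⟨V₀, U₀, q, r, h₀, hqe, hqs, hre, hrs, hh, hP₀⟩ := exists_charts_of_locP hX hY f hf
  have hY'V : IsAlgSpace (pullback g q) :=
    isAlgSpace_of_isPullback hY.diag hY' (IsAlgSpace.yon_obj V₀) (IsPullback.of_hasPullback g q)
  obtain ⟨V₀', q'', hq''e, hq''s⟩ := hY'V.atlas
  have hpr₁e : RepWith @Etale (pullback.fst g q) :=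
    (RepWith @Etale).of_isPullback (IsPullback.of_hasPullback g q).flip hqe
  have hpr₁s : RepWith @Surjective (pullback.fst g q) :=
    (RepWith @Surjective).of_isPullback (IsPullback.of_hasPullback g q).flip hqs
  have hq'e : RepWith @Etale (q'' ≫ pullback.fst g q) := (RepWith @Etale).comp_mem _ _ hq''e hpr₁e
  have hq's : RepWith @Surjective (q'' ≫ pullback.fst g q) :=
    (RepWith @Surjective).comp_mem _ _ hq''s hpr₁s
  obtain ⟨ν, hν⟩ := (yon S).map_surjective (q'' ≫ pullback.snd g q)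
  set q' := q'' ≫ pullback.fst g q with hq'
  have eq1 : q' ≫ g = (yon S).map ν ≫ q := by
    rw [hq', Category.assoc, pullback.condition, ← Category.assoc, hν]
  have big : IsPullback (pullback.fst f' q' ≫ g') (pullback.snd f' q') f ((yon S).map ν ≫ q) := by
    rw [← eq1]
    exact (IsPullback.of_hasPullback f' q').paste_horiz sq'
  have sqXV := IsPullback.of_hasPullback f q
  have hbigw : (pullback.fst f' q' ≫ g') ≫ f = (pullback.snd f' q' ≫ (yon S).map ν) ≫ q := by
    rw [Category.assoc _ _ q]; exact big.w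
  have right : IsPullback (sqXV.lift _ _ hbigw) (pullback.snd f' q') (pullback.snd f q)
      ((yon S).map ν) := by
    refine IsPullback.of_right ?_ (sqXV.lift_snd _ _ hbigw) sqXV
    rw [sqXV.lift_fst]
    exact big
  set ρ := sqXV.lift _ _ hbigw with hρ
  have sqU : IsPullback ((yon S).map (pullback.fst h₀ ν)) ((yon S).map (pullback.snd h₀ ν))
      (r ≫ pullback.snd f q) ((yon S).map ν) := by
    rw [hh]
    exact (IsPullback.of_hasPullback h₀ ν).map (yon S)
  have hw : ((yon S).map (pullback.fst h₀ ν) ≫ r) ≫ pullback.snd f q =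
      (yon S).map (pullback.snd h₀ ν) ≫ (yon S).map ν := by
    rw [Category.assoc]; exact sqU.w
  have left : IsPullback (right.lift _ _ hw) ((yon S).map (pullback.fst h₀ ν)) ρ r := by
    refine IsPullback.of_right ?_ (right.lift_fst _ _ hw) right.flip
    rw [right.lift_snd]
    exact sqU.flip
  have hr'e : RepWith @Etale (right.lift _ _ hw) :=
    (RepWith @Etale).of_isPullback left.flip hre
  have hr's : RepWith @Surjective (right.lift _ _ hw) :=
    (RepWith @Surjective).of_isPullback left.flip hrs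
  have hfstq : RepWith @Etale (pullback.fst f q) :=
    (RepWith @Etale).of_isPullback (IsPullback.of_hasPullback f q).flip hqe
  have hfstq'e : RepWith @Etale (pullback.fst f' q') :=
    (RepWith @Etale).of_isPullback (IsPullback.of_hasPullback f' q').flip hq'e
  have hfstq's : RepWith @Surjective (pullback.fst f' q') :=
    (RepWith @Surjective).of_isPullback (IsPullback.of_hasPullback f' q').flip hq's
  refine ⟨V₀, U₀, V₀', q, r ≫ pullback.fst f q, h₀, ν, q', right.lift _ _ hw ≫ pullback.fst f' q',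
    hqe, (RepWith @Etale).comp_mem _ _ hre hfstq, ?_, hP₀, hq'e,
    (RepWith @Etale).comp_mem _ _ hr'e hfstq'e, (RepWith @Surjective).comp_mem _ _ hr's hfstq's,
    ?_, ?_⟩
  · rw [Category.assoc, pullback.condition, ← Category.assoc, hh]
  · rw [Category.assoc, pullback.condition, ← Category.assoc, right.lift_snd]
  · rw [Category.assoc, ← sqXV.lift_fst _ _ hbigw, ← hρ, ← Category.assoc, left.w, Category.assoc]

/-- The property "locally of finite type and formally unramified". -/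
abbrev PU : MorphismProperty Scheme.{u} := @LocallyOfFiniteType ⊓ @FormallyUnramified

lemma pU_iff ⦃A B : Scheme.{u}⦄ (g : A ⟶ B) :
    PU g ↔ (LocallyOfFiniteType g ∧ FormallyUnramified g) := Iff.rfl

lemma pU_listed : (PU.{u} = @LocallyOfFiniteType ∨ PU.{u} = @LocallyOfFinitePresentation ∨
      PU.{u} = @Flat ∨ PU.{u} = @Smooth ∨ PU.{u} = @Etale ∨
      (∀ ⦃A B : Scheme.{u}⦄ (g : A ⟶ B), PU g ↔ (LocallyQuasiFinite g ∧ LocallyOfFiniteType g)) ∨
      (∀ ⦃A B : Scheme.{u}⦄ (g : A ⟶ B), PU g ↔ (LocallyOfFiniteType g ∧ FormallyUnramified g))) :=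
  Or.inr (Or.inr (Or.inr (Or.inr (Or.inr (Or.inr pU_iff)))))

/-- The unramified locus of a morphism of algebraic spaces (as a set of points). -/
def unramLocus {X Y : Sp S} (f : X ⟶ Y) : Set (Points X) :=
  {x | HasAtMor (fun U _ h u => ∃ W : U.Opens, u ∈ W ∧ PU (W.ι ≫ h)) f x}

theorem isOpen_unramLocus {X Y : Sp S} (hX : IsAlgSpace X) (hY : IsAlgSpace Y) (f : X ⟶ Y) :
    IsOpen (unramLocus f) := by
  rw [isOpen_iff_forall_mem_open]
  intro x hx
  obtain ⟨X₁, j, hX₁, hj, hxj, hloc⟩ :=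
    (hasAtMor_nbhd_iff_exists_open_subspace PU pU_listed hX hY f x).1 hx
  refine ⟨Set.range (Points.map j), ?_, ?_, hxj⟩
  · rintro _ ⟨x₁, rfl⟩
    exact (hasAtMor_nbhd_iff_exists_open_subspace PU pU_listed hX hY f _).2
      ⟨X₁, j, hX₁, hj, ⟨x₁, rfl⟩, hloc⟩
  · obtain ⟨U, q, hqe, hqs⟩ := hX.atlas
    exact (isOpenMor_of_repWith j (P := @IsOpenImmersion)
      (fun φ hφ => by haveI := hφ; exact φ.isOpenEmbedding.isOpenMap) hj q hqe hqs).isOpen_range

/-- Descent of unramifiedness at a point along an arbitrary base change. -/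
theorem mem_unramLocus_of_isPullback_of_locP {X Y X' Y' : Sp S}
    (hX : IsAlgSpace X) (hY : IsAlgSpace Y) (hY' : IsAlgSpace Y')
    {f : X ⟶ Y} {g : Y' ⟶ Y} {f' : X' ⟶ Y'} {g' : X' ⟶ X} (sq' : IsPullback g' f' f g)
    (hf : LocP @LocallyOfFiniteType f) (hf' : LocP PU f') (x' : Points X') :
    Points.map g' x' ∈ unramLocus f := by
  obtain ⟨V₀, U₀, V₀', q, a, h₀, ν, q', a', hqe, hae, hcomm, hlft, hq'e, ha'e, ha's, hcomm',
    hcompat⟩ := exists_compatible_charts hX hY hY' sq' hf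
  obtain ⟨u', rfl⟩ := surjective_ofPt a' ha's x'
  have hP' : PU (pullback.snd h₀ ν).left := hf' a' q' (pullback.snd h₀ ν) ha'e hq'e hcomm'
  haveI : LocallyOfFiniteType h₀.left := hlft
  have sqS : IsPullback (pullback.fst h₀ ν).left (pullback.snd h₀ ν).left h₀.left ν.left :=
    (IsPullback.of_hasPullback h₀ ν).map (Over.forget S)
  have h1 : UnramLocus.UnrAt (pullback.snd h₀ ν).left u' := by
    haveI : FormallyUnramified (pullback.snd h₀ ν).left := hP'.2
    exact ⟨⊤, trivial, inferInstance⟩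
  have h2 : UnramLocus.UnrAt h₀.left ((pullback.fst h₀ ν).left u') :=
    (UnramLocus.unrAt_iff_of_isPullback sqS u').1 h1
  obtain ⟨W, huW, hW⟩ := h2
  refine ⟨U₀, V₀, a, q, h₀, (pullback.fst h₀ ν).left u', hae, hqe, hcomm, ?_, W, huW, ?_, hW⟩
  · rw [Points.map_ofPt, hcompat, ofPt_comp_yon_map]
  · exact inferInstanceAs (LocallyOfFiniteType (W.ι ≫ h₀.left))

end Groth.Agent.Helper16.UnramSp
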