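import Groth.Agent.Lib.Helper16.AlgSp.UnramSp
import Groth.Agent.Lib.Helper16.AlgSp.LargestOpen

set_option autoImplicit false
set_option linter.style.haveILetI false
universe u
open CategoryTheory CategoryTheory.Limits AlgebraicGeometry MorphismProperty Opposite
open AlgSp Groth.Agent.Helper15

noncomputable section

namespace Groth.Agent.Helper16.UnramSp

open Groth.Agent.Helper16.AS

variable {S : Scheme.{u}}

theorem locP_lft_of_comp {X Y Z : Sp S} (hZ : IsAlgSpace Z) (f : X ⟶ Y) (q : Y ⟶ Z)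
    (h : LocP @LocallyOfFiniteType (f ≫ q)) : LocP @LocallyOfFiniteType f := by
  have hq : LocP (⊤ : MorphismProperty Scheme.{u}) q := fun _ _ _ _ _ _ _ _ => trivial
  refine locP_of_comp (P := @LocallyOfFiniteType) (P' := @LocallyOfFiniteType)
    (Q := (⊤ : MorphismProperty Scheme.{u})) ?_ hZ f q h hq
  intro A B C φ ψ hφψ _
  haveI : LocallyOfFiniteType (φ ≫ ψ) := hφψ
  exact locallyOfFiniteType_of_comp φ ψ

/-- Ascent: base change preserves the unramified locus. -/
theorem mem_unramLocus_of_isPullback {X Y X' Y' : Sp S}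
    (hX : IsAlgSpace X) (hY : IsAlgSpace Y) (hX' : IsAlgSpace X') (hY' : IsAlgSpace Y')
    {f : X ⟶ Y} {g : Y' ⟶ Y} {f' : X' ⟶ Y'} {g' : X' ⟶ X} (sq' : IsPullback g' f' f g)
    (x' : Points X') (hx : Points.map g' x' ∈ unramLocus f) : x' ∈ unramLocus f' := by
  obtain ⟨X₁, j, hX₁, hj, ⟨x₁, hx₁⟩, hloc⟩ :=
    (hasAtMor_nbhd_iff_exists_open_subspace PU pU_listed hX hY f _).1 hx
  have sqj := IsPullback.of_hasPullback g' j
  have hj' : RepWith @IsOpenImmersion (pullback.fst g' j) :=
    (RepWith @IsOpenImmersion).of_isPullback sqj.flip hj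
  have hX₁' : IsAlgSpace (pullback g' j) := isAlgSpace_pullback hX' hX hX₁ g' j
  obtain ⟨p, hp1, -⟩ := exists_point_of_isPullback sqj x' x₁ hx₁.symm
  have big : IsPullback (pullback.snd g' j) (pullback.fst g' j ≫ f') (j ≫ f) g :=
    sqj.flip.paste_vert sq'
  have hloc' : LocP PU (pullback.fst g' j ≫ f') :=
    locP_listed_of_isPullback PU pU_listed hX₁ hY hY' big hloc
  exact (hasAtMor_nbhd_iff_exists_open_subspace PU pU_listed hX' hY' f' x').2
    ⟨_, pullback.fst g' j, hX₁', hj', ⟨p, hp1⟩, hloc'⟩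

/-- Where a morphism is unramified: the universal open of the base. -/
theorem where_unramified {X Y Z : Sp S} (hX : IsAlgSpace X) (hY : IsAlgSpace Y)
    (hZ : IsAlgSpace Z) (f : X ⟶ Y) (p : X ⟶ Z) (q : Y ⟶ Z) (hc : f ≫ q = p)
    (hp1 : LocP @LocallyOfFiniteType p) (hp2 : IsClosedMor p) :
    ∃ (W : Sp S) (w : W ⟶ Z), IsAlgSpace W ∧ RepWith @IsOpenImmersion w ∧
      ∀ (Z' : Sp S) (g : Z' ⟶ Z), IsAlgSpace Z' →
        ((∃ k : Z' ⟶ W, k ≫ w = g) ↔
          ∀ (Y' : Sp S) (gY : Y' ⟶ Y) (q' : Y' ⟶ Z'), IsAlgSpace Y' →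
            IsPullback gY q' q g →
            ∀ (X' : Sp S) (gX : X' ⟶ X) (f' : X' ⟶ Y'), IsAlgSpace X' →
              IsPullback gX f' f gY → LocP PU f') := by
  have hflft : LocP @LocallyOfFiniteType f := locP_lft_of_comp hZ f q (hc ▸ hp1)
  have hopen := isOpen_unramLocus hX hY f
  have hclosed : IsClosed (Points.map p '' (unramLocus f)ᶜ) := hp2 _ hopen.isClosed_compl
  obtain ⟨W, w, hW, hw, hrange⟩ := exists_open_subspace_of_isOpen hZ _ hclosed.isOpen_compl
  refine ⟨W, w, hW, hw, ?_⟩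
  intro Z' g hZ'
  rw [factors_through_open_iff w hw g, hrange]
  constructor
  · intro hsub Y' gY q' hY' sqY X' gX f' hX' sqX
    rw [locP_listed_iff_forall_hasAtMor_nbhd PU pU_listed hX' hY' f']
    intro x'
    apply mem_unramLocus_of_isPullback hX hY hX' hY' sqX x'
    by_contra hx
    have hmem : Points.map g (Points.map q' (Points.map f' x')) ∈
        (Points.map p '' (unramLocus f)ᶜ)ᶜ := hsub ⟨_, rfl⟩
    apply hmem
    refine ⟨Points.map gX x', hx, ?_⟩
    rw [← Points.map_comp, ← Points.map_comp, ← Points.map_comp, ← hc, ← Category.assoc,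
      sqX.w, Category.assoc, sqY.w]
  · intro h
    have sqY := IsPullback.of_hasPullback q g
    have hY' : IsAlgSpace (pullback q g) := isAlgSpace_pullback hY hZ hZ' q g
    have sqX := IsPullback.of_hasPullback f (pullback.fst q g)
    have hX' : IsAlgSpace (pullback f (pullback.fst q g)) :=
      isAlgSpace_pullback hX hY hY' f (pullback.fst q g)
    have hloc := h _ _ _ hY' sqY _ _ _ hX' sqX
    rintro _ ⟨z', rfl⟩ ⟨x, hx, hxz⟩
    have big : IsPullback (pullback.fst f (pullback.fst q g))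
        (pullback.snd f (pullback.fst q g) ≫ pullback.snd q g) (f ≫ q) g :=
      sqX.paste_vert sqY
    rw [hc] at big
    obtain ⟨x', hx'1, -⟩ := exists_point_of_isPullback big x z' hxz
    apply hx
    rw [← hx'1]
    exact mem_unramLocus_of_isPullback_of_locP hX hY hY' sqX hflft hloc x'

end Groth.Agent.Helper16.UnramSp
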