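import Groth.Agent.Lib.Helper15.AlgSpOpen
import Groth.Agent.Lib.Helper15.AlgSpTop
import Groth.Agent.Lib.Helper16.Sch.QcDesc

set_option autoImplicit false
universe u
open CategoryTheory CategoryTheory.Limits AlgebraicGeometry MorphismProperty Opposite TopologicalSpace
open AlgSp

namespace Groth.Agent.Helper16.AS
open Groth.Agent.Helper15

variable {S : Scheme.{u}}

/-- If both projections of the kernel pair of a representable etale surjective chart
are quasi-compact, then the chart is quasi-compact. -/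
theorem repWith_quasiCompact_of_kernelPair {F : Sp S} {U : Over S} (a : (yon S).obj U ⟶ F)
    (hae : RepWith @Etale a) (has : RepWith @Surjective a)
    (hqc : ∀ (R : Over S) (s t : R ⟶ U),
      IsPullback ((yon S).map t) ((yon S).map s) a a → QuasiCompact s.left) :
    RepWith @QuasiCompact a := by
  refine ⟨hae.rep, fun T P g fst snd sq1 => ?_⟩
  obtain ⟨fst₀, rfl⟩ := (yon S).map_surjective fst
  -- snd is etale surjective
  haveI hse : Etale snd.left := hae.property g _ _ sq1
  haveI hss : Surjective snd.left := has.property g _ _ sq1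
  -- P₂ = P ×_T P
  have sq2 : IsPullback (pullback.fst snd snd) (pullback.snd snd snd) snd snd :=
    IsPullback.of_hasPullback _ _
  have sq2y := sq2.map (yon S)
  -- paste
  have big : IsPullback ((yon S).map (pullback.fst snd snd) ≫ (yon S).map fst₀)
      ((yon S).map (pullback.snd snd snd)) a ((yon S).map snd ≫ g) := sq2y.paste_horiz sq1
  rw [← sq1.w] at big
  -- kernel pair
  have hrep := hae.rep
  have sqR := hrep.isPullback' a
  have hsR : QuasiCompact (hrep.snd a).left := hqc _ _ _ sqR
  let l := sqR.lift ((yon S).map (pullback.fst snd snd) ≫ (yon S).map fst₀)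
    ((yon S).map (pullback.snd snd snd) ≫ (yon S).map fst₀) big.w
  have sqL : IsPullback l ((yon S).map (pullback.snd snd snd)) ((yon S).map (hrep.snd a))
      ((yon S).map fst₀) := by
    refine IsPullback.of_right ?_ (sqR.lift_snd _ _ _) sqR
    rw [sqR.lift_fst]; exact big
  obtain ⟨l₀, hl₀⟩ := (yon S).map_surjective l
  rw [← hl₀] at sqL
  have hπ : QuasiCompact (pullback.snd snd snd).left :=
    ((repWith_yon_map_iff @QuasiCompact (hrep.snd a)).2 hsR).property _ _ _ sqL
  haveI : QuasiCompact ((Over.forget S).map (pullback.snd snd snd)) := hπ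
  have sq2s := sq2.map (Over.forget S)
  exact Groth.Agent.Helper16.QcDesc.quasiCompact_of_isPullback_of_surjective_of_isOpenMap sq2s
    snd.left.surjective snd.left.isOpenMap

theorem veryReasonable_iff (X : Space S) :
    (∃ (ι : Type u) (Xi : ι → Space S) (j : ∀ i, Xi i ⟶ X) (U : ι → Over S)
        (a : ∀ i, (yon S).obj (U i) ⟶ (Xi i).obj),
        IsZarCover (fun i => (Xi i).obj) (fun i => (j i).hom) ∧
          ∀ i, RepWith @Etale (a i) ∧ RepWith @Surjective (a i) ∧ RepWith @QuasiCompact (a i)) ↔
      ∃ (ι : Type u) (U : ι → Over S) (φ : ∀ i, (yon S).obj (U i) ⟶ X.obj),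
        (∀ i, RepWith @Etale (φ i)) ∧
          (∀ x : Points X.obj, ∃ (i : ι) (v : ↥(U i).left), Points.ofPt (φ i) v = x) ∧
          ∀ (i : ι) (R : Over S) (s t : R ⟶ U i),
            IsPullback ((yon S).map t) ((yon S).map s) (φ i) (φ i) →
              QuasiCompact s.left ∧ QuasiCompact t.left := by
  constructor
  · rintro ⟨ι, Xi, j, U, a, hj, ha⟩
    refine ⟨ι, U, fun i => a i ≫ (j i).hom, fun i => ?_, fun x => ?_, fun i R s t sq => ?_⟩
    · exact (RepWith @Etale).comp_mem _ _ (ha i).1 (repWith_mono isOpenImmersion_le_etale (hj.1 i))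
    · obtain ⟨i, xi, rfl⟩ := hj.2 x
      obtain ⟨v, rfl⟩ := surjective_ofPt (a i) (ha i).2.1 xi
      exact ⟨i, v, (Points.map_ofPt _ _ _).symm⟩
    · haveI : Mono (j i).hom := mono_of_repWith isOpenImmersion_le_mono _ (hj.1 i)
      have sq' : IsPullback ((yon S).map t) ((yon S).map s) (a i) (a i) :=
        isPullback_of_comp_mono (j i).hom sq
      exact ⟨(ha i).2.2.property (a i) _ s sq', (ha i).2.2.property (a i) _ t sq'.flip⟩
  · rintro ⟨ι, U, φ, hφ, hsurj, hqc⟩
    have hO := fun i => openSubspace_of_etale X.property (φ i) (hφ i)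
    refine ⟨ι, fun i => ⟨Sheaf.image (φ i), (hO i).1⟩,
      fun i => ObjectProperty.homMk (Sheaf.imageι (φ i)), U, fun i => Sheaf.toImage (φ i),
      ⟨fun i => (hO i).2.1, fun x => ?_⟩, fun i => ⟨(hO i).2.2.1, (hO i).2.2.2.1, ?_⟩⟩
    · obtain ⟨i, v, rfl⟩ := hsurj x
      refine ⟨i, ?_⟩
      show _ ∈ Set.range (Points.map (Sheaf.imageι (φ i)))
      rw [(hO i).2.2.2.2]
      exact ⟨v, rfl⟩
    · refine repWith_quasiCompact_of_kernelPair _ (hO i).2.2.1 (hO i).2.2.2.1 ?_
      intro R s t sq
      have sq' : IsPullback ((yon S).map t) ((yon S).map s) (φ i) (φ i) := by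
        have := isPullback_comp_mono (Sheaf.imageι (φ i)) sq
        rwa [Sheaf.toImage_ι] at this
      exact (hqc i R s t sq').1

end Groth.Agent.Helper16.AS
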